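import Mathlib
import Groth.Prelude.Def_Flat
import Groth.Agent.WeilLib.Dim

/-!
# Points of schemes over a field all of whose components have one dimension
-/

set_option autoImplicit false

universe u

open CategoryTheory AlgebraicGeometry TopologicalSpace Topology

namespace FibDimLib

section Order

attribute [local instance] specializationOrder

/-- Dimensions of sober spaces are computed by chains of specializations. -/
theorem topologicalKrullDim_eq_krullDim' {A : Type*} [TopologicalSpace A] [T0Space A] [QuasiSober A] :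
    topologicalKrullDim A = Order.krullDim A :=
  Order.krullDim_eq_of_orderIso (irreducibleSetEquivPoints (α := A))

/-- A chain of specializations indexed by `Fin (n + 1)`. -/
def IsSpecChain {A : Type*} [TopologicalSpace A] {n : ℕ} (c : Fin (n + 1) → A) : Prop :=
  Function.Injective c ∧ ∀ i j, i ≤ j → c i ⤳ c j

theorem IsSpecChain.le_topologicalKrullDim {A : Type*} [TopologicalSpace A] [T0Space A] [QuasiSober A]
    {n : ℕ} {c : Fin (n + 1) → A} (hc : IsSpecChain c) : (n : WithBot ℕ∞) ≤ topologicalKrullDim A := by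
  rw [topologicalKrullDim_eq_krullDim']
  refine le_iSup_of_le (⟨n, fun i ↦ c i.rev, fun i ↦ ?_⟩ : LTSeries A) le_rfl
  have h : i.succ.rev < i.castSucc.rev := Fin.rev_lt_rev.mpr (Fin.castSucc_lt_succ)
  exact lt_of_le_of_ne (α := A) (show c i.succ.rev ⤳ c i.castSucc.rev from hc.2 _ _ h.le)
    fun e ↦ h.ne (hc.1 e).symm

theorem exists_specChain {A : Type*} [TopologicalSpace A] [T0Space A] [QuasiSober A]
    {n : ℕ} (h : (n : WithBot ℕ∞) ≤ topologicalKrullDim A) : ∃ c : Fin (n + 1) → A, IsSpecChain c := by
  rw [topologicalKrullDim_eq_krullDim'] at h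
  obtain ⟨l, hl⟩ := Order.le_krullDim_iff.mp h
  subst hl
  refine ⟨fun i ↦ l i.rev, fun i j e ↦ Fin.rev_injective (l.strictMono.injective e), fun i j hij ↦ ?_⟩
  exact (l.strictMono.monotone (Fin.rev_le_rev.mpr hij) : l j.rev ≤ l i.rev)

end Order

/-- All irreducible components of `A` have dimension `e`. -/
def IsPureDim (A : Type*) [TopologicalSpace A] (e : ℕ) : Prop :=
  ∀ Z ∈ irreducibleComponents A, topologicalKrullDim Z = (e : WithBot ℕ∞)

/-- A space with all components of dimension `e` has dimension at most `e`. -/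
theorem IsPureDim.topologicalKrullDim_le {A : Type*} [TopologicalSpace A] [T0Space A] [QuasiSober A]
    {e : ℕ} (h : IsPureDim A e) : topologicalKrullDim A ≤ e := by
  refine iSup_le fun l ↦ ?_
  obtain ⟨Z, hZ, hlZ⟩ := exists_mem_irreducibleComponents_subset_of_isIrreducible _ l.last.2
  have hsub : ∀ i, (l i : Set A) ⊆ Z := fun i ↦
    fun a ha ↦ hlZ ((l.monotone (Fin.le_last i) : l i ≤ l.last) ha)
  rw [← h Z hZ]
  have hcl : IsClosed Z := isClosed_of_mem_irreducibleComponents Z hZ
  let r (i : Fin (l.length + 1)) : IrreducibleCloseds Z :=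
    { carrier := Subtype.val ⁻¹' (l i : Set A)
      isIrreducible' := by
        refine ⟨?_, ?_⟩
        · obtain ⟨a, ha⟩ := (l i).2.nonempty
          exact ⟨⟨a, hsub i ha⟩, ha⟩
        · rintro u v ⟨u', hu', rfl⟩ ⟨v', hv', rfl⟩ ⟨a, ha, hau⟩ ⟨b, hb, hbv⟩
          obtain ⟨z, hz, hzu, hzv⟩ := (l i).2.2 u' v' hu' hv' ⟨a.1, ha, hau⟩ ⟨b.1, hb, hbv⟩
          exact ⟨⟨z, hsub i hz⟩, hz, hzu, hzv⟩
      isClosed' := (l i).3.preimage continuous_subtype_val }
  refine le_iSup_of_le (LTSeries.mk l.length r ?_) le_rfl
  intro i j hij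
  have := l.strictMono hij
  refine lt_of_le_of_ne (Set.preimage_mono (fun a ha ↦ this.le ha) : r i ≤ r j) fun e ↦ this.ne (IrreducibleCloseds.ext ?_)
  have e' := congrArg (fun s : IrreducibleCloseds Z ↦ Subtype.val '' (s : Set Z)) e
  simpa [r, Subtype.image_preimage_coe, Set.inter_eq_right.mpr (hsub i),
    Set.inter_eq_right.mpr (hsub j)] using e'

variable {k : Type u} [Field k]

/-- An open immersion does not change residue fields. -/
theorem residueDegree_of_isOpenImmersion {X Y : Scheme.{u}} (f : X ⟶ Y) [IsOpenImmersion f] (x : X) :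
    f.residueDegree x ≠ 0 := by
  have hb : Function.Bijective (f.residueFieldMap x).hom :=
    ConcreteCategory.bijective_of_isIso (f.residueFieldMap x)
  letI := (f.residueFieldMap x).hom.toAlgebra
  let e : Y.residueField (f x) ≃ₐ[Y.residueField (f x)] X.residueField x :=
    AlgEquiv.ofBijective (Algebra.ofId _ _) hb
  show Module.finrank (Y.residueField (f x)) (X.residueField x) ≠ 0
  rw [← e.toLinearEquiv.finrank_eq, Module.finrank_self]
  exact one_ne_zero

/-- Open neighbourhoods of a point meet its closure in full dimension. -/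
theorem topologicalKrullDim_closure_open (F : Over (Spec (CommRingCat.of k)))
    [LocallyOfFiniteType F.hom] (W : F.left.Opens) (w : W) :
    topologicalKrullDim (closure ({w} : Set W)) =
      topologicalKrullDim (closure ({(w : F.left)} : Set F.left)) := by
  let F' : Over (Spec (CommRingCat.of k)) := Over.mk (W.ι ≫ F.hom)
  let j : F' ⟶ F := Over.homMk W.ι
  have : LocallyOfFiniteType F'.hom := inferInstanceAs (LocallyOfFiniteType (W.ι ≫ F.hom))
  obtain ⟨s, hs, -⟩ := WeilLib.pdim_eq_trdeg F' w
  obtain ⟨t, ht, -⟩ := WeilLib.pdim_eq_trdeg F (w : F.left)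
  have h := WeilLib.pdim_eq_of_residueDegree_ne_zero j w
    (residueDegree_of_isOpenImmersion W.ι w)
  change WeilCoh.natDim _ = WeilCoh.natDim _ at h
  have e1 : topologicalKrullDim (closure ({w} : Set W)) = s := hs
  have e2 : topologicalKrullDim (closure ({(w : F.left)} : Set F.left)) = t := ht
  have hst : s = t := by
    simpa [WeilCoh.natDim, e1, e2] using (show WeilCoh.natDim (closure ({w} : Set W)) =
      WeilCoh.natDim (closure ({(w : F.left)} : Set F.left)) from h)
  rw [e1, e2, hst]

/-- A component contains chains of full length in every open set through its generic point. -/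
theorem IsPureDim.exists_chain {F : Scheme.{u}} (q : F ⟶ Spec (CommRingCat.of k))
    [LocallyOfFiniteType q] {e : ℕ} (h : IsPureDim F e) {g : F}
    (hg : closure {g} ∈ irreducibleComponents F) (W : F.Opens) (hgW : g ∈ W) :
    ∃ c : Fin (e + 1) → F, IsSpecChain c ∧ ∀ i, c i ∈ W ∧ g ⤳ c i := by
  let g' : W := ⟨g, hgW⟩
  have : LocallyOfFiniteType (Over.mk q).hom := ‹LocallyOfFiniteType q›
  have hd : topologicalKrullDim (closure ({g'} : Set W)) = (e : WithBot ℕ∞) :=
    (topologicalKrullDim_closure_open (Over.mk q) W g').trans (h _ hg)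
  have : QuasiSober ↥W := inferInstanceAs (QuasiSober (W : Scheme.{u}))
  have : QuasiSober (closure ({g'} : Set W)) :=
    isClosed_closure.isClosedEmbedding_subtypeVal.quasiSober
  obtain ⟨c, hc⟩ := exists_specChain hd.ge
  refine ⟨fun i ↦ (c i).1.1, ⟨fun i j he ↦ hc.1 (Subtype.ext (Subtype.ext he)),
    fun i j hij ↦ ((hc.2 i j hij).map continuous_subtype_val).map continuous_subtype_val⟩,
    fun i ↦ ⟨(c i).1.2, ?_⟩⟩
  exact (specializes_iff_mem_closure.mpr (c i).2).map continuous_subtype_val

/-- On a scheme over a field with all components of dimension `e`, local dimensions are `e`. -/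
theorem IsPureDim.localDim_eq {F : Scheme.{u}} (q : F ⟶ Spec (CommRingCat.of k))
    [LocallyOfFiniteType q] {e : ℕ} (h : IsPureDim F e) (a : F) : FlatMor.localDim F a = e := by
  refine le_antisymm ?_ (le_iInf fun U ↦ ?_)
  · exact (iInf_le _ ⟨⊤, trivial⟩).trans
      ((topologicalKrullDim_subspace_le F _).trans h.topologicalKrullDim_le)
  · let Z := irreducibleComponent a
    have hZ : IsIrreducible Z := isIrreducible_irreducibleComponent
    have hgen := hZ.isGenericPoint_genericPoint_closure
    rw [closure_eq_iff_isClosed.mpr isClosed_irreducibleComponent] at hgen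
    have hgU : hZ.genericPoint ∈ U.1 :=
      (hgen.specializes mem_irreducibleComponent).mem_open U.1.isOpen U.2
    obtain ⟨c, hc, hcW⟩ := h.exists_chain q
      (g := hZ.genericPoint) (hgen.def.symm ▸ irreducibleComponent_mem_irreducibleComponents a) U.1 hgU
    have : QuasiSober ↥(U.1 : F.Opens) := inferInstanceAs (QuasiSober (U.1 : Scheme.{u}))
    refine IsSpecChain.le_topologicalKrullDim (c := fun i ↦ (⟨c i, (hcW i).1⟩ : (U.1 : Set F)))
      ⟨fun i j he ↦ hc.1 (congrArg Subtype.val he), fun i j hij ↦ ?_⟩
    exact IsInducing.subtypeVal.specializes_iff.mp (hc.2 i j hij)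

end FibDimLib
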