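import Mathlib
import Groth.Agent.FibDimLib.Pure
import Groth.Agent.DvrDom.Points

/-!
# Local dimensions of schemes over a field
-/

set_option autoImplicit false

universe u

open CategoryTheory AlgebraicGeometry TopologicalSpace Topology

namespace FibDimLib

/-- A maximal point is the generic point of a component. -/
theorem closure_mem_irreducibleComponents_of_max {A : Type*} [TopologicalSpace A] [T0Space A]
    [QuasiSober A] {g : A} (h : ∀ z, z ⤳ g → z = g) : closure {g} ∈ irreducibleComponents A := by
  let Z := irreducibleComponent g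
  have hZ : IsIrreducible Z := isIrreducible_irreducibleComponent
  have hg := hZ.isGenericPoint_genericPoint_closure
  rw [closure_eq_iff_isClosed.mpr isClosed_irreducibleComponent] at hg
  rw [← h _ (hg.specializes mem_irreducibleComponent), hg.def]
  exact irreducibleComponent_mem_irreducibleComponents g

theorem eq_of_specializes_of_closure_mem {A : Type*} [TopologicalSpace A] [T0Space A]
    {g z : A} (hg : closure {g} ∈ irreducibleComponents A) (h : z ⤳ g) : z = g :=
  (h.antisymm (specializes_iff_mem_closure.mpr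
    (hg.2 isIrreducible_singleton.closure h.closure_subset (subset_closure rfl)))).eq

/-- Near a point, a locally noetherian scheme is covered by the components through the point. -/
theorem exists_nhd_components {F : Scheme.{u}} [IsLocallyNoetherian F] (x : F) :
    ∃ (U : F.Opens) (G : Set F), x ∈ U ∧ G.Finite ∧ (∀ g ∈ G, closure {g} ∈ irreducibleComponents F ∧ g ⤳ x) ∧
      ∀ y ∈ U, ∃ g ∈ G, g ⤳ y := by
  obtain ⟨W, hW, hxW, -⟩ := exists_isAffineOpen_mem_and_subset (x := x) (U := ⊤) trivial
  let M : Set F := {g | g ∈ W ∧ closure {g} ∈ irreducibleComponents F}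
  have hM : M.Finite := by
    have : CompactSpace (W : Scheme.{u}) := isCompact_iff_compactSpace.mp hW.isCompact
    have : IsNoetherian (W : Scheme.{u}) := {}
    have hfin := NoetherianSpace.finite_irreducibleComponents (α := ↥(W : Scheme.{u}))
    refine Set.Finite.of_finite_image (f := fun g ↦ (W.ι.base) ⁻¹' closure {g}) (hfin.subset ?_) ?_
    · rintro _ ⟨g, ⟨hgW, hg⟩, rfl⟩
      exact preimage_mem_irreducibleComponents hg W.ι.isOpenEmbedding
        ⟨g, subset_closure rfl, by rw [W.range_ι]; exact hgW⟩
    · intro a ha b hb hab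
      have h1 : (⟨a, ha.1⟩ : W) ∈ W.ι.base ⁻¹' closure {b} :=
        (Set.ext_iff.mp (hab : W.ι.base ⁻¹' closure {a} = W.ι.base ⁻¹' closure {b}) ⟨a, ha.1⟩).mp
          (subset_closure rfl : a ∈ closure {a})
      exact (eq_of_specializes_of_closure_mem ha.2 (specializes_iff_mem_closure.mpr h1)).symm
  let B : Set F := ⋃ g ∈ {g ∈ M | ¬ g ⤳ x}, closure {g}
  have hB : IsClosed B := (hM.subset fun _ h ↦ h.1).isClosed_biUnion fun _ _ ↦ isClosed_closure
  refine ⟨⟨(W : Set F) \ B, W.isOpen.sdiff hB⟩, {g ∈ M | g ⤳ x}, ⟨hxW, ?_⟩,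
    hM.subset fun _ h ↦ h.1, fun g hg ↦ ⟨hg.1.2, hg.2⟩, ?_⟩
  · simp only [B, Set.mem_iUnion, not_exists]
    exact fun g hg hx ↦ hg.2 (specializes_iff_mem_closure.mpr hx)
  · rintro y ⟨hyW, hyB⟩
    obtain ⟨g, hg, hgy⟩ := DvrDomLib.exists_generic_specializes y
    have hgM : g ∈ M := ⟨hgy.mem_open W.isOpen hyW, hg⟩
    refine ⟨g, ⟨hgM, ?_⟩, hgy⟩
    by_contra hgx
    exact hyB (Set.mem_biUnion (x := g) ⟨hgM, hgx⟩ hgy.mem_closure)

/-- Local dimensions decrease in subspaces. -/
theorem localDim_le_of_isInducing {α β : Type*} [TopologicalSpace α] [TopologicalSpace β]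
    {e : α → β} (he : IsInducing e) (a : α) : FlatMor.localDim α a ≤ FlatMor.localDim β (e a) := by
  refine le_iInf fun W ↦ ?_
  refine (iInf_le _ ⟨⟨e ⁻¹' W.1, W.1.isOpen.preimage he.continuous⟩, W.2⟩).trans ?_
  let r : (e ⁻¹' (W.1 : Set β) : Set α) → (W.1 : Set β) := fun z ↦ ⟨e z.1, z.2⟩
  have hr : IsInducing r := IsInducing.of_comp
    ((he.continuous.comp continuous_subtype_val).subtype_mk _) continuous_subtype_val
    (he.comp IsInducing.subtypeVal)
  exact hr.topologicalKrullDim_le

variable {k : Type u} [Field k]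

/-- The components through a point bound its local dimension from below. -/
theorem le_localDim_of_specializes {F : Scheme.{u}} (q : F ⟶ Spec (CommRingCat.of k))
    [LocallyOfFiniteType q] {g x : F} (h : g ⤳ x) :
    topologicalKrullDim (closure ({g} : Set F)) ≤ FlatMor.localDim F x := by
  refine le_iInf fun U ↦ ?_
  have hgU : g ∈ U.1 := h.mem_open U.1.isOpen U.2
  have : LocallyOfFiniteType (Over.mk q).hom := ‹LocallyOfFiniteType q›
  rw [← topologicalKrullDim_closure_open (Over.mk q) U.1 ⟨g, hgU⟩]
  exact topologicalKrullDim_subspace_le _ _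

/-- The local dimension is the dimension of a component through the point. -/
theorem exists_generic_localDim {F : Scheme.{u}} (q : F ⟶ Spec (CommRingCat.of k))
    [LocallyOfFiniteType q] (x : F) :
    ∃ g : F, closure {g} ∈ irreducibleComponents F ∧ g ⤳ x ∧
      FlatMor.localDim F x = topologicalKrullDim (closure ({g} : Set F)) := by
  have : IsLocallyNoetherian F := LocallyOfFiniteType.isLocallyNoetherian q
  obtain ⟨U, G, hxU, hG, hGc, hcov⟩ := exists_nhd_components x
  have hne : G.Nonempty := let ⟨g, hg, _⟩ := hcov x hxU; ⟨g, hg⟩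
  obtain ⟨g, hg, hmax⟩ := hG.exists_maximalFor
    (fun g ↦ topologicalKrullDim (closure ({g} : Set F))) G hne
  refine ⟨g, (hGc g hg).1, (hGc g hg).2, le_antisymm ?_ (le_localDim_of_specializes q (hGc g hg).2)⟩
  have : LocallyOfFiniteType (Over.mk q).hom := ‹LocallyOfFiniteType q›
  obtain ⟨s, hs, -⟩ := WeilLib.pdim_eq_trdeg (Over.mk q) g
  change topologicalKrullDim (closure ({g} : Set F)) = _ at hs
  refine (iInf_le _ ⟨U, hxU⟩).trans ?_
  rw [hs]
  by_contra hlt
  have : QuasiSober ↥U := inferInstanceAs (QuasiSober (U : Scheme.{u}))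
  have hlt' : ((s + 1 : ℕ) : WithBot ℕ∞) ≤ topologicalKrullDim (U : Set F) := by
    rw [not_le] at hlt
    revert hlt
    generalize topologicalKrullDim (U : Set F) = d
    induction d with
    | bot => simp
    | coe d =>
      intro hlt
      have : (s : ℕ∞) < d := WithBot.coe_lt_coe.mp hlt
      exact WithBot.coe_le_coe.mpr (by exact_mod_cast Order.add_one_le_of_lt this)
  obtain ⟨c, hc, hcs⟩ := exists_specChain (A := ↥U) hlt'
  obtain ⟨g', hg', hgc⟩ := hcov _ (c 0).2
  have : QuasiSober (closure ({g'} : Set F)) := isClosed_closure.isClosedEmbedding_subtypeVal.quasiSober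
  have hle := IsSpecChain.le_topologicalKrullDim (c := fun i ↦
      (⟨(c i).1, (hgc.trans ((hcs 0 i (Fin.zero_le i)).map continuous_subtype_val)).mem_closure⟩ :
        closure ({g'} : Set F)))
    ⟨fun i j he ↦ hc (Subtype.ext (congrArg (fun z : closure ({g'} : Set F) ↦ z.1) he)),
      fun i j hij ↦ IsInducing.subtypeVal.specializes_iff.mp
        ((hcs i j hij).map continuous_subtype_val)⟩
  have hs' : topologicalKrullDim (closure ({g'} : Set F)) ≤ (s : WithBot ℕ∞) := by
    rcases le_total (topologicalKrullDim (closure ({g'} : Set F)))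
      (topologicalKrullDim (closure ({g} : Set F))) with h | h
    · exact h.trans hs.le
    · exact (hmax hg' h).trans hs.le
  have := hle.trans hs'
  exact absurd this (by exact_mod_cast Nat.not_succ_le_self s)

/-- At a generic point of a component the local dimension is the dimension of the component. -/
theorem localDim_eq_of_generic {F : Scheme.{u}} (q : F ⟶ Spec (CommRingCat.of k))
    [LocallyOfFiniteType q] {g : F} (hg : closure {g} ∈ irreducibleComponents F) :
    FlatMor.localDim F g = topologicalKrullDim (closure ({g} : Set F)) := by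
  obtain ⟨g', hg', hsp, hd⟩ := exists_generic_localDim q g
  have he := eq_of_specializes_of_closure_mem hg hsp
  subst he
  exact hd

/-- Local dimensions are natural numbers. -/
theorem exists_localDim_eq_nat {F : Scheme.{u}} (q : F ⟶ Spec (CommRingCat.of k))
    [LocallyOfFiniteType q] (x : F) : ∃ n : ℕ, FlatMor.localDim F x = n := by
  obtain ⟨g, -, -, hd⟩ := exists_generic_localDim q x
  have : LocallyOfFiniteType (Over.mk q).hom := ‹LocallyOfFiniteType q›
  obtain ⟨s, hs, -⟩ := WeilLib.pdim_eq_trdeg (Over.mk q) g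
  exact ⟨s, hd.trans hs⟩

end FibDimLib
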