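import Mathlib
import Groth.Prelude.Def_Flat
import Groth.Agent.RichLib.QFLocusConstructible
import Groth.Agent.CommAlgDim.Integral

/-!
# Quasi-finite maps to affine spaces at points with given fibre dimension
-/

set_option autoImplicit false

universe u

open TopologicalSpace TensorProduct

namespace FibDimLib

/-- The local dimension is attained on a basic open neighbourhood. -/
theorem exists_basicOpen_dim {F : Type u} [CommRing F] (Q : PrimeSpectrum F) :
    ∃ h : F, h ∉ Q.asIdeal ∧
      ringKrullDim (Localization.Away h) = FlatMor.localDim (PrimeSpectrum F) Q := by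
  have : Nonempty {U : Opens (PrimeSpectrum F) // Q ∈ U} := ⟨⟨⊤, trivial⟩⟩
  obtain ⟨W, hW⟩ := ciInf_mem fun U : {U : Opens (PrimeSpectrum F) // Q ∈ U} ↦
    topologicalKrullDim (U.1 : Set (PrimeSpectrum F))
  obtain ⟨_, ⟨h, rfl⟩, hQ, hsub⟩ :=
    PrimeSpectrum.isTopologicalBasis_basic_opens.exists_subset_of_mem_open W.2 W.1.isOpen
  refine ⟨h, hQ, ?_⟩
  have e : ringKrullDim (Localization.Away h) =
      topologicalKrullDim (PrimeSpectrum.basicOpen h : Set (PrimeSpectrum F)) := by
    rw [← PrimeSpectrum.topologicalKrullDim_eq_ringKrullDim]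
    have hemb := PrimeSpectrum.localization_away_isOpenEmbedding (Localization.Away h) h
    have hr := PrimeSpectrum.localization_away_comap_range (Localization.Away h) h
    exact IsHomeomorph.topologicalKrullDim_eq _
      (hemb.isEmbedding.toHomeomorph.trans (Homeomorph.setCongr hr)).isHomeomorph
  rw [e]
  refine le_antisymm ?_ (iInf_le (fun U : {U : Opens (PrimeSpectrum F) // Q ∈ U} ↦
    topologicalKrullDim (U.1 : Set (PrimeSpectrum F))) ⟨PrimeSpectrum.basicOpen h, hQ⟩)
  calc topologicalKrullDim (PrimeSpectrum.basicOpen h : Set (PrimeSpectrum F))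
      ≤ topologicalKrullDim (W.1 : Set (PrimeSpectrum F)) :=
        (Topology.IsEmbedding.inclusion hsub).isInducing.topologicalKrullDim_le
    _ = _ := hW

/-- A finite type algebra which is quasi-finite at every prime is quasi-finite. -/
theorem quasiFinite_of_forall {A B : Type u} [CommRing A] [CommRing B] [Algebra A B]
    [Algebra.FiniteType A B] (H : ∀ q : PrimeSpectrum B, Algebra.QuasiFiniteAt A q.asIdeal) :
    Algebra.QuasiFinite A B := by
  refine Algebra.QuasiFinite.iff_finite_comap_preimage_singleton.mpr fun P ↦ ?_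
  let S := PrimeSpectrum.comap (algebraMap A B) ⁻¹' {P}
  have hd : DiscreteTopology S := by
    rw [discreteTopology_iff_isOpen_singleton]
    rintro ⟨q, hq⟩
    obtain rfl : PrimeSpectrum.comap (algebraMap A B) q = P := hq
    exact (Algebra.quasiFiniteAt_iff_isOpen_singleton_fiber q).mp (H q)
  have : CompactSpace S := (PrimeSpectrum.preimageHomeomorphFiber A B P).symm.compactSpace
  exact Set.finite_coe_iff.mp (finite_of_compact_of_discrete : Finite S)

/-- Primes are compared after contraction along a map which is surjective up to units. -/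
theorem le_of_comap_le {A B : Type u} [CommRing A] [CommRing B] (f : A →+* B)
    (H : ∀ x, ∃ u : B, IsUnit u ∧ ∃ a, f a = u * x) {Q₁ Q₂ : PrimeSpectrum B}
    (h : PrimeSpectrum.comap f Q₁ ≤ PrimeSpectrum.comap f Q₂) : Q₁ ≤ Q₂ := by
  intro x hx
  obtain ⟨u, hu, a, ha⟩ := H x
  have : a ∈ (PrimeSpectrum.comap f Q₂).asIdeal := h (show f a ∈ Q₁.asIdeal by
    rw [ha]; exact Q₁.asIdeal.mul_mem_left u hx)
  have h' : u * x ∈ Q₂.asIdeal := ha ▸ this
  exact (Ideal.unit_mul_mem_iff_mem _ hu).mp h'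

/-- A point which comes from a finite algebra over a fibre is quasi-finite. -/
theorem quasiFiniteAt_of_finite_lift {P B Pk F : Type u} [CommRing P] [CommRing B] [CommRing Pk]
    [CommRing F] [Algebra P B] [Algebra.FiniteType P B] [Algebra Pk F] [Module.Finite Pk F]
    (π : P →+* Pk) (ψ : B →+* F)
    (hcomm : (algebraMap Pk F).comp π = ψ.comp (algebraMap P B))
    (hπ : ∀ x, ∃ u : Pk, IsUnit u ∧ ∃ a, π a = u * x)
    (hψ : ∀ x, ∃ u : F, IsUnit u ∧ ∃ a, ψ a = u * x)
    (hsurj : ∀ q : PrimeSpectrum B, PrimeSpectrum.comap (algebraMap P B) q ∈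
      Set.range (PrimeSpectrum.comap π) → q ∈ Set.range (PrimeSpectrum.comap ψ))
    (Q : PrimeSpectrum F) : Algebra.QuasiFiniteAt P (PrimeSpectrum.comap ψ Q).asIdeal := by
  let q₀ := PrimeSpectrum.comap ψ Q
  let r₀ := PrimeSpectrum.comap (algebraMap Pk F) Q
  have hr : ∀ Q' : PrimeSpectrum F, PrimeSpectrum.comap (algebraMap P B) (PrimeSpectrum.comap ψ Q') =
      PrimeSpectrum.comap π (PrimeSpectrum.comap (algebraMap Pk F) Q') := fun Q' ↦ by
    rw [← PrimeSpectrum.comap_comp_apply, ← PrimeSpectrum.comap_comp_apply, hcomm]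
  let S := PrimeSpectrum.comap (algebraMap P B) ⁻¹' {PrimeSpectrum.comap (algebraMap P B) q₀}
  let T := PrimeSpectrum.comap (algebraMap Pk F) ⁻¹' {r₀}
  have hST : ∀ q ∈ S, ∃ Q' ∈ T, PrimeSpectrum.comap ψ Q' = q := by
    intro q hq
    have hq' : PrimeSpectrum.comap (algebraMap P B) q = PrimeSpectrum.comap π r₀ :=
      (Set.mem_singleton_iff.mp hq).trans (hr Q)
    obtain ⟨Q', rfl⟩ := hsurj q ⟨r₀, hq'.symm⟩
    rw [hr] at hq'
    exact ⟨Q', le_antisymm (le_of_comap_le π hπ hq'.le) (le_of_comap_le π hπ hq'.ge), rfl⟩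
  have hfin : S.Finite :=
    ((Algebra.QuasiFinite.finite_comap_preimage_singleton (R := Pk) (S := F) r₀).image
      (PrimeSpectrum.comap ψ)).subset fun q hq ↦ by
        obtain ⟨Q', hQ', rfl⟩ := hST q hq
        exact ⟨Q', hQ', rfl⟩
  have : Finite S := hfin.to_subtype
  have : T1Space S := by
    refine ⟨fun ⟨q₁, h₁⟩ ↦ ?_⟩
    rw [isClosed_iff_clusterPt]
    intro ⟨q₂, h₂⟩ hcl
    have hle : q₁ ⤳ q₂ := by
      rw [specializes_iff_mem_closure]
      have := (continuous_subtype_val.closure_preimage_subset {q₁})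
        (closure_mono (by rintro _ rfl; rfl) (mem_closure_iff_clusterPt.mpr hcl))
      exact this
    obtain ⟨Q₁, hQ₁, rfl⟩ := hST q₁ h₁
    obtain ⟨Q₂, hQ₂, rfl⟩ := hST q₂ h₂
    have hQle : Q₁ ≤ Q₂ := le_of_comap_le ψ hψ ((PrimeSpectrum.le_iff_specializes _ _).mpr hle)
    have : Q₁ = Q₂ := PrimeSpectrum.ext (Algebra.QuasiFinite.eq_of_le_of_under_eq (R := Pk) _ _ hQle
      (congrArg PrimeSpectrum.asIdeal ((hQ₁ : _ = r₀).trans (hQ₂ : _ = r₀).symm)))
    subst this
    rfl
  exact (Algebra.quasiFiniteAt_iff_isOpen_singleton_fiber q₀).mpr (isOpen_discrete _)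

/-- Every element of the polynomial ring over a residue field comes from the base up to a scalar. -/
theorem exists_smul_mem_range_map {R : Type u} [CommRing R] (p : Ideal R) [p.IsPrime] (σ : Type*)
    (x : MvPolynomial σ p.ResidueField) :
    ∃ r ∉ p, ∃ a, MvPolynomial.map (algebraMap R p.ResidueField) a =
      MvPolynomial.C (algebraMap R p.ResidueField r) * x := by
  induction x using MvPolynomial.induction_on with
  | C c =>
    obtain ⟨⟨y, t⟩, e⟩ := IsLocalization.surj (nonZeroDivisors (R ⧸ p)) c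
    obtain ⟨s, rfl⟩ := Ideal.Quotient.mk_surjective y
    obtain ⟨r, hr⟩ := Ideal.Quotient.mk_surjective (t : R ⧸ p)
    simp only [← hr] at e
    refine ⟨r, fun h ↦ nonZeroDivisors.ne_zero t.2 (hr ▸ Ideal.Quotient.eq_zero_iff_mem.mpr h),
      MvPolynomial.C s, ?_⟩
    rw [MvPolynomial.map_C, ← map_mul]
    congr 1
    rw [IsScalarTower.algebraMap_apply R (R ⧸ p) p.ResidueField, IsScalarTower.algebraMap_apply R (R ⧸ p) p.ResidueField,
      Ideal.Quotient.algebraMap_eq, ← e, mul_comm]
  | add x y hx hy =>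
    obtain ⟨r₁, hr₁, a₁, e₁⟩ := hx
    obtain ⟨r₂, hr₂, a₂, e₂⟩ := hy
    refine ⟨r₁ * r₂, fun h ↦ ((inferInstance : p.IsPrime).mem_or_mem h).elim hr₁ hr₂,
      MvPolynomial.C r₂ * a₁ + MvPolynomial.C r₁ * a₂, ?_⟩
    simp only [map_add, map_mul, MvPolynomial.map_C, e₁, e₂]
    ring
  | mul_X x i hx =>
    obtain ⟨r, hr, a, e⟩ := hx
    exact ⟨r, hr, a * MvPolynomial.X i, by rw [map_mul, e, MvPolynomial.map_X, mul_assoc]⟩

/-- Quasi-finiteness at a point of a basic open spreads to a smaller basic open. -/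
theorem exists_quasiFinite_away {R S P : Type u} [CommRing R] [CommRing S] [CommRing P] [Algebra R S]
    [Algebra R P] [Algebra.FiniteType R S] (b : S) (φ₀ : P →ₐ[R] Localization.Away b)
    (q : Ideal S) [q.IsPrime] (hbq : b ∉ q) (qb : PrimeSpectrum (Localization.Away b))
    (hqb : qb.asIdeal.comap (algebraMap S (Localization.Away b)) = q)
    (H : letI := φ₀.toRingHom.toAlgebra; Algebra.QuasiFiniteAt P qb.asIdeal) :
    ∃ g : S, g ∉ q ∧ ∃ φ : P →ₐ[R] Localization.Away g,
      φ.toRingHom.FiniteType ∧ φ.toRingHom.QuasiFinite := by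
  let Sb := Localization.Away b
  letI : Algebra P Sb := φ₀.toRingHom.toAlgebra
  have : IsScalarTower R P Sb := IsScalarTower.of_algebraMap_eq fun x ↦ (φ₀.commutes x).symm
  have : Algebra.FiniteType R Sb := Algebra.FiniteType.trans (S := S) inferInstance
    (IsLocalization.finiteType_of_monoid_fg (Submonoid.powers b) Sb)
  have : Algebra.FiniteType P Sb := Algebra.FiniteType.of_restrictScalars_finiteType R P Sb
  obtain ⟨_, ⟨z, rfl⟩, hzq, hzsub⟩ := PrimeSpectrum.isTopologicalBasis_basic_opens.exists_subset_of_mem_open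
    (show qb ∈ {q : PrimeSpectrum Sb | Algebra.QuasiFiniteAt P q.asIdeal} from H)
    (RichLib.QFLocus.isOpen_setOf_quasiFiniteAt P Sb)
  obtain ⟨m, c, hc⟩ := IsLocalization.Away.surj b z
  have hcq : c ∉ q := by
    intro e
    rw [← hqb, Ideal.mem_comap, ← hc] at e
    refine (qb.isPrime.mem_or_mem e).elim hzq
      fun e'' ↦ qb.isPrime.ne_top (Ideal.eq_top_of_isUnit_mem _ e''
        ((IsLocalization.Away.algebraMap_isUnit b).pow m))
  refine ⟨b * c, fun e ↦ ((inferInstance : q.IsPrime).mem_or_mem e).elim hbq hcq, ?_⟩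
  let Sg := Localization.Away (algebraMap S Sb c)
  have : IsLocalization.Away (b * c) Sg := IsLocalization.Away.mul' Sb Sg b c
  let e : Sg ≃ₐ[S] Localization.Away (b * c) :=
    IsLocalization.algEquiv (Submonoid.powers (b * c)) Sg (Localization.Away (b * c))
  let eR : Sg ≃ₐ[R] Localization.Away (b * c) := e.restrictScalars R
  refine ⟨(eR.toAlgHom.comp (IsScalarTower.toAlgHom R Sb Sg)).comp φ₀, ?_⟩
  have : Algebra.FiniteType Sb Sg :=
    IsLocalization.finiteType_of_monoid_fg (Submonoid.powers (algebraMap S Sb c)) Sg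
  have hft : Algebra.FiniteType P Sg := Algebra.FiniteType.trans (S := Sb) inferInstance inferInstance
  suffices hqf : Algebra.QuasiFinite P Sg by
    have hf : (eR.toRingEquiv.toRingHom).Finite := RingHom.Finite.of_surjective _ eR.surjective
    have key : ((eR.toAlgHom.comp (IsScalarTower.toAlgHom R Sb Sg)).comp φ₀).toRingHom =
        eR.toRingEquiv.toRingHom.comp (algebraMap P Sg) := by
      rw [IsScalarTower.algebraMap_eq P Sb Sg]; rfl
    rw [key]
    exact ⟨RingHom.FiniteType.comp (RingHom.FiniteType.of_surjective _ eR.surjective)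
        (RingHom.finiteType_algebraMap.mpr hft),
      (RingHom.QuasiFinite.of_finite hf).comp (RingHom.quasiFinite_algebraMap.mpr hqf)⟩
  refine quasiFinite_of_forall (A := P) fun q' ↦ ?_
  let q₀ := PrimeSpectrum.comap (algebraMap Sb Sg) q'
  have hq₀ : algebraMap S Sb c ∉ q₀.asIdeal := fun e ↦ q'.isPrime.ne_top
    (Ideal.eq_top_of_isUnit_mem _ e (IsLocalization.Away.algebraMap_isUnit _))
  have : Algebra.QuasiFiniteAt P q₀.asIdeal := hzsub (fun e ↦ hq₀ (by
    rw [← hc]; exact q₀.asIdeal.mul_mem_right _ e))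
  have : q'.asIdeal.LiesOver q₀.asIdeal := ⟨rfl⟩
  exact Algebra.QuasiFiniteAt.of_surjectiveOnStalks_of_liesOver q₀.asIdeal
    (RingHom.surjectiveOnStalks_of_isLocalization (Submonoid.powers (algebraMap S Sb c)) Sg) q'.asIdeal

variable (R S : Type u) [CommRing R] [CommRing S] [Algebra R S] [Algebra.FiniteType R S]

/-- At a point with fibre dimension `n` some basic open maps quasi-finitely to affine `n`-space. -/
theorem exists_quasiFinite_mvPolynomial (p : Ideal R) [p.IsPrime] (q : Ideal S) [q.IsPrime]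
    [q.LiesOver p] (Q : PrimeSpectrum (p.Fiber S))
    (hQ : Q.asIdeal.comap (Algebra.TensorProduct.includeRight.toRingHom) = q) (n : ℕ)
    (hdim : FlatMor.localDim (PrimeSpectrum (p.Fiber S)) Q = (n : WithBot ℕ∞)) :
    ∃ g : S, g ∉ q ∧ ∃ φ : MvPolynomial (Fin n) R →ₐ[R] Localization.Away g,
      φ.toRingHom.FiniteType ∧ φ.toRingHom.QuasiFinite := by
  classical
  let k := p.ResidueField
  let F := p.Fiber S
  obtain ⟨h, hhQ, hh⟩ := exists_basicOpen_dim Q
  rw [hdim] at hh
  obtain ⟨r, hr, b, hb⟩ := Ideal.Fiber.exists_smul_eq_one_tmul _ h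
  let ι : S →ₐ[R] F := Algebra.TensorProduct.includeRight
  have hru : IsUnit (algebraMap R F r) := by
    rw [IsScalarTower.algebraMap_apply R k F]
    refine (IsUnit.mk0 _ ?_).map _
    exact fun e ↦ hr (Ideal.algebraMap_residueField_eq_zero.mp e)
  have hbh : ι b = algebraMap R F r * h := by
    show (1 : k) ⊗ₜ[R] b = _
    rw [← hb, Algebra.smul_def]
  have hιb : ι b ∉ Q.asIdeal := by
    rw [hbh]
    exact fun e ↦ (Q.isPrime.mem_or_mem e).elim
      (fun e' ↦ Q.isPrime.ne_top (Ideal.eq_top_of_isUnit_mem _ e' hru)) hhQ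
  have hbq : b ∉ q := fun e ↦ hιb (by rw [← hQ] at e; exact e)
  let F' := Localization.Away (ι b)
  let Sb := Localization.Away b
  have : Algebra.FiniteType k F := inferInstance
  have : Algebra.FiniteType k F' :=
    Algebra.FiniteType.trans (S := F) inferInstance (IsLocalization.finiteType_of_monoid_fg (Submonoid.powers (ι b)) F')
  have hdimF : ringKrullDim F' = n := by
    rw [← hh]
    have hass : Associated h (ι b) := by
      rw [hbh, mul_comm]
      exact ⟨hru.unit, rfl⟩
    have : IsLocalization.Away h F' := IsLocalization.Away.of_associated hass.symm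
    exact ringKrullDim_eq_of_ringEquiv
      (IsLocalization.algEquiv (Submonoid.powers h) F' (Localization.Away h)).toRingEquiv
  have : Nontrivial F' := by
    rw [← not_subsingleton_iff_nontrivial]
    intro hs
    rw [ringKrullDim_eq_bot_of_subsingleton] at hdimF
    exact WithBot.bot_ne_natCast n hdimF
  obtain ⟨s, g₀, hg₀, hg₀fin⟩ := exists_finite_inj_algHom_of_fg k F'
  have hs : s = n := by
    letI := g₀.toRingHom.toAlgebra
    have : Module.Finite (MvPolynomial (Fin s) k) F' := hg₀fin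
    have h1 := CommAlgDim.ringKrullDim_eq_of_integral (MvPolynomial (Fin s) k) F' hg₀
    rw [hdimF, MvPolynomial.ringKrullDim_of_isNoetherianRing, ringKrullDim_eq_zero_of_field,
      zero_add, Nat.card_eq_fintype_card, Fintype.card_fin] at h1
    exact_mod_cast h1.symm
  subst hs
  -- the map on localizations
  let ψ : Sb →ₐ[R] F' := IsLocalization.liftAlgHom (M := Submonoid.powers b)
    (f := (IsScalarTower.toAlgHom R F F').comp ι) (by
      rintro ⟨_, m, rfl⟩
      simp only [map_pow, AlgHom.coe_comp, Function.comp_apply]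
      exact (IsLocalization.Away.algebraMap_isUnit (ι b)).pow m)
  have hψ : ∀ a : S, ψ (algebraMap S Sb a) = algebraMap F F' (ι a) := fun a ↦ by
    simp [ψ]
  -- lifting elements of the fibre up to scalars
  have hlift : ∀ t : F', ∃ lam : k, lam ≠ 0 ∧ ∃ a : Sb, ψ a = lam • t := by
    intro t
    obtain ⟨m, c, hc⟩ := IsLocalization.Away.surj (ι b) t
    obtain ⟨r', hr', a, ha⟩ := Ideal.Fiber.exists_smul_eq_one_tmul _ c
    refine ⟨algebraMap R k r', fun e ↦ hr' (Ideal.algebraMap_residueField_eq_zero.mp e),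
      IsLocalization.mk' Sb a (⟨b ^ m, ⟨m, rfl⟩⟩ : Submonoid.powers b), ?_⟩
    have hbu : IsUnit (algebraMap F F' (ι b) ^ m) := (IsLocalization.Away.algebraMap_isUnit (ι b)).pow m
    apply hbu.mul_left_injective
    dsimp only
    have e1 : ψ (IsLocalization.mk' Sb a (⟨b ^ m, ⟨m, rfl⟩⟩ : Submonoid.powers b)) * algebraMap F F' (ι b) ^ m =
        algebraMap F F' (ι a) := by
      rw [← hψ, ← map_pow, ← map_mul, ← map_pow, IsLocalization.mk'_spec, hψ]
    rw [e1, smul_mul_assoc, hc, ← algebraMap_smul F (algebraMap R k r') _ ]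
    · rw [show ι a = algebraMap R k r' • c from by
        show (1 : k) ⊗ₜ[R] a = _
        rw [← ha, algebraMap_smul]]
      simp [Algebra.smul_def, ← IsScalarTower.algebraMap_apply]
  choose lam hlam a ha using fun i : Fin s ↦ hlift (g₀ (MvPolynomial.X i))
  let φ₀ : MvPolynomial (Fin s) R →ₐ[R] Sb := MvPolynomial.aeval a
  let g' : MvPolynomial (Fin s) k →ₐ[k] F' :=
    g₀.comp (MvPolynomial.aeval fun i ↦ lam i • MvPolynomial.X i)
  have hg'X : ∀ i, g' (MvPolynomial.X i) = ψ (a i) := fun i ↦ by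
    simp [g', ha]
  have hg'fin : g'.toRingHom.Finite := by
    refine RingHom.Finite.comp hg₀fin (RingHom.Finite.of_surjective _ ?_)
    show Function.Surjective
      (MvPolynomial.aeval (R := k) fun i : Fin s ↦ lam i • (MvPolynomial.X i : MvPolynomial (Fin s) k))
    rw [← AlgHom.range_eq_top,
      ← top_le_iff, ← MvPolynomial.adjoin_range_X, Algebra.adjoin_le_iff]
    rintro _ ⟨i, rfl⟩
    exact ⟨(lam i)⁻¹ • MvPolynomial.X i, by simp [smul_smul, inv_mul_cancel₀ (hlam i)]⟩
  -- quasi-finiteness at the point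
  let qF' : PrimeSpectrum F' := ⟨Q.asIdeal.map (algebraMap F F'),
    IsLocalization.isPrime_of_isPrime_disjoint (Submonoid.powers (ι b)) _ _ Q.isPrime
      ((Ideal.disjoint_powers_iff_notMem _ Q.isPrime.isRadical).mpr hιb)⟩
  have hqF'c : qF'.asIdeal.comap (algebraMap F F') = Q.asIdeal :=
    IsLocalization.under_map_of_isPrime_disjoint (Submonoid.powers (ι b)) _ Q.isPrime
      ((Ideal.disjoint_powers_iff_notMem _ Q.isPrime.isRadical).mpr hιb)
  let P := MvPolynomial (Fin s) R
  let π : P →+* MvPolynomial (Fin s) k := MvPolynomial.map (algebraMap R k)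
  have hcomm : g'.toRingHom.comp π = ψ.toRingHom.comp φ₀.toRingHom := by
    apply MvPolynomial.ringHom_ext
    · intro c
      show g' (MvPolynomial.map (algebraMap R k) (MvPolynomial.C c)) = ψ (φ₀ (MvPolynomial.C c))
      rw [MvPolynomial.map_C, ← MvPolynomial.algebraMap_eq, AlgHom.commutes, ← MvPolynomial.algebraMap_eq,
        AlgHom.commutes, AlgHom.commutes, ← IsScalarTower.algebraMap_apply]
    · intro i
      show g' (MvPolynomial.map (algebraMap R k) (MvPolynomial.X i)) = _
      rw [MvPolynomial.map_X, hg'X]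
      simp [φ₀]
  have hπ : ∀ x, ∃ u : MvPolynomial (Fin s) k, IsUnit u ∧ ∃ a, π a = u * x := by
    intro x
    obtain ⟨r, hr, a, ha⟩ := exists_smul_mem_range_map p (Fin s) x
    exact ⟨_, (IsUnit.mk0 _ fun e ↦ hr (Ideal.algebraMap_residueField_eq_zero.mp e)).map _, a, ha⟩
  have hψu : ∀ x : F', ∃ u : F', IsUnit u ∧ ∃ a, ψ a = u * x := by
    intro x
    obtain ⟨l, hl, a, e⟩ := hlift x
    exact ⟨_, (IsUnit.mk0 l hl).map (algebraMap k F'), a, by rw [e, Algebra.smul_def]⟩
  have hsurj : ∀ q₁ : PrimeSpectrum Sb, PrimeSpectrum.comap φ₀.toRingHom q₁ ∈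
      Set.range (PrimeSpectrum.comap π) → q₁ ∈ Set.range (PrimeSpectrum.comap ψ.toRingHom) := by
    rintro q₁ ⟨r₁, hr₁⟩
    let qS := PrimeSpectrum.comap (algebraMap S Sb) q₁
    have hqp : PrimeSpectrum.comap (algebraMap R S) qS = (⟨p, inferInstance⟩ : PrimeSpectrum R) := by
      have e1 : PrimeSpectrum.comap (algebraMap R P) (PrimeSpectrum.comap φ₀.toRingHom q₁) =
          PrimeSpectrum.comap (algebraMap R S) qS := by
        rw [← PrimeSpectrum.comap_comp_apply, ← PrimeSpectrum.comap_comp_apply,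
          show φ₀.toRingHom.comp (algebraMap R P) = algebraMap R Sb from RingHom.ext φ₀.commutes,
          ← IsScalarTower.algebraMap_eq]
      rw [← e1, ← hr₁]
      apply PrimeSpectrum.ext
      ext x
      show π (MvPolynomial.C x) ∈ r₁.asIdeal ↔ x ∈ p
      rw [show π (MvPolynomial.C x) = MvPolynomial.C (algebraMap R k x) from MvPolynomial.map_C _ x]
      refine ⟨fun h ↦ ?_, fun h ↦ ?_⟩
      · by_contra hx
        exact r₁.isPrime.ne_top (Ideal.eq_top_of_isUnit_mem _ h
          ((IsUnit.mk0 _ fun e ↦ hx (Ideal.algebraMap_residueField_eq_zero.mp e)).map _))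
      · rw [Ideal.algebraMap_residueField_eq_zero.mpr h, map_zero]
        exact zero_mem _
    let Q₂ := PrimeSpectrum.preimageHomeomorphFiber R S ⟨p, inferInstance⟩ ⟨qS, hqp⟩
    have hQ₂ : PrimeSpectrum.comap ι.toRingHom Q₂ = qS :=
      congrArg Subtype.val ((PrimeSpectrum.preimageHomeomorphFiber R S ⟨p, inferInstance⟩).symm_apply_apply ⟨qS, hqp⟩)
    have hbQ₂ : ι b ∉ Q₂.asIdeal := by
      intro e
      have : b ∈ qS.asIdeal := hQ₂ ▸ e
      exact q₁.isPrime.ne_top (Ideal.eq_top_of_isUnit_mem _ this (IsLocalization.Away.algebraMap_isUnit b))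
    obtain ⟨Q₃, hQ₃⟩ : Q₂ ∈ Set.range (PrimeSpectrum.comap (algebraMap F F')) := by
      rw [PrimeSpectrum.localization_away_comap_range F' (ι b)]
      exact hbQ₂
    refine ⟨Q₃, PrimeSpectrum.localization_comap_injective Sb (Submonoid.powers b) ?_⟩
    show _ = qS
    rw [← hQ₂, ← hQ₃]
    apply PrimeSpectrum.ext
    ext x
    show ψ (algebraMap S Sb x) ∈ Q₃.asIdeal ↔ _
    rw [hψ]
    rfl
  have hqb : (PrimeSpectrum.comap ψ.toRingHom qF').asIdeal.comap (algebraMap S Sb) = q := by
    rw [← hQ, ← hqF'c]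
    ext x
    show ψ (algebraMap S Sb x) ∈ qF'.asIdeal ↔ _
    rw [hψ]
    rfl
  refine exists_quasiFinite_away b φ₀ q hbq _ hqb ?_
  letI : Algebra P Sb := φ₀.toRingHom.toAlgebra
  letI : Algebra (MvPolynomial (Fin s) k) F' := g'.toRingHom.toAlgebra
  have : Module.Finite (MvPolynomial (Fin s) k) F' := hg'fin
  have : IsScalarTower R P Sb := IsScalarTower.of_algebraMap_eq fun x ↦ (φ₀.commutes x).symm
  have : Algebra.FiniteType R Sb := Algebra.FiniteType.trans (S := S) inferInstance
    (IsLocalization.finiteType_of_monoid_fg (Submonoid.powers b) Sb)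
  have : Algebra.FiniteType P Sb := Algebra.FiniteType.of_restrictScalars_finiteType R P Sb
  exact quasiFiniteAt_of_finite_lift (P := P) (B := Sb) π ψ.toRingHom hcomm hπ hψu hsurj qF'

end FibDimLib
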