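import Mathlib
import Groth.Agent.FibDimLib.QFAffine
import Groth.Agent.WeilLib.Dim

/-!
# Fibres over points mapping to the generic point of affine space are large
-/

set_option autoImplicit false

universe u

open MvPolynomial

namespace FibDimLib

/-- Algebraically independent elements bound the dimension of an affine domain from below. -/
theorem le_ringKrullDim_of_injective_aeval {k A : Type u} [Field k] [CommRing A] [IsDomain A]
    [Algebra k A] [Algebra.FiniteType k A] {e : ℕ} (x : Fin e → A)
    (hinj : Function.Injective (aeval (R := k) x)) : (e : WithBot ℕ∞) ≤ ringKrullDim A := by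
  obtain ⟨s, hs, hs'⟩ := WeilLib.dim_eq_trdeg k A (FractionRing A)
  have hL : AlgebraicIndependent k (IsScalarTower.toAlgHom k A (FractionRing A) ∘ x) :=
    (algebraicIndependent_iff_injective_aeval.mpr hinj).map' (IsFractionRing.injective A _)
  have h := hL.lift_cardinalMk_le_trdeg
  rw [hs'] at h
  have hes : e ≤ s := by simpa using h
  rw [hs]
  exact_mod_cast hes

/-- Algebraically independent elements modulo a prime give a chain of primes above it. -/
theorem exists_chain_quotient {k F : Type u} [Field k] [CommRing F] [Algebra k F]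
    [Algebra.FiniteType k F] {e : ℕ} (Q : PrimeSpectrum F) (x : Fin e → F)
    (hinj : Function.Injective (aeval (R := k) fun i ↦ Ideal.Quotient.mkₐ k Q.asIdeal (x i))) :
    ∃ d : Fin (e + 1) → PrimeSpectrum F, StrictMono d ∧ ∀ i, Q ≤ d i := by
  have : IsDomain (F ⧸ Q.asIdeal) := Ideal.Quotient.isDomain Q.asIdeal
  have : Algebra.FiniteType k (F ⧸ Q.asIdeal) :=
    Algebra.FiniteType.of_surjective (Ideal.Quotient.mkₐ k Q.asIdeal) Ideal.Quotient.mk_surjective
  obtain ⟨l, hl⟩ := Order.le_krullDim_iff.mp (le_ringKrullDim_of_injective_aeval _ hinj)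
  refine ⟨fun i ↦ PrimeSpectrum.comap (Ideal.Quotient.mk Q.asIdeal) (l (Fin.cast (by rw [hl]) i)),
    fun i j hij ↦ RingHom.strictMono_comap_of_surjective Ideal.Quotient.mk_surjective
      (l.strictMono hij), fun i y hy ↦ ?_⟩
  show Ideal.Quotient.mk Q.asIdeal y ∈ (l _).asIdeal
  rw [Ideal.Quotient.eq_zero_iff_mem.mpr hy]
  exact Ideal.zero_mem _

theorem exists_chain_of_comap_eq_map_C {R B : Type u} [CommRing R] [CommRing B] {e : ℕ}
    (φ : MvPolynomial (Fin e) R →+* B) (hft : φ.FiniteType) (p : PrimeSpectrum R)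
    (ζ : PrimeSpectrum B) (hζp : PrimeSpectrum.comap (φ.comp C) ζ = p)
    (hζ : ζ.asIdeal.comap φ = p.asIdeal.map C) :
    ∃ c : Fin (e + 1) → PrimeSpectrum B, StrictMono c ∧
      (∀ i, PrimeSpectrum.comap (φ.comp C) (c i) = p) ∧ ∀ i, ζ ≤ c i := by
  letI := (φ.comp C).toAlgebra
  have : Algebra.FiniteType R B := by
    rw [← RingHom.finiteType_algebraMap]
    exact hft.comp (RingHom.finiteType_algebraMap.mpr
      (inferInstance : Algebra.FiniteType R (MvPolynomial (Fin e) R)))
  let k := p.asIdeal.ResidueField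
  let F := p.asIdeal.Fiber B
  let H := PrimeSpectrum.preimageOrderIsoFiber R B p
  let Q : PrimeSpectrum F := H ⟨ζ, hζp⟩
  let ι : B →ₐ[R] F := Algebra.TensorProduct.includeRight
  have hQ : Q.asIdeal.comap ι.toRingHom = ζ.asIdeal :=
    congrArg (fun w ↦ (Subtype.val w : PrimeSpectrum B).asIdeal) (H.symm_apply_apply ⟨ζ, hζp⟩)
  let A := F ⧸ Q.asIdeal
  have : IsDomain A := Ideal.Quotient.isDomain Q.asIdeal
  let mk : F →ₐ[k] A := Ideal.Quotient.mkₐ k Q.asIdeal
  have : Algebra.FiniteType k A := Algebra.FiniteType.of_surjective mk Ideal.Quotient.mk_surjective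
  let x : Fin e → A := fun i ↦ mk (ι (φ (X i)))
  let a : MvPolynomial (Fin e) k →ₐ[k] A := aeval x
  let π : MvPolynomial (Fin e) R →+* MvPolynomial (Fin e) k := MvPolynomial.map (algebraMap R k)
  have hcomp : a.toRingHom.comp π = (mk.toRingHom.comp ι.toRingHom).comp φ := by
    refine MvPolynomial.ringHom_ext (fun r ↦ ?_) (fun i ↦ ?_)
    · show a (π (C r)) = mk (ι (φ (C r)))
      rw [show π (C r) = C (algebraMap R k r) from MvPolynomial.map_C _ _,
        show a (C (algebraMap R k r)) = algebraMap k A (algebraMap R k r) from aeval_C _ _]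
      show _ = mk (ι (algebraMap R B r))
      rw [AlgHom.commutes, IsScalarTower.algebraMap_apply R k F, AlgHom.commutes]
    · show a (π (X i)) = mk (ι (φ (X i)))
      rw [show π (X i) = X i from MvPolynomial.map_X _ _, show a (X i) = x i from aeval_X _ _]
  have hinj : Function.Injective a := by
    show Function.Injective a.toRingHom
    have : (RingHom.ker a.toRingHom).IsPrime := RingHom.ker_isPrime _
    rw [RingHom.injective_iff_ker_eq_bot, eq_bot_iff]
    refine le_of_comap_le π (fun y ↦ ?_)
      (Q₁ := (⟨_, this⟩ : PrimeSpectrum (MvPolynomial (Fin e) k)))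
      (Q₂ := ⟨⊥, Ideal.isPrime_bot⟩) ?_
    · obtain ⟨r, hr, y', hy'⟩ := exists_smul_mem_range_map p.asIdeal (Fin e) y
      exact ⟨C (algebraMap R k r), (IsUnit.mk0 _ fun e ↦
        hr (Ideal.algebraMap_residueField_eq_zero.mp e)).map _, y', hy'⟩
    · intro y hy
      have hy' : (mk.toRingHom.comp ι.toRingHom).comp φ y = 0 := by
        rw [← hcomp]; exact hy
      have h2 : y ∈ ζ.asIdeal.comap φ := by
        show φ y ∈ ζ.asIdeal
        rw [← hQ]
        show ι (φ y) ∈ Q.asIdeal
        exact Ideal.Quotient.eq_zero_iff_mem.mp hy'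
      rw [hζ] at h2
      show π y = 0
      refine (Ideal.map_le_iff_le_comap.mpr ?_ : p.asIdeal.map C ≤ RingHom.ker π) h2
      intro r hr
      show π (C r) = 0
      rw [show π (C r) = C (algebraMap R k r) from MvPolynomial.map_C _ _,
        Ideal.algebraMap_residueField_eq_zero.mpr hr, map_zero]
  obtain ⟨d, hd, hQd⟩ := exists_chain_quotient (k := k) Q (fun i ↦ ι (φ (X i))) hinj
  refine ⟨fun i ↦ (H.symm (d i)).1, fun i j hij ↦ H.symm.strictMono (hd hij),
    fun i ↦ (H.symm (d i)).2, fun i ↦ ?_⟩
  have := H.symm.monotone (hQd i)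
  rw [H.symm_apply_apply] at this
  exact this

end FibDimLib
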