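import Mathlib

/-!
# Quasi-finite maps to affine space send full-dimensional points to generic points
-/

set_option autoImplicit false

universe u

open MvPolynomial

namespace FibDimLib

theorem comap_eq_map_C_of_chain {R B : Type u} [CommRing R] [CommRing B] {e : ℕ}
    (φ : MvPolynomial (Fin e) R →+* B) (hqf : φ.QuasiFinite) (p : PrimeSpectrum R)
    (c : Fin (e + 1) → PrimeSpectrum B) (hc : StrictMono c)
    (hcp : ∀ i, PrimeSpectrum.comap (φ.comp C) (c i) = p)
    (ζ : PrimeSpectrum B) (hζ : ζ ≤ c 0) (hζp : PrimeSpectrum.comap (φ.comp C) ζ = p) :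
    ζ.asIdeal.comap φ = p.asIdeal.map C := by
  let P := MvPolynomial (Fin e) R
  let Z := PrimeSpectrum.comap (algebraMap R P) ⁻¹' {p}
  have hdim : Order.krullDim Z = (e : WithBot ℕ∞) := by
    rw [Order.krullDim_eq_of_orderIso (PrimeSpectrum.preimageOrderIsoFiber R P p)]
    show ringKrullDim (p.asIdeal.Fiber P) = _
    rw [ringKrullDim_eq_of_ringEquiv
      (MvPolynomial.algebraTensorAlgEquiv R (σ := Fin e) p.asIdeal.ResidueField).toRingEquiv,
      MvPolynomial.ringKrullDim_of_isNoetherianRing, ringKrullDim_eq_zero_of_field]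
    simp
  letI := φ.toAlgebra
  have : Algebra.QuasiFinite P B := hqf
  have hinc : ∀ a b : PrimeSpectrum B, a < b → PrimeSpectrum.comap φ a < PrimeSpectrum.comap φ b :=
    fun a b hab ↦ lt_of_le_of_ne (Ideal.comap_mono hab.le) fun he ↦ hab.ne
      (PrimeSpectrum.ext (Algebra.QuasiFinite.eq_of_le_of_under_eq (R := P) a.asIdeal b.asIdeal
        hab.le (congrArg PrimeSpectrum.asIdeal he)))
  have hover : ∀ a : PrimeSpectrum B, PrimeSpectrum.comap (φ.comp C) a = p →
      PrimeSpectrum.comap φ a ∈ Z := fun a ha ↦ by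
    show PrimeSpectrum.comap (algebraMap R P) (PrimeSpectrum.comap φ a) = p
    rw [← PrimeSpectrum.comap_comp_apply]
    exact ha
  let r₀ : PrimeSpectrum P :=
    ⟨p.asIdeal.map C, by
      have := MvPolynomial.ker_map (σ := Fin e) (Ideal.Quotient.mk p.asIdeal)
      rw [Ideal.mk_ker] at this
      rw [← this]
      exact RingHom.ker_isPrime _⟩
  have hr₀ : r₀ ∈ Z := by
    show PrimeSpectrum.comap (algebraMap R P) r₀ = p
    apply PrimeSpectrum.ext
    show (p.asIdeal.map C).comap C = p.asIdeal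
    refine le_antisymm (fun a ha ↦ ?_) Ideal.le_comap_map
    have := MvPolynomial.mem_map_C_iff.mp ha 0
    simpa using this
  have hle : r₀ ≤ PrimeSpectrum.comap φ ζ := by
    show p.asIdeal.map C ≤ ζ.asIdeal.comap φ
    rw [Ideal.map_le_iff_le_comap, ← hζp]
    exact le_rfl
  by_contra hne
  have hlt : r₀ < PrimeSpectrum.comap φ (c 0) :=
    (lt_of_le_of_ne hle fun he ↦ hne (congrArg PrimeSpectrum.asIdeal he).symm).trans_le
      (Ideal.comap_mono hζ)
  let s : LTSeries Z := LTSeries.mk e (fun i ↦ ⟨_, hover (c i) (hcp i)⟩)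
    fun i j hij ↦ hinc _ _ (hc hij)
  let s' : LTSeries Z := RelSeries.cons s ⟨r₀, hr₀⟩ hlt
  have := le_iSup (fun q : LTSeries Z ↦ ((q.length : ℕ∞) : WithBot ℕ∞)) s'
  change ((s'.length : ℕ∞) : WithBot ℕ∞) ≤ Order.krullDim Z at this
  rw [hdim] at this
  have hl : s'.length = e + 1 := by simp [s', s]
  rw [hl] at this
  exact absurd this (by exact_mod_cast Nat.not_succ_le_self e)

end FibDimLib
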