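import Mathlib
import Groth.Agent.FibDimLib.QFAffine

/-!
# Quasi-finite maps to affine spaces near a point of given fibre dimension
-/

set_option autoImplicit false

universe u

open TopologicalSpace CategoryTheory AlgebraicGeometry

namespace FibDimLib

/-- Local dimensions are invariant under open embeddings. -/
theorem localDim_eq_of_isOpenEmbedding {α β : Type*} [TopologicalSpace α] [TopologicalSpace β]
    {e : α → β} (he : Topology.IsOpenEmbedding e) (a : α) :
    FlatMor.localDim β (e a) = FlatMor.localDim α a := by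
  refine le_antisymm ?_ ?_
  · refine le_iInf fun U ↦ ?_
    refine (iInf_le _ ⟨⟨e '' U.1, he.isOpenMap _ U.1.isOpen⟩, ⟨a, U.2, rfl⟩⟩).trans (le_of_eq ?_)
    exact (IsHomeomorph.topologicalKrullDim_eq _
      (he.isEmbedding.homeomorphImage (U.1 : Set α)).isHomeomorph).symm
  · refine le_iInf fun W ↦ ?_
    refine (iInf_le _ ⟨⟨e ⁻¹' W.1, W.1.isOpen.preimage he.continuous⟩, W.2⟩).trans ?_
    exact (he.isEmbedding.restrictPreimage (W.1 : Set β)).isInducing.topologicalKrullDim_le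

/-- A neighbourhood with a quasi-finite map to affine space of dimension the fibre dimension. -/
theorem exists_qf_affine_nhd {X Y : Scheme.{u}} (f : X ⟶ Y) [LocallyOfFiniteType f] (x : X)
    {V : Y.Opens} (hV : IsAffineOpen V) (hxV : f x ∈ V) (d : ℕ)
    (hd : FlatMor.fibreDimAt f x = d) :
    ∃ (U : X.Opens) (_ : IsAffineOpen U) (_ : x ∈ U) (e : U ≤ f ⁻¹ᵁ V)
      (φ : MvPolynomial (Fin d) Γ(Y, V) →+* Γ(X, U)),
      φ.comp MvPolynomial.C = (f.appLE V U e).hom ∧ φ.FiniteType ∧ φ.QuasiFinite := by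
  obtain ⟨_, ⟨U₀, hU₀, rfl⟩, hxU, hUV⟩ :=
    X.isBasis_affineOpens.exists_subset_of_mem_open (show x ∈ f ⁻¹ᵁ V from hxV) (f ⁻¹ᵁ V).isOpen
  have hU₀ : IsAffineOpen U₀ := hU₀
  let R := Γ(Y, V)
  let S := Γ(X, U₀)
  let ρ := f.appLE V U₀ hUV
  letI : Algebra R S := ρ.hom.toAlgebra
  have : Algebra.FiniteType R S := f.finiteType_appLE hV hU₀ hUV
  let qp : PrimeSpectrum S := hU₀.primeIdealOf ⟨x, hxU⟩
  let pp : PrimeSpectrum R := hV.primeIdealOf ⟨f x, hxV⟩
  have hqp : PrimeSpectrum.comap (algebraMap R S) qp = pp :=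
    IsAffineOpen.comap_primeIdealOf_appLE V hV U₀ hU₀ hUV hxU
  have : qp.asIdeal.LiesOver pp.asIdeal := ⟨(congrArg PrimeSpectrum.asIdeal hqp).symm⟩
  let Z := PrimeSpectrum.comap (algebraMap R S) ⁻¹' {pp}
  let H := PrimeSpectrum.preimageHomeomorphFiber R S pp
  let Q := H ⟨qp, hqp⟩
  have hQ : Q.asIdeal.comap (Algebra.TensorProduct.includeRight.toRingHom) = qp.asIdeal :=
    congrArg (fun w ↦ (Subtype.val w : PrimeSpectrum S).asIdeal) (H.symm_apply_apply ⟨qp, hqp⟩)
  have hsub : hU₀.fromSpec ⁻¹' (f ⁻¹' {f x}) = Z := by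
    have hfac : hU₀.fromSpec ≫ f = Spec.map ρ ≫ hV.fromSpec :=
      (IsAffineOpen.SpecMap_appLE_fromSpec f hV hU₀ hUV).symm
    ext q
    show f (hU₀.fromSpec q) = f x ↔ PrimeSpectrum.comap (algebraMap R S) q = pp
    rw [← Scheme.Hom.comp_apply, hfac, Scheme.Hom.comp_apply]
    have e0 : hV.fromSpec pp = f x := hV.fromSpec_primeIdealOf ⟨f x, hxV⟩
    exact ⟨fun h ↦ hV.fromSpec.isOpenEmbedding.injective (h.trans e0.symm),
      fun h ↦ (congrArg hV.fromSpec h).trans e0⟩
  have hdim : FlatMor.localDim (PrimeSpectrum (pp.asIdeal.Fiber S)) Q = (d : WithBot ℕ∞) := by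
    rw [← hd, FlatMor.fibreDimAt]
    have h1 : Topology.IsOpenEmbedding ((Set.restrictPreimage (f ⁻¹' {f x}) hU₀.fromSpec)) :=
      hU₀.fromSpec.isOpenEmbedding.restrictPreimage _
    let e2 : Z ≃ₜ ↥(hU₀.fromSpec ⁻¹' (f ⁻¹' {f x})) := Homeomorph.setCongr hsub.symm
    have h3 := (((f.fiberHomeo (f x)).symm.isOpenEmbedding.comp h1).comp e2.isOpenEmbedding).comp
      H.symm.isOpenEmbedding
    rw [← localDim_eq_of_isOpenEmbedding h3 Q]
    congr 1
    show (f.fiberHomeo (f x)).symm _ = f.asFiber x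
    rw [Scheme.Hom.asFiber]
    congr 1
    apply Subtype.ext
    simp only [Function.comp_apply, Q, Homeomorph.symm_apply_apply]
    exact hU₀.fromSpec_primeIdealOf ⟨x, hxU⟩
  obtain ⟨g, hg, φ, hft, hqf⟩ := exists_quasiFinite_mvPolynomial R S pp.asIdeal qp.asIdeal Q hQ d hdim
  let U := X.basicOpen g
  have hUle : U ≤ U₀ := X.basicOpen_le g
  have hxg : x ∈ U := by
    have h2 : qp ∈ PrimeSpectrum.basicOpen g := hg
    have e0 : hU₀.fromSpec qp = x := hU₀.fromSpec_primeIdealOf ⟨x, hxU⟩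
    have h3 : qp ∈ hU₀.fromSpec ⁻¹ᵁ X.basicOpen g := by
      rw [hU₀.fromSpec_preimage_basicOpen]
      exact h2
    show x ∈ X.basicOpen g
    exact e0 ▸ (show hU₀.fromSpec qp ∈ X.basicOpen g from h3)
  have := hU₀.isLocalization_basicOpen g
  let e : Localization.Away g ≃ₐ[S] Γ(X, U) :=
    IsLocalization.algEquiv (Submonoid.powers g) (Localization.Away g) Γ(X, U)
  refine ⟨U, hU₀.basicOpen g, hxg, hUle.trans hUV, e.toRingEquiv.toRingHom.comp φ.toRingHom,
    ?_, ?_, ?_⟩
  · rw [RingHom.comp_assoc, show φ.toRingHom.comp MvPolynomial.C = algebraMap R (Localization.Away g)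
      from RingHom.ext φ.commutes]
    ext r
    show e (algebraMap R (Localization.Away g) r) = f.appLE V U _ r
    rw [IsScalarTower.algebraMap_apply R S (Localization.Away g), AlgEquiv.commutes,
      ← f.appLE_map hUV (homOfLE hUle).op]
    rfl
  · exact RingHom.FiniteType.comp (RingHom.FiniteType.of_surjective _ e.surjective) hft
  · exact (RingHom.QuasiFinite.of_finite (RingHom.Finite.of_surjective _ e.surjective)).comp hqf

end FibDimLib
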