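import Groth.Agent.FibDimLib.Semicont

/-!
# Local dimension of topological spaces
-/

set_option autoImplicit false

universe u

open TopologicalSpace Topology Set

namespace FibDimLib

variable {X : Type u} [TopologicalSpace X]

theorem localDim_le_of_open {U : Opens X} {x : X} (hx : x ∈ U) :
    FlatMor.localDim X x ≤ topologicalKrullDim (U : Set X) :=
  iInf_le (fun U : {U : Opens X // x ∈ U} => topologicalKrullDim (U.1 : Set X)) ⟨U, hx⟩

theorem exists_open_localDim (x : X) :
    ∃ U : Opens X, x ∈ U ∧ topologicalKrullDim (U : Set X) = FlatMor.localDim X x := by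
  have : Nonempty {U : Opens X // x ∈ U} := ⟨⟨⊤, trivial⟩⟩
  obtain ⟨⟨U, hU⟩, h⟩ := ciInf_mem fun U : {U : Opens X // x ∈ U} => topologicalKrullDim (U.1 : Set X)
  exact ⟨U, hU, h⟩

theorem upperSemicontinuous_localDim : UpperSemicontinuous fun x : X => FlatMor.localDim X x := by
  intro x c hc
  obtain ⟨U, hU, hd⟩ := exists_open_localDim x
  filter_upwards [U.isOpen.mem_nhds hU] with y hy
  exact (localDim_le_of_open hy).trans_lt (hd.trans_lt hc)

theorem localDim_le_of_specializes {x y : X} (h : x ⤳ y) :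
    FlatMor.localDim X x ≤ FlatMor.localDim X y := by
  obtain ⟨U, hU, hd⟩ := exists_open_localDim y
  exact hd ▸ localDim_le_of_open (h.mem_open U.isOpen hU)

theorem localDim_le (x : X) : FlatMor.localDim X x ≤ topologicalKrullDim X :=
  (localDim_le_of_open (U := ⊤) trivial).trans (topologicalKrullDim_subspace_le X _)

/-- Irreducible closed subsets traced on an open set meeting the smallest one. -/
theorem exists_trace_chain {U : Set X} (hU : IsOpen U) (l : LTSeries (IrreducibleCloseds X))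
    (hl : ((l.head : Set X) ∩ U).Nonempty) :
    ∃ r : Fin (l.length + 1) → IrreducibleCloseds U, StrictMono r ∧ ∀ i, (r i : Set U) = Subtype.val ⁻¹' (l i : Set X) := by
  have hne : ∀ i, ((l i : Set X) ∩ U).Nonempty := fun i =>
    hl.mono (inter_subset_inter_left _ (l.head_le i : l.head ≤ l i))
  let r (i : Fin (l.length + 1)) : IrreducibleCloseds U :=
    { carrier := Subtype.val ⁻¹' (l i : Set X)
      isIrreducible' := (l i).2.preimage hU.isOpenEmbedding_subtypeVal
        (by obtain ⟨a, ha, hb⟩ := hne i; exact ⟨a, ha, ⟨⟨a, hb⟩, rfl⟩⟩)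
      isClosed' := (l i).3.preimage continuous_subtype_val }
  refine ⟨r, fun i j hij => lt_of_le_not_ge (fun w hw => (l.strictMono hij).le hw) fun h => ?_, fun i => rfl⟩
  refine (l.strictMono hij).not_ge fun z hz => ?_
  have h1 : (l j : Set X) ⊆ closure ((l j : Set X) ∩ U) :=
    subset_closure_inter_of_isPreirreducible_of_isOpen (l j).2.2 hU (hne j)
  refine closure_minimal ?_ (l i).3 (h1 hz)
  exact fun w hw => h (show (⟨w, hw.2⟩ : U) ∈ r j from hw.1)

theorem topologicalKrullDim_eq_iSup_localDim : topologicalKrullDim X = ⨆ x : X, FlatMor.localDim X x := by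
  refine le_antisymm (iSup_le fun l => ?_) (iSup_le localDim_le)
  obtain ⟨x, hx⟩ := l.head.2.1
  obtain ⟨U, hU, hd⟩ := exists_open_localDim x
  obtain ⟨r, hr, -⟩ := exists_trace_chain U.isOpen l ⟨x, hx, hU⟩
  refine le_iSup_of_le x ?_
  rw [← hd]
  exact le_iSup_of_le (LTSeries.mk l.length r hr) le_rfl

theorem topologicalKrullDim_le_iSup_closed [NoetherianSpace X] [T0Space X] :
    topologicalKrullDim X = ⨆ x ∈ {x : X | IsClosed ({x} : Set X)}, FlatMor.localDim X x := by
  refine le_antisymm ?_ (iSup₂_le fun x _ => localDim_le x)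
  rw [topologicalKrullDim_eq_iSup_localDim]
  refine iSup_le fun x => ?_
  obtain ⟨y, hy, hyc⟩ := (isClosed_closure (s := ({x} : Set X))).exists_closed_singleton
    ⟨x, subset_closure rfl⟩
  exact le_iSup₂_of_le y hyc (localDim_le_of_specializes (specializes_iff_mem_closure.mpr hy))

theorem localDim_le_zero_of_isOpen {x : X} (h : IsOpen ({x} : Set X)) : FlatMor.localDim X x ≤ 0 := by
  refine (localDim_le_of_open (U := ⟨_, h⟩) rfl).trans ?_
  refine iSup_le fun l => le_of_eq ?_
  by_contra hne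
  have hlen : 0 < l.length := Nat.pos_of_ne_zero fun h0 => hne (by simp [h0])
  have h01 := l.strictMono (show (0 : Fin (l.length + 1)) < ⟨1, by omega⟩ from Nat.zero_lt_one)
  refine h01.not_ge fun a _ => ?_
  obtain ⟨b, hb⟩ := (l 0).2.1
  exact (Subtype.ext (b.2.trans a.2.symm) : b = a) ▸ hb

theorem localDim_nonneg (x : X) : 0 ≤ FlatMor.localDim X x := by
  refine le_iInf fun U => ?_
  let Z : IrreducibleCloseds (U.1 : Set X) :=
    ⟨closure {⟨x, U.2⟩}, isIrreducible_singleton.closure, isClosed_closure⟩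
  exact le_iSup_of_le (LTSeries.mk 0 (fun _ => Z) (fun a b h => absurd h (by omega))) le_rfl

theorem isOpen_singleton_of_dim_le_zero [T0Space X] {x : X} {U : Opens X} (hx : x ∈ U)
    [NoetherianSpace (U : Set X)] (hd : topologicalKrullDim (U : Set X) ≤ 0) : IsOpen ({x} : Set X) := by
  have hmin : ∀ A B : IrreducibleCloseds (U : Set X), A ≤ B → A = B := fun A B hAB => by
    by_contra hne
    have h1 : ((1 : ℕ) : WithBot ℕ∞) ≤ topologicalKrullDim (U : Set X) :=
      le_iSup_of_le ((RelSeries.singleton _ A).snoc B (show A < B from lt_of_le_of_ne hAB hne)) le_rfl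
    exact absurd (h1.trans hd) (by decide)
  have hirr : ∀ (Z : IrreducibleCloseds (U : Set X)) (y : (U : Set X)), y ∈ (Z : Set (U : Set X)) →
      ∃ z, (Z : Set (U : Set X)) = {z} := fun Z y hy => by
    obtain ⟨z, hz, hzc⟩ := Z.3.exists_closed_singleton ⟨y, hy⟩
    exact ⟨z, (congrArg SetLike.coe (hmin ⟨{z}, isIrreducible_singleton, hzc⟩ Z (singleton_subset_iff.mpr hz))).symm⟩
  have hT1 : T1Space (U : Set X) := ⟨fun y => by
    obtain ⟨z, hz⟩ := hirr ⟨closure {y}, isIrreducible_singleton.closure, isClosed_closure⟩ y (subset_closure rfl)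
    change closure ({y} : Set (U : Set X)) = {z} at hz
    have : y ∈ closure ({y} : Set (U : Set X)) := subset_closure rfl
    rw [hz] at this
    replace this : y = z := this
    rw [this, ← hz]
    exact isClosed_closure⟩
  have : Finite (U : Set X) := by
    rw [← Set.finite_univ_iff]
    refine (((NoetherianSpace.finite_irreducibleComponents (α := (U : Set X))).biUnion
      fun Z hZ => ?_).subset fun y _ => mem_biUnion (t := fun Z => Z)
        (irreducibleComponent_mem_irreducibleComponents y) mem_irreducibleComponent)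
    rcases Z.eq_empty_or_nonempty with h | ⟨y, hy⟩
    · exact h ▸ finite_empty
    · obtain ⟨z, hz⟩ := hirr ⟨Z, hZ.1, isClosed_of_mem_irreducibleComponents Z hZ⟩ y hy
      exact (show Z = {z} from hz) ▸ finite_singleton z
  have h : IsOpen ({⟨x, hx⟩} : Set (U : Set X)) := isOpen_discrete _
  have := U.isOpen.isOpenEmbedding_subtypeVal.isOpenMap _ h
  rwa [image_singleton] at this

theorem localDim_eq_zero_iff [T0Space X] (x : X) (hN : ∀ U : Opens X, x ∈ U → ∃ V : Opens X, x ∈ V ∧ V ≤ U ∧
    NoetherianSpace (V : Set X)) : FlatMor.localDim X x = 0 ↔ IsOpen ({x} : Set X) := by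
  refine ⟨fun h => ?_, fun h => le_antisymm (localDim_le_zero_of_isOpen h) (localDim_nonneg x)⟩
  obtain ⟨U, hU, hd⟩ := exists_open_localDim x
  obtain ⟨V, hV, hVU, hVN⟩ := hN U hU
  refine isOpen_singleton_of_dim_le_zero hV ?_
  rw [← h, ← hd]
  exact (IsEmbedding.inclusion hVU).isInducing.topologicalKrullDim_le

theorem length_le_of_subset_closed {A : Type u} [TopologicalSpace A] (l : LTSeries (IrreducibleCloseds A))
    {Z : Set A} (hZ : IsClosed Z) (hl : (l.last : Set A) ⊆ Z) :
    (l.length : WithBot ℕ∞) ≤ topologicalKrullDim Z := by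
  have hsub : ∀ i, (l i : Set A) ⊆ range (Subtype.val : Z → A) := fun i a ha =>
    ⟨⟨a, hl ((l.monotone (Fin.le_last i) : l i ≤ l.last) ha)⟩, rfl⟩
  let r (i : Fin (l.length + 1)) : IrreducibleCloseds Z :=
    { carrier := Subtype.val ⁻¹' (l i : Set A)
      isIrreducible' := by
        refine ⟨?_, ?_⟩
        · obtain ⟨a, ha⟩ := (l i).2.nonempty
          obtain ⟨b, rfl⟩ := hsub i ha
          exact ⟨b, ha⟩
        · rintro u v ⟨u', hu', rfl⟩ ⟨v', hv', rfl⟩ ⟨a, ha, hau⟩ ⟨b, hb, hbv⟩
          obtain ⟨z, hz, hzu, hzv⟩ := (l i).2.2 u' v' hu' hv' ⟨a.1, ha, hau⟩ ⟨b.1, hb, hbv⟩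
          obtain ⟨c, rfl⟩ := hsub i hz
          exact ⟨c, hz, hzu, hzv⟩
      isClosed' := (l i).3.preimage continuous_subtype_val }
  refine le_iSup_of_le (LTSeries.mk l.length r fun i j hij => ?_) le_rfl
  refine lt_of_le_not_ge (fun w hw => (l.strictMono hij).le hw) fun h => (l.strictMono hij).not_ge ?_
  intro a ha
  obtain ⟨b, rfl⟩ := hsub j ha
  exact h ha

theorem localDim_eq_iSup_cover {x : X} {ι : Type u} [Finite ι] (Y : ι → Set X) (hY : ∀ i, IsClosed (Y i))
    (hx : ∀ i, x ∈ Y i) (hcov : ⋃ i, Y i = Set.univ) :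
    FlatMor.localDim X x = ⨆ i, FlatMor.localDim (Y i) ⟨x, hx i⟩ := by
  refine le_antisymm ?_ (iSup_le fun i => localDim_le_of_isInducing IsInducing.subtypeVal _)
  have hchoice : ∀ i, ∃ V : Set X, IsOpen V ∧ x ∈ V ∧
      topologicalKrullDim (Subtype.val ⁻¹' V : Set (Y i)) = FlatMor.localDim (Y i) ⟨x, hx i⟩ := fun i => by
    obtain ⟨U, hU, hd⟩ := exists_open_localDim (⟨x, hx i⟩ : Y i)
    obtain ⟨V, hV, hVU⟩ := isOpen_induced_iff.mp U.isOpen
    refine ⟨V, hV, ?_, ?_⟩
    · have : (⟨x, hx i⟩ : Y i) ∈ Subtype.val ⁻¹' V := hVU ▸ hU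
      exact this
    · rw [hVU]; exact hd
  choose V hV hxV hd using hchoice
  let W : Set X := ⋂ i, V i
  have hW : IsOpen W := isOpen_iInter_of_finite hV
  refine (localDim_le_of_open (U := ⟨W, hW⟩) (mem_iInter.mpr hxV)).trans (iSup_le fun l => ?_)
  obtain ⟨i, hi⟩ : ∃ i, (l.last : Set W) ⊆ Subtype.val ⁻¹' Y i := by
    classical
    have := Fintype.ofFinite ι
    obtain ⟨t, ht, hsub⟩ := isIrreducible_iff_sUnion_isClosed.1 l.last.2
      (Finset.univ.image fun i => (Subtype.val ⁻¹' Y i : Set W))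
      (fun t ht => by
        obtain ⟨i, -, rfl⟩ := Finset.mem_image.mp ht
        exact (hY i).preimage continuous_subtype_val)
      (fun w _ => by
        obtain ⟨i, hi⟩ := mem_iUnion.mp (hcov.symm ▸ mem_univ w.1 : w.1 ∈ ⋃ i, Y i)
        exact ⟨_, Finset.mem_coe.mpr (Finset.mem_image_of_mem _ (Finset.mem_univ i)), hi⟩)
    obtain ⟨i, -, rfl⟩ := Finset.mem_image.mp ht
    exact ⟨i, hsub⟩
  refine le_iSup_of_le i ?_
  rw [← hd i]
  refine (length_le_of_subset_closed l ((hY i).preimage continuous_subtype_val) hi).trans ?_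
  let r : (Subtype.val ⁻¹' Y i : Set W) → (Subtype.val ⁻¹' V i : Set (Y i)) :=
    fun w => ⟨⟨w.1.1, w.2⟩, mem_iInter.mp w.1.2 i⟩
  have hr : IsInducing r := by
    refine IsInducing.of_comp (g := fun z => z.1.1) ?_ (continuous_subtype_val.comp continuous_subtype_val) ?_
    · fun_prop
    · exact (IsInducing.subtypeVal.comp IsInducing.subtypeVal : IsInducing fun w : (Subtype.val ⁻¹' Y i : Set W) => (w.1.1 : X))
  exact hr.topologicalKrullDim_le

end FibDimLib
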