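import Groth.Agent.SMTLib.MaxHeight
import Groth.Agent.CatLib.Univ
import Groth.Agent.FibDimLib.TopLocalDim

/-!
# The dimension formula for schemes of finite type over a field
-/

set_option autoImplicit false

universe u

open CategoryTheory AlgebraicGeometry TopologicalSpace Topology

namespace FibDimLib

variable {k : Type u} [Field k]

theorem isCatenary_of_finiteType_field (S : Type u) [CommRing S] [Algebra k S] [Algebra.FiniteType k S] :
    CAlg.IsCatenary S :=
  (CatLib.isUniversallyCatenary_of_isCMRing (A := k) (CatLib.isCMRing_of_isRegularRing)).2 S inferInstance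

variable (k) in
/-- Height and dimension are complementary in an affine domain. -/
theorem ringKrullDim_quotient_add_height_affine (A : Type u) [CommRing A] [IsDomain A] [Algebra k A]
    [Algebra.FiniteType k A] (p : Ideal A) [p.IsPrime] :
    ringKrullDim (A ⧸ p) + (p.height : WithBot ℕ∞) = ringKrullDim A := by
  haveI : IsNoetherianRing A := Algebra.FiniteType.isNoetherianRing k A
  refine le_antisymm (J2Lib.ringKrullDim_quotient_add_height_le p) ?_
  obtain ⟨m, hm, hpm⟩ := p.exists_le_maximal (Ideal.IsPrime.ne_top inferInstance)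
  let R := Localization.AtPrime m
  haveI : IsDomain R := IsLocalization.isDomain_localization m.primeCompl_le_nonZeroDivisors
  haveI : IsNoetherianRing R := IsLocalization.isNoetherianRing m.primeCompl _ inferInstance
  let P := p.map (algebraMap A R)
  have hd : Disjoint (m.primeCompl : Set A) p := Set.disjoint_left.mpr fun a ha hap => ha (hpm hap)
  haveI : P.IsPrime := IsLocalization.isPrime_of_isPrime_disjoint m.primeCompl R p inferInstance hd
  have hPp : P.comap (algebraMap A R) = p := IsLocalization.under_map_of_isPrime_disjoint m.primeCompl R inferInstance hd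
  have h1 := CatLib.ringKrullDim_quotient_add_height_of_domain
    (CatLib.isCatenary_localization m.primeCompl R (isCatenary_of_finiteType_field (k := k) A)) P
  have h2 : P.height = p.height := by
    rw [← IsLocalization.height_comap m.primeCompl P]
    exact congrArg Ideal.height hPp
  have h3 : ringKrullDim R = ringKrullDim A := by
    rw [IsLocalization.AtPrime.ringKrullDim_eq_height m R, MaxHeight.affine_domain k A m]
  rw [← h3, ← h1, h2]
  refine add_le_add ?_ le_rfl
  let q : A ⧸ p →+* R ⧸ P := Ideal.quotientMap P (algebraMap A R) hPp.ge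
  refine Order.krullDim_le_of_strictMono (fun Q => PrimeSpectrum.comap q Q)
    (Monotone.strictMono_of_injective (fun Q Q' h => Ideal.comap_mono h) fun Q Q' h => ?_)
  have h' := congrArg (PrimeSpectrum.comap (Ideal.Quotient.mk p)) h
  rw [← PrimeSpectrum.comap_comp_apply, ← PrimeSpectrum.comap_comp_apply, Ideal.quotientMap_comp_mk,
    PrimeSpectrum.comap_comp_apply, PrimeSpectrum.comap_comp_apply] at h'
  exact PrimeSpectrum.comap_injective_of_surjective _ Ideal.Quotient.mk_surjective
    (PrimeSpectrum.localization_comap_injective R m.primeCompl h')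

variable {S : Type u} [CommRing S]

theorem closure_singleton_eq_range (P : PrimeSpectrum S) :
    closure ({P} : Set (PrimeSpectrum S)) = Set.range (PrimeSpectrum.comap (Ideal.Quotient.mk P.asIdeal)) := by
  rw [PrimeSpectrum.closure_singleton, range_comap_of_surjective _ _ Ideal.Quotient.mk_surjective,
    Ideal.mk_ker]

theorem topologicalKrullDim_closure_prime (P : PrimeSpectrum S) :
    topologicalKrullDim (closure ({P} : Set (PrimeSpectrum S))) = ringKrullDim (S ⧸ P.asIdeal) := by
  rw [closure_singleton_eq_range, ← PrimeSpectrum.topologicalKrullDim_eq_ringKrullDim]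
  exact (IsHomeomorph.topologicalKrullDim_eq _
    (PrimeSpectrum.isClosedEmbedding_comap_of_surjective _ _
      Ideal.Quotient.mk_surjective).isEmbedding.toHomeomorph.isHomeomorph).symm

theorem height_map_quotient_le {P p : Ideal S} [p.IsPrime] (h : P ≤ p)
    [(p.map (Ideal.Quotient.mk P)).IsPrime] : (p.map (Ideal.Quotient.mk P)).height ≤ p.height := by
  have hc : (p.map (Ideal.Quotient.mk P)).comap (Ideal.Quotient.mk P) = p := by
    rw [Ideal.comap_map_of_surjective _ Ideal.Quotient.mk_surjective, ← RingHom.ker_eq_comap_bot, Ideal.mk_ker,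
      sup_eq_left.mpr h]
  have e := PrimeSpectrum.height_eq_orderHeight (⟨p.map (Ideal.Quotient.mk P), inferInstance⟩ : PrimeSpectrum (S ⧸ P))
  have e' := PrimeSpectrum.height_eq_orderHeight (⟨p, inferInstance⟩ : PrimeSpectrum S)
  simp only at e e'
  rw [e, e']
  refine (Order.height_le_height_apply_of_strictMono (PrimeSpectrum.comap (Ideal.Quotient.mk P))
    (Monotone.strictMono_of_injective (fun _ _ h => Ideal.comap_mono h)
      (PrimeSpectrum.comap_injective_of_surjective _ Ideal.Quotient.mk_surjective)) _).trans (le_of_eq ?_)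
  congr 1
  exact PrimeSpectrum.ext hc

theorem exists_minimal_height_eq [IsNoetherianRing S] (p : PrimeSpectrum S) :
    ∃ P : PrimeSpectrum S, IsMin P ∧ P ≤ p ∧
      ∀ _ : (p.asIdeal.map (Ideal.Quotient.mk P.asIdeal)).IsPrime,
        p.asIdeal.height ≤ (p.asIdeal.map (Ideal.Quotient.mk P.asIdeal)).height := by
  obtain ⟨n, hn⟩ := ENat.ne_top_iff_exists.1 (Ideal.height_ne_top p.2.ne_top : p.asIdeal.height ≠ ⊤)
  have hn' : Order.height p = n := by rw [← PrimeSpectrum.height_eq_orderHeight, hn]
  obtain ⟨l, hl, hlen⟩ := Order.exists_series_of_height_eq_coe p hn'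
  have hmin : IsMin l.head := by
    refine isMin_iff_forall_not_lt.mpr fun Q hQ => ?_
    have := Order.length_le_height_last (p := l.cons Q hQ)
    rw [RelSeries.last_cons, hl, hn', RelSeries.cons_length, hlen] at this
    exact absurd (ENat.coe_le_coe.mp this) (Nat.not_succ_le_self n)
  refine ⟨l.head, hmin, hl ▸ l.head_le_last, fun hp => ?_⟩
  let r (i : Fin (l.length + 1)) : PrimeSpectrum (S ⧸ l.head.asIdeal) :=
    ⟨(l i).asIdeal.map (Ideal.Quotient.mk _), Ideal.map_isPrime_of_surjective Ideal.Quotient.mk_surjective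
      (by rw [Ideal.mk_ker]; exact l.head_le i)⟩
  have hr : StrictMono r := fun i j hij => by
    refine lt_of_le_not_ge (show (r i).asIdeal ≤ (r j).asIdeal from Ideal.map_mono (l.strictMono hij).le)
      fun h => (l.strictMono hij).not_ge ?_
    have h' := Ideal.comap_mono (f := Ideal.Quotient.mk l.head.asIdeal) h
    simp only [r, Ideal.comap_map_of_surjective _ Ideal.Quotient.mk_surjective, ← RingHom.ker_eq_comap_bot,
      Ideal.mk_ker, sup_eq_left.mpr (show l.head.asIdeal ≤ (l _).asIdeal from l.head_le _)] at h'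
    exact h'
  have h1 := Order.length_le_height_last (p := LTSeries.mk l.length r hr)
  rw [← PrimeSpectrum.height_eq_orderHeight] at h1
  rw [← hn, ← hlen]
  refine h1.trans (le_of_eq ?_)
  show ((l (Fin.last _)).asIdeal.map _).height = _
  rw [show l (Fin.last _) = l.last from rfl, hl]

variable (k) [Algebra k S] [Algebra.FiniteType k S]

include k in
/-- The local dimension at a point of the spectrum of an algebra of finite type over a field. -/
theorem localDim_eq_dim_add (p : PrimeSpectrum S) :
    FlatMor.localDim (PrimeSpectrum S) p =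
      ringKrullDim (S ⧸ p.asIdeal) + ringKrullDim (Localization.AtPrime p.asIdeal) := by
  haveI : IsNoetherianRing S := Algebra.FiniteType.isNoetherianRing k S
  let q : Spec (CommRingCat.of S) ⟶ Spec (CommRingCat.of k) := Spec.map (CommRingCat.ofHom (algebraMap k S))
  have : LocallyOfFiniteType q := by
    rw [HasRingHomProperty.Spec_iff (P := @LocallyOfFiniteType)]
    exact RingHom.finiteType_algebraMap.mpr inferInstance
  rw [IsLocalization.AtPrime.ringKrullDim_eq_height p.asIdeal (Localization.AtPrime p.asIdeal)]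
  have key : ∀ P : PrimeSpectrum S, P ≤ p → ∃ _ : (p.asIdeal.map (Ideal.Quotient.mk P.asIdeal)).IsPrime,
      ringKrullDim (S ⧸ p.asIdeal) + ((p.asIdeal.map (Ideal.Quotient.mk P.asIdeal)).height : WithBot ℕ∞) =
        topologicalKrullDim (closure ({P} : Set (PrimeSpectrum S))) := fun P hP => by
    have hp : (p.asIdeal.map (Ideal.Quotient.mk P.asIdeal)).IsPrime :=
      Ideal.map_isPrime_of_surjective Ideal.Quotient.mk_surjective (by rw [Ideal.mk_ker]; exact hP)
    refine ⟨hp, ?_⟩
    haveI := hp
    rw [topologicalKrullDim_closure_prime,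
      ← ringKrullDim_quotient_add_height_affine k (S ⧸ P.asIdeal) (p.asIdeal.map (Ideal.Quotient.mk P.asIdeal)),
      CatLib.ringKrullDim_quotient_quotient_map hP]
  apply le_antisymm
  · obtain ⟨g, hgp, hd⟩ : ∃ g : PrimeSpectrum S, g ⤳ p ∧
        FlatMor.localDim (PrimeSpectrum S) p = topologicalKrullDim (closure ({g} : Set (PrimeSpectrum S))) := by
      obtain ⟨g, -, hgp, hd⟩ := exists_generic_localDim q (p : Spec (CommRingCat.of S))
      exact ⟨g, hgp, hd⟩
    have hle : g ≤ p := (PrimeSpectrum.le_iff_specializes _ _).mpr hgp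
    obtain ⟨hp, he⟩ := key g hle
    rw [hd, ← he]
    exact add_le_add le_rfl (WithBot.coe_le_coe.mpr (height_map_quotient_le hle))
  · obtain ⟨P, -, hP, hh⟩ := exists_minimal_height_eq p
    obtain ⟨hp, he⟩ := key P hP
    refine le_trans ?_ (le_of_eq_of_le he (le_localDim_of_specializes q
      (show (P : Spec (CommRingCat.of S)) ⤳ p from (PrimeSpectrum.le_iff_specializes _ _).mp hP)))
    exact add_le_add le_rfl (WithBot.coe_le_coe.mpr (hh hp))

theorem ringKrullDim_quotient_eq_trdeg (p : Ideal S) [p.IsPrime] :
    ∃ s : ℕ, ringKrullDim (S ⧸ p) = s ∧ Algebra.trdeg k p.ResidueField = s :=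
  WeilLib.dim_eq_trdeg k (S ⧸ p) p.ResidueField

include k in
theorem localDim_eq_of_isMaximal (m : Ideal S) [m.IsMaximal] :
    FlatMor.localDim (PrimeSpectrum S) ⟨m, inferInstance⟩ = ringKrullDim (Localization.AtPrime m) := by
  rw [localDim_eq_dim_add k]
  letI := Ideal.Quotient.field m
  rw [ringKrullDim_eq_zero_of_field, zero_add]

include k in
theorem localDim_eq_iInf_maximal (p : Ideal S) [p.IsPrime] :
    FlatMor.localDim (PrimeSpectrum S) ⟨p, inferInstance⟩ =
      ⨅ m : {m : Ideal S // m.IsMaximal ∧ p ≤ m},
        ringKrullDim (Localization.AtPrime (hp := m.2.1.isPrime') m.1) := by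
  haveI : IsJacobsonRing S := isJacobsonRing_of_finiteType (A := k)
  apply le_antisymm
  · refine le_iInf fun ⟨m, hm, hpm⟩ => ?_
    haveI := hm
    rw [← localDim_eq_of_isMaximal k m]
    exact localDim_le_of_specializes ((PrimeSpectrum.le_iff_specializes _ _).mp hpm)
  · obtain ⟨U, hU, hd⟩ := exists_open_localDim (⟨p, inferInstance⟩ : PrimeSpectrum S)
    obtain ⟨z, ⟨hzU, hz⟩, hzc⟩ := nonempty_inter_closedPoints
      (show ((U : Set (PrimeSpectrum S)) ∩ closure {⟨p, inferInstance⟩}).Nonempty from ⟨_, hU, subset_closure rfl⟩)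
      (U.isOpen.isLocallyClosed.inter isClosed_closure.isLocallyClosed)
    have hm : z.asIdeal.IsMaximal := (PrimeSpectrum.isClosed_singleton_iff_isMaximal z).mp hzc
    have hpz : p ≤ z.asIdeal := (PrimeSpectrum.le_iff_specializes _ _).mpr (specializes_iff_mem_closure.mpr hz)
    refine iInf_le_of_le ⟨z.asIdeal, hm, hpz⟩ ?_
    rw [← hd, ← localDim_eq_of_isMaximal k z.asIdeal]
    exact localDim_le_of_open hzU

section Scheme

variable {X : Scheme.{u}} {k} (q : X ⟶ Spec (CommRingCat.of k)) [LocallyOfFiniteType q]

include q in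
/-- The local dimension at a point of a scheme locally of finite type over a field. -/
theorem localDim_eq_closure_add_stalk (x : X) :
    FlatMor.localDim X x = topologicalKrullDim (closure ({x} : Set X)) + ringKrullDim (X.presheaf.stalk x) := by
  obtain ⟨_, ⟨U, hU, rfl⟩, hxU, -⟩ :=
    X.isBasis_affineOpens.exists_subset_of_mem_open (Set.mem_univ x) isOpen_univ
  have hU : IsAffineOpen U := hU
  let pU := hU.primeIdealOf ⟨x, hxU⟩
  obtain ⟨φ, hφ⟩ : ∃ φ : CommRingCat.of k ⟶ Γ(X, U), Spec.map φ = hU.fromSpec ≫ q := Spec.map_surjective _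
  letI := φ.hom.toAlgebra
  haveI : Algebra.FiniteType k Γ(X, U) := RingHom.finiteType_algebraMap.mp
    ((HasRingHomProperty.Spec_iff (P := @LocallyOfFiniteType)).mp
      (hφ ▸ (inferInstance : LocallyOfFiniteType (hU.fromSpec ≫ q))))
  have hx : hU.fromSpec.base pU = x := hU.fromSpec_primeIdealOf ⟨x, hxU⟩
  rw [show FlatMor.localDim X x = FlatMor.localDim (PrimeSpectrum Γ(X, U)) pU from
    hx ▸ localDim_eq_of_isOpenEmbedding hU.fromSpec.isOpenEmbedding pU, localDim_eq_dim_add k pU,
    ← topologicalKrullDim_closure_prime]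
  congr 1
  · let F : Over (Spec (CommRingCat.of k)) := Over.mk q
    haveI : LocallyOfFiniteType F.hom := ‹LocallyOfFiniteType q›
    refine Eq.trans ?_ (topologicalKrullDim_closure_open F U ⟨x, hxU⟩)
    let e : PrimeSpectrum Γ(X, U) ≃ₜ (U : Set X) :=
      hU.fromSpec.isOpenEmbedding.isEmbedding.toHomeomorph.trans (Homeomorph.setCongr hU.range_fromSpec)
    have : e '' closure {pU} = closure ({⟨x, hxU⟩} : Set U) := by
      rw [e.image_closure, Set.image_singleton]
      congr
      exact Subtype.ext hx
    exact IsHomeomorph.topologicalKrullDim_eq _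
      ((e.image (closure {pU})).trans (Homeomorph.setCongr this)).isHomeomorph
  · letI := X.presheaf.algebra_section_stalk ⟨x, hxU⟩
    haveI := hU.isLocalization_stalk ⟨x, hxU⟩
    exact ringKrullDim_eq_of_ringEquiv
      (IsLocalization.algEquiv pU.asIdeal.primeCompl (Localization.AtPrime pU.asIdeal) (X.presheaf.stalk x)).toRingEquiv

include q in
theorem localDim_eq_stalk_of_isClosed {x : X} (hx : IsClosed ({x} : Set X)) :
    FlatMor.localDim X x = ringKrullDim (X.presheaf.stalk x) := by
  rw [localDim_eq_closure_add_stalk q x, hx.closure_eq]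
  have : topologicalKrullDim ({x} : Set X) = 0 := by
    refine le_antisymm ?_ ?_
    · rw [topologicalKrullDim_eq_iSup_localDim]
      exact iSup_le fun a => localDim_le_zero_of_isOpen (by
        have : ({a} : Set ({x} : Set X)) = Set.univ := Set.eq_univ_of_forall fun b => Subtype.ext (b.2.trans a.2.symm)
        rw [this]; exact isOpen_univ)
    · exact (localDim_nonneg (⟨x, rfl⟩ : ({x} : Set X))).trans (localDim_le _)
  rw [this, zero_add]

end Scheme

end FibDimLib
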