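import Groth.Agent.FibDimLib.Formula
import Groth.Agent.CatLib.Flat

/-!
# Local dimensions along flat maps of algebras of finite type over a field
-/

set_option autoImplicit false

universe u

open TopologicalSpace Topology TensorProduct

namespace FibDimLib

variable (k : Type u) [Field k] {A B : Type u} [CommRing A] [CommRing B] [Algebra k A] [Algebra k B] [Algebra A B]
  [IsScalarTower k A B] [Algebra.FiniteType k A] [Algebra.FiniteType k B]

include k in
theorem ringKrullDim_quotient_fiber_add (p : Ideal A) [p.IsPrime] (Qb : Ideal (p.Fiber B)) [Qb.IsPrime] :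
    ringKrullDim (B ⧸ Qb.comap (Algebra.TensorProduct.includeRight : B →ₐ[A] p.Fiber B).toRingHom) =
      ringKrullDim (A ⧸ p) + ringKrullDim (p.Fiber B ⧸ Qb) := by
  haveI : Algebra.FiniteType A B := Algebra.FiniteType.of_restrictScalars_finiteType k A B
  let ι := (Algebra.TensorProduct.includeRight : B →ₐ[A] p.Fiber B).toRingHom
  let Q := Qb.comap ι
  obtain ⟨a, ha, ha'⟩ := ringKrullDim_quotient_eq_trdeg k p
  obtain ⟨c, hc, hc'⟩ := ringKrullDim_quotient_eq_trdeg p.ResidueField Qb
  obtain ⟨b, hb, hb'⟩ := ringKrullDim_quotient_eq_trdeg k Q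
  change ringKrullDim (B ⧸ Q) = _
  rw [hb, ha, hc]
  let e := Ideal.ResidueField.map Q Qb ι rfl
  have hes : Function.Surjective e := by
    intro z
    obtain ⟨x, y, hy, rfl⟩ := IsFractionRing.div_surjective (A := p.Fiber B ⧸ Qb) z
    have key : ∀ x : p.Fiber B ⧸ Qb, ∃ w, e w = algebraMap _ Qb.ResidueField x := fun x => by
      obtain ⟨x, rfl⟩ := Ideal.Quotient.mk_surjective x
      obtain ⟨r, hr, s, hs⟩ := Ideal.Fiber.exists_smul_eq_one_tmul p x
      have hrQ : algebraMap A B r ∉ Q := fun h => hr (by
        have h' : algebraMap A (p.Fiber B) r ∈ Qb := by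
          rw [← (Algebra.TensorProduct.includeRight : B →ₐ[A] p.Fiber B).commutes r]; exact h
        rw [Ideal.over_def Qb p]
        exact h')
      refine ⟨algebraMap B _ s / algebraMap B _ (algebraMap A B r), ?_⟩
      have hx : algebraMap (p.Fiber B) Qb.ResidueField x * algebraMap (p.Fiber B) Qb.ResidueField (ι (algebraMap A B r)) =
          algebraMap (p.Fiber B) Qb.ResidueField (ι s) := by
        rw [← map_mul]
        congr 1
        show x * ι (algebraMap A B r) = (1 : p.ResidueField) ⊗ₜ[A] s
        rw [← hs, mul_comm, Algebra.smul_def]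
        congr 1
        exact (Algebra.TensorProduct.includeRight : B →ₐ[A] p.Fiber B).commutes r
      rw [map_div₀]
      simp only [e, Ideal.ResidueField.map_algebraMap]
      rw [← hx, mul_div_assoc, div_self, mul_one]
      · exact IsScalarTower.algebraMap_apply (p.Fiber B) (p.Fiber B ⧸ Qb) Qb.ResidueField x
      · exact fun h => hrQ (Ideal.algebraMap_residueField_eq_zero.mp h : ι (algebraMap A B r) ∈ Qb)
    obtain ⟨u, hu⟩ := key x
    obtain ⟨v, hv⟩ := key y
    exact ⟨u / v, by rw [map_div₀, hu, hv]⟩
  letI : Algebra Q.ResidueField Qb.ResidueField := e.toAlgebra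
  have he : ∀ t : k, e (algebraMap k Q.ResidueField t) = algebraMap k Qb.ResidueField t := fun t => by
    rw [IsScalarTower.algebraMap_apply k B Q.ResidueField]
    refine (Ideal.ResidueField.map_algebraMap _ _ _ _ _).trans ?_
    rw [IsScalarTower.algebraMap_apply k (p.Fiber B) Qb.ResidueField]
    congr 1
    rw [IsScalarTower.algebraMap_apply k A B, IsScalarTower.algebraMap_apply k A (p.Fiber B)]
    exact (Algebra.TensorProduct.includeRight : B →ₐ[A] p.Fiber B).commutes _
  let E : Q.ResidueField ≃ₐ[k] Qb.ResidueField :=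
    AlgEquiv.ofBijective { e with commutes' := he } ⟨e.injective, hes⟩
  haveI : FaithfulSMul p.ResidueField Qb.ResidueField :=
    (faithfulSMul_iff_algebraMap_injective p.ResidueField Qb.ResidueField).2 (RingHom.injective _)
  have h3 := trdeg_add_eq k p.ResidueField (A := Qb.ResidueField)
  have hc'' : Algebra.trdeg p.ResidueField Qb.ResidueField = (c : Cardinal) := by
    convert hc' using 2
    · rfl
    refine Algebra.algebra_ext (R := p.ResidueField) (A := Qb.ResidueField) _ _ fun r => ?_
    have key : ∀ f g : p.ResidueField →+* Qb.ResidueField,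
        f.comp (algebraMap A p.ResidueField) = g.comp (algebraMap A p.ResidueField) → f r = g r :=
      fun f g h => DFunLike.congr_fun (Ideal.ResidueField.ringHom_ext h) r
    refine key _ _ (RingHom.ext fun x => ?_)
    exact (IsScalarTower.algebraMap_apply A p.ResidueField Qb.ResidueField x).symm.trans
      (IsScalarTower.algebraMap_apply A p.ResidueField Qb.ResidueField x)
  rw [ha', hc'', ← E.trdeg_eq, hb'] at h3
  exact_mod_cast congrArg (fun n : ℕ => (n : WithBot ℕ∞)) (show b = a + c from by exact_mod_cast h3.symm)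

include k in
theorem localDim_eq_base_add_fiber [Module.Flat A B] (p : PrimeSpectrum A) (Qb : PrimeSpectrum (p.asIdeal.Fiber B)) :
    FlatMor.localDim (PrimeSpectrum B)
        (PrimeSpectrum.comap (Algebra.TensorProduct.includeRight : B →ₐ[A] p.asIdeal.Fiber B).toRingHom Qb) =
      FlatMor.localDim (PrimeSpectrum A) p + FlatMor.localDim (PrimeSpectrum (p.asIdeal.Fiber B)) Qb := by
  haveI : Algebra.FiniteType A B := Algebra.FiniteType.of_restrictScalars_finiteType k A B
  haveI : IsNoetherianRing A := Algebra.FiniteType.isNoetherianRing k A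
  haveI : IsNoetherianRing B := Algebra.FiniteType.isNoetherianRing k B
  let Q : Ideal B := Qb.asIdeal.comap Algebra.TensorProduct.includeRight
  haveI : Q.LiesOver p.asIdeal := ⟨by
    show p.asIdeal = Q.comap (algebraMap A B)
    rw [Ideal.over_def Qb.asIdeal p.asIdeal]
    ext r
    show algebraMap A _ r ∈ Qb.asIdeal ↔ (Algebra.TensorProduct.includeRight : B →ₐ[A] p.asIdeal.Fiber B) (algebraMap A B r) ∈ Qb.asIdeal
    rw [AlgHom.commutes]⟩
  rw [localDim_eq_dim_add k, localDim_eq_dim_add k, localDim_eq_dim_add p.asIdeal.ResidueField]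
  have h1 := ringKrullDim_quotient_fiber_add k (B := B) p.asIdeal Qb.asIdeal
  let Ap := Localization.AtPrime p.asIdeal
  let BQ := Localization.AtPrime Q
  letI : Algebra Ap BQ := (Localization.localRingHom p.asIdeal Q (algebraMap A B) (Ideal.over_def Q p.asIdeal)).toAlgebra
  haveI : IsScalarTower A Ap BQ := IsScalarTower.of_algebraMap_eq fun x => by
    rw [RingHom.algebraMap_toAlgebra, Localization.localRingHom_to_map, IsScalarTower.algebraMap_apply A B]
  haveI : IsLocalHom (algebraMap Ap BQ) := Localization.isLocalHom_localRingHom p.asIdeal Q _ _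
  haveI : Module.Flat A BQ := Module.Flat.trans A B BQ
  haveI : Module.Flat Ap BQ := (Module.flat_iff_of_isLocalization Ap p.asIdeal.primeCompl _).2 inferInstance
  haveI : IsNoetherianRing Ap := IsLocalization.isNoetherianRing p.asIdeal.primeCompl _ inferInstance
  haveI : IsNoetherianRing BQ := IsLocalization.isNoetherianRing Q.primeCompl _ inferInstance
  have h2 := CatLib.ringKrullDim_eq_add_of_flat (A := Ap) (B := BQ)
  have h3 : ringKrullDim (BQ ⧸ (IsLocalRing.maximalIdeal Ap).map (algebraMap Ap BQ)) =
      ringKrullDim (Localization.AtPrime Qb.asIdeal) := by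
    have e := Ideal.Fiber.algEquivAux₂ p.asIdeal Qb.asIdeal
    refine (ringKrullDim_eq_of_ringEquiv ((e.toRingEquiv.trans (Ideal.quotEquivOfEq ?_)))).symm
    rw [Ideal.map_map, ← Localization.AtPrime.map_eq_maximalIdeal, Ideal.map_map]
    exact congrArg (fun φ => Ideal.map φ p.asIdeal)
      ((IsScalarTower.algebraMap_eq A B BQ).symm.trans (IsScalarTower.algebraMap_eq A Ap BQ))
  rw [h3] at h2
  show ringKrullDim (B ⧸ Q) + ringKrullDim BQ = _
  rw [h2, show ringKrullDim (B ⧸ Q) = _ from h1, add_add_add_comm]

end FibDimLib
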