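import Groth.Agent.FibDimLib.FieldInv
import Groth.Agent.FibDimLib.FlatFormula

/-!
# Local dimensions of fibres under base change and along flat maps
-/

set_option autoImplicit false

universe u

open CategoryTheory CategoryTheory.Limits AlgebraicGeometry TopologicalSpace Topology TensorProduct

namespace FibDimLib

/-- Local dimensions are unchanged by extending the ground field. -/
theorem localDim_pullback_field {k K : Type u} [Field k] [Field K] [Algebra k K] {X : Scheme.{u}}
    (f : X ⟶ Spec (CommRingCat.of k)) [LocallyOfFiniteType f]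
    (z : ↥(pullback f (Spec.map (CommRingCat.ofHom (algebraMap k K))))) :
    FlatMor.localDim ↥(pullback f (Spec.map (CommRingCat.ofHom (algebraMap k K)))) z =
      FlatMor.localDim X ((pullback.fst f (Spec.map (CommRingCat.ofHom (algebraMap k K)))).base z) := by
  set p := pullback.fst f (Spec.map (CommRingCat.ofHom (algebraMap k K)))
  obtain ⟨_, ⟨U, hU, rfl⟩, hxU, -⟩ :=
    X.isBasis_affineOpens.exists_subset_of_mem_open (Set.mem_univ (p.base z)) isOpen_univ
  have hU : IsAffineOpen U := hU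
  obtain ⟨φ, hφ⟩ : ∃ φ : CommRingCat.of k ⟶ Γ(X, U), Spec.map φ = hU.fromSpec ≫ f := Spec.map_surjective _
  letI := φ.hom.toAlgebra
  haveI : Algebra.FiniteType k Γ(X, U) := RingHom.finiteType_algebraMap.mp
    ((HasRingHomProperty.Spec_iff (P := @LocallyOfFiniteType)).mp
      (hφ ▸ (inferInstance : LocallyOfFiniteType (hU.fromSpec ≫ f))))
  have sq := ((IsPullback.of_hasPullback p hU.fromSpec).flip.paste_vert
    (IsPullback.of_hasPullback f (Spec.map (CommRingCat.ofHom (algebraMap k K))))).flip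
  rw [← hφ] at sq
  let e : pullback p hU.fromSpec ≅ Spec (CommRingCat.of (K ⊗[k] Γ(X, U))) :=
    sq.isoPullback ≪≫ pullbackSpecIso k K Γ(X, U)
  let c : Spec (CommRingCat.of (K ⊗[k] Γ(X, U))) ⟶ pullback f (Spec.map (CommRingCat.ofHom (algebraMap k K))) :=
    e.inv ≫ pullback.fst p hU.fromSpec
  have hc : c ≫ p = Spec.map (CommRingCat.ofHom
      (Algebra.TensorProduct.includeRight : Γ(X, U) →ₐ[k] K ⊗[k] Γ(X, U)).toRingHom) ≫ hU.fromSpec := by
    simp only [c, e, Category.assoc, pullback.condition, Iso.trans_inv]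
    rw [IsPullback.isoPullback_inv_snd_assoc]
    exact pullbackSpecIso_inv_snd_assoc _ _ _ _
  have hr : z ∈ Set.range c.base := by
    have hfst : z ∈ Set.range (pullback.fst p hU.fromSpec).base := by
      rw [Scheme.Pullback.range_fst]
      show p.base z ∈ Set.range hU.fromSpec.base
      rw [hU.range_fromSpec]
      exact hxU
    obtain ⟨w, hw⟩ := hfst
    exact ⟨e.hom.base w, by rw [← hw, ← Scheme.Hom.comp_apply, ← Category.assoc, e.hom_inv_id, Category.id_comp]⟩
  obtain ⟨w, rfl⟩ := hr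
  have : IsOpenImmersion c := inferInstance
  rw [localDim_eq_of_isOpenEmbedding c.isOpenEmbedding w, ← Scheme.Hom.comp_apply, hc, Scheme.Hom.comp_apply,
    localDim_eq_of_isOpenEmbedding hU.fromSpec.isOpenEmbedding]
  exact localDim_baseChange_field k K w

theorem localDim_of_isPullback_field {k K : Type u} [Field k] [Field K] [Algebra k K] {F F' : Scheme.{u}}
    (g0 : F ⟶ Spec (CommRingCat.of k)) [LocallyOfFiniteType g0] {a : F' ⟶ F} {b : F' ⟶ Spec (CommRingCat.of K)}
    (h : IsPullback a b g0 (Spec.map (CommRingCat.ofHom (algebraMap k K)))) (w : F') :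
    FlatMor.localDim F' w = FlatMor.localDim F (a.base w) := by
  rw [← localDim_eq_of_isOpenEmbedding h.isoPullback.hom.isOpenEmbedding w, localDim_pullback_field g0,
    ← Scheme.Hom.comp_apply, h.isoPullback_hom_fst]

theorem fibreDimAt_fiberι {X Y : Scheme.{u}} (f : X ⟶ Y) (y : Y) (w : f.fiber y) :
    FlatMor.fibreDimAt f ((f.fiberι y).base w) = FlatMor.localDim (f.fiber y) w := by
  obtain ⟨x, rfl⟩ : ∃ x, f.base x = y := by
    refine ⟨(f.fiberι y).base w, ?_⟩
    have h := Set.mem_range_self (f := (f.fiberι y).base) w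
    rwa [f.range_fiberι] at h
  have key : ∀ (x' : X) (w : f.fiber (f.base x)), (f.fiberι (f.base x)).base w = x' →
      FlatMor.fibreDimAt f x' = FlatMor.localDim (f.fiber (f.base x)) w := by
    intro x' w hw
    have he : f.base x' = f.base x := by
      have h := Set.mem_range_self (f := (f.fiberι (f.base x)).base) w
      rw [f.range_fiberι, hw] at h
      exact h
    rw [FlatMor.fibreDimAt]
    revert w
    rw [← he]
    intro w hw
    congr 1
    exact (f.fiberι _).isEmbedding.injective ((f.fiberι_asFiber x').trans hw.symm)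
  exact key _ w rfl

/-- The dimension of the fibre at a point is stable under base change. -/
theorem fibreDimAt_baseChange {X S X' S' : Scheme.{u}} {f : X ⟶ S} [LocallyOfFiniteType f] {g : S' ⟶ S}
    {g' : X' ⟶ X} {f' : X' ⟶ S'} (hc : IsPullback g' f' f g) (x' : X') :
    FlatMor.fibreDimAt f' x' = FlatMor.fibreDimAt f (g'.base x') := by
  have h := isPullback_fiberToSpecResidueField_of_isPullback hc (f'.base x')
  letI := (g.residueFieldMap (f'.base x')).hom.toAlgebra
  haveI : LocallyOfFiniteType (f.fiberToSpecResidueField (g (f'.base x'))) := UOpenLib.lft_fiberToSpec f _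
  have e := localDim_of_isPullback_field (k := S.residueField (g (f'.base x'))) (K := S'.residueField (f'.base x'))
    (f.fiberToSpecResidueField (g (f'.base x'))) h (f'.asFiber x')
  rw [FlatMor.fibreDimAt]
  refine e.trans ?_
  rw [← fibreDimAt_fiberι, ← Scheme.Hom.comp_apply]
  congr 1
  exact (congrArg (fun m : f'.fiber (f'.base x') ⟶ X => m.base (f'.asFiber x')) (pullback.lift_fst _ _ _)).trans
    (congrArg g'.base (f'.fiberι_asFiber x'))

/-- The fibre dimension at a point computed in affine charts. -/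
theorem fibreDimAt_eq_affine {X Y : Scheme.{u}} (f : X ⟶ Y) (x : X) {V : Y.Opens} (hV : IsAffineOpen V)
    {U : X.Opens} (hU : IsAffineOpen U) (hUV : U ≤ f ⁻¹ᵁ V) (hxU : x ∈ U) :
    letI := (f.appLE V U hUV).hom.toAlgebra
    ∃ Q : PrimeSpectrum ((hV.primeIdealOf ⟨f x, hUV hxU⟩).asIdeal.Fiber Γ(X, U)),
      Q.asIdeal.comap (Algebra.TensorProduct.includeRight.toRingHom) = (hU.primeIdealOf ⟨x, hxU⟩).asIdeal ∧
      FlatMor.localDim (PrimeSpectrum ((hV.primeIdealOf ⟨f x, hUV hxU⟩).asIdeal.Fiber Γ(X, U))) Q =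
        FlatMor.fibreDimAt f x := by
  let R := Γ(Y, V)
  let S := Γ(X, U)
  let ρ := f.appLE V U hUV
  letI : Algebra R S := ρ.hom.toAlgebra
  let qp : PrimeSpectrum S := hU.primeIdealOf ⟨x, hxU⟩
  let pp : PrimeSpectrum R := hV.primeIdealOf ⟨f x, hUV hxU⟩
  have hqp : PrimeSpectrum.comap (algebraMap R S) qp = pp :=
    IsAffineOpen.comap_primeIdealOf_appLE V hV U hU hUV hxU
  let Z := PrimeSpectrum.comap (algebraMap R S) ⁻¹' {pp}
  let H := PrimeSpectrum.preimageHomeomorphFiber R S pp
  refine ⟨H ⟨qp, hqp⟩, congrArg (fun w ↦ (Subtype.val w : PrimeSpectrum S).asIdeal)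
    (H.symm_apply_apply ⟨qp, hqp⟩), ?_⟩
  have hsub : hU.fromSpec ⁻¹' (f ⁻¹' {f x}) = Z := by
    have hfac : hU.fromSpec ≫ f = Spec.map ρ ≫ hV.fromSpec :=
      (IsAffineOpen.SpecMap_appLE_fromSpec f hV hU hUV).symm
    ext q
    show f (hU.fromSpec q) = f x ↔ PrimeSpectrum.comap (algebraMap R S) q = pp
    rw [← Scheme.Hom.comp_apply, hfac, Scheme.Hom.comp_apply]
    have e0 : hV.fromSpec pp = f x := hV.fromSpec_primeIdealOf ⟨f x, hUV hxU⟩
    exact ⟨fun h ↦ hV.fromSpec.isOpenEmbedding.injective (h.trans e0.symm),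
      fun h ↦ (congrArg hV.fromSpec h).trans e0⟩
  have h1 : Topology.IsOpenEmbedding ((Set.restrictPreimage (f ⁻¹' {f x}) hU.fromSpec)) :=
    hU.fromSpec.isOpenEmbedding.restrictPreimage _
  let e2 : Z ≃ₜ ↥(hU.fromSpec ⁻¹' (f ⁻¹' {f x})) := Homeomorph.setCongr hsub.symm
  have h3 := (((f.fiberHomeo (f x)).symm.isOpenEmbedding.comp h1).comp e2.isOpenEmbedding).comp
    H.symm.isOpenEmbedding
  rw [← localDim_eq_of_isOpenEmbedding h3, FlatMor.fibreDimAt]
  congr 1
  show (f.fiberHomeo (f x)).symm _ = f.asFiber x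
  rw [Scheme.Hom.asFiber]
  congr 1
  apply Subtype.ext
  simp only [Function.comp_apply, Homeomorph.symm_apply_apply]
  exact hU.fromSpec_primeIdealOf ⟨x, hxU⟩

/-- Local dimensions add along a flat morphism of schemes locally of finite type over a field. -/
theorem localDim_eq_add_fibreDimAt {k : Type u} [Field k] {X Y : Scheme.{u}}
    (q : Y ⟶ Spec (CommRingCat.of k)) [LocallyOfFiniteType q] (f : X ⟶ Y) [LocallyOfFiniteType f] [Flat f] (x : X) :
    FlatMor.localDim X x = FlatMor.localDim Y (f.base x) + FlatMor.fibreDimAt f x := by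
  obtain ⟨_, ⟨V, hV, rfl⟩, hxV, -⟩ :=
    Y.isBasis_affineOpens.exists_subset_of_mem_open (Set.mem_univ (f.base x)) isOpen_univ
  obtain ⟨_, ⟨U, hU, rfl⟩, hxU, hUV⟩ :=
    X.isBasis_affineOpens.exists_subset_of_mem_open (show x ∈ f ⁻¹ᵁ V from hxV) (f ⁻¹ᵁ V).isOpen
  have hV : IsAffineOpen V := hV
  have hU : IsAffineOpen U := hU
  obtain ⟨φ, hφ⟩ : ∃ φ : CommRingCat.of k ⟶ Γ(Y, V), Spec.map φ = hV.fromSpec ≫ q := Spec.map_surjective _
  letI := φ.hom.toAlgebra
  haveI : Algebra.FiniteType k Γ(Y, V) := RingHom.finiteType_algebraMap.mp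
    ((HasRingHomProperty.Spec_iff (P := @LocallyOfFiniteType)).mp
      (hφ ▸ (inferInstance : LocallyOfFiniteType (hV.fromSpec ≫ q))))
  letI := (f.appLE V U hUV).hom.toAlgebra
  letI : Algebra k Γ(X, U) := ((f.appLE V U hUV).hom.comp φ.hom).toAlgebra
  haveI : IsScalarTower k Γ(Y, V) Γ(X, U) := IsScalarTower.of_algebraMap_eq' rfl
  haveI : Algebra.FiniteType Γ(Y, V) Γ(X, U) := f.finiteType_appLE hV hU hUV
  haveI : Algebra.FiniteType k Γ(X, U) := Algebra.FiniteType.trans ‹Algebra.FiniteType k Γ(Y, V)› ‹_›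
  haveI : Module.Flat Γ(Y, V) Γ(X, U) := f.flat_appLE hV hU hUV
  obtain ⟨Q, hQ, hQd⟩ := fibreDimAt_eq_affine f x hV hU hUV hxU
  have h := localDim_eq_base_add_fiber k (A := Γ(Y, V)) (B := Γ(X, U)) (hV.primeIdealOf ⟨f x, hUV hxU⟩) Q
  rw [hQd] at h
  have e1 : PrimeSpectrum.comap (Algebra.TensorProduct.includeRight :
      Γ(X, U) →ₐ[Γ(Y, V)] (hV.primeIdealOf ⟨f x, hUV hxU⟩).asIdeal.Fiber Γ(X, U)).toRingHom Q =
      hU.primeIdealOf ⟨x, hxU⟩ := PrimeSpectrum.ext hQ
  rw [e1] at h
  have eU := localDim_eq_of_isOpenEmbedding hU.fromSpec.isOpenEmbedding (hU.primeIdealOf ⟨x, hxU⟩)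
  rw [hU.fromSpec_primeIdealOf] at eU
  have eV := localDim_eq_of_isOpenEmbedding hV.fromSpec.isOpenEmbedding (hV.primeIdealOf ⟨f x, hUV hxU⟩)
  rw [hV.fromSpec_primeIdealOf] at eV
  refine eU.trans (Eq.trans ?_ (congrArg (· + FlatMor.fibreDimAt f x) eV.symm))
  exact h

/-- Local dimensions in a product over a field. -/
theorem localDim_pullback {k : Type u} [Field k] {X Y : Scheme.{u}} (f : X ⟶ Spec (CommRingCat.of k))
    (g : Y ⟶ Spec (CommRingCat.of k)) [LocallyOfFiniteType f] [LocallyOfFiniteType g] (z : ↥(pullback f g)) :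
    FlatMor.localDim ↥(pullback f g) z =
      FlatMor.localDim X ((pullback.fst f g).base z) + FlatMor.localDim Y ((pullback.snd f g).base z) := by
  have : Flat f := by
    refine IsZariskiLocalAtSource.of_iSup_eq_top (P := @Flat) (fun U : X.affineOpens => U.1)
      (iSup_affineOpens_eq_top X) fun U => ?_
    obtain ⟨φ, hφ⟩ : ∃ φ : CommRingCat.of k ⟶ Γ(X, U.1), Spec.map φ = U.2.fromSpec ≫ f := Spec.map_surjective _
    letI := φ.hom.toAlgebra
    have hfl : Flat (Spec.map φ) := by
      rw [HasRingHomProperty.Spec_iff (P := @Flat)]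
      exact (inferInstance : Module.Flat k Γ(X, U.1))
    rw [← U.2.isoSpec_hom_fromSpec, Category.assoc, ← hφ]
    infer_instance
  haveI : Flat (pullback.snd f g) := MorphismProperty.pullback_snd _ _ ‹Flat f›
  haveI : LocallyOfFiniteType (pullback.snd f g) := MorphismProperty.pullback_snd _ _ ‹_›
  rw [localDim_eq_add_fibreDimAt g (pullback.snd f g) z, fibreDimAt_baseChange (IsPullback.of_hasPullback f g) z,
    add_comm]
  congr 1
  have hemb : IsOpenEmbedding (f.fiberι (f.base ((pullback.fst f g).base z))).base := by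
    refine ⟨(f.fiberι _).isEmbedding, ?_⟩
    rw [f.range_fiberι, show f.base ⁻¹' {f.base ((pullback.fst f g).base z)} = Set.univ from
      Set.eq_univ_of_forall fun x => Subsingleton.elim (α := PrimeSpectrum k) _ _]
    exact isOpen_univ
  rw [FlatMor.fibreDimAt, ← localDim_eq_of_isOpenEmbedding hemb, f.fiberι_asFiber]

end FibDimLib
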