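import Groth.Agent.FibDimLib.ConsDim
import Groth.Agent.ConsLib.AffineModel

/-! Loci of constructible properties over a general base; loci of fibre dimensions. -/

set_option autoImplicit false

universe u

open CategoryTheory CategoryTheory.Limits AlgebraicGeometry TopologicalSpace Topology RichLib.LimBC Groth.Agent

namespace ConsLib

theorem isIndConstructible_locus' {P : ∀ ⦃Y T : Scheme.{u}⦄, (Y ⟶ T) → Prop} (hP : ConsProp.IsIndCons P)
    {X S : Scheme.{u}} (f : X ⟶ S) [LocallyOfFinitePresentation f] [QuasiCompact f] [QuasiSeparated f] :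
    ProCons.IsIndConstructible (ConsProp.locus P f) := by
  refine ProConsLib.isIndConstructible_iff_affine.mpr fun U hU => ?_
  haveI : IsAffine U.toScheme := hU
  have hX := IsPullback.of_hasPullback f U.ι
  rw [← locus_preimage hP.1 hX]
  haveI : LocallyOfFinitePresentation (𝟙 _ ≫ pullback.snd f U.ι) := by rw [Category.id_comp]; infer_instance
  haveI : QuasiCompact (𝟙 _ ≫ pullback.snd f U.ι) := by rw [Category.id_comp]; infer_instance
  haveI : QuasiSeparated (𝟙 _ ≫ pullback.snd f U.ι) := by rw [Category.id_comp]; infer_instance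
  obtain ⟨X₀, Y₀, S₀, f₀, g₀, q, pX, pY, _, _, _, _, _, hY₀, hX₀⟩ :=
    exists_noetherian_model (𝟙 _) (pullback.snd f U.ι)
  rw [locus_preimage hP.1 hY₀]
  exact ProConsLib.isIndConstructible_iff_isOpen_cons.mp
    (ProConsLib.isIndConstructible_preimage q (isIndConstructible_locus hP g₀))

theorem isLocallyConstructible_locus' {P : ∀ ⦃Y T : Scheme.{u}⦄, (Y ⟶ T) → Prop} (hP : ConsProp.IsCons P)
    {X S : Scheme.{u}} (f : X ⟶ S) [LocallyOfFinitePresentation f] [QuasiCompact f] [QuasiSeparated f] :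
    IsLocallyConstructible (ConsProp.locus P f) :=
  ProConsLib.isLocallyConstructible_iff_ind_and_pro.mpr ⟨isIndConstructible_locus' (indCons_of_cons hP) f,
    ProConsLib.isIndConstructible_compl_iff.mp (isIndConstructible_locus' (indCons_of_cons (cons_compl hP)) f)⟩

end ConsLib

namespace FibDimLib

theorem isLocallyConstructible_fiber_dim_mem {X Y : Scheme.{u}} (f : X ⟶ Y) [LocallyOfFinitePresentation f]
    [QuasiCompact f] [QuasiSeparated f] (Φ : Set (WithBot ℕ∞)) :
    IsLocallyConstructible {y : Y | topologicalKrullDim ↑(f.fiber y) ∈ Φ} :=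
  ConsLib.isLocallyConstructible_locus' (isCons_dim Φ) f

theorem exists_open_fiber_dim_of_irreducible {X Y : Scheme.{u}} (f : X ⟶ Y) [IrreducibleSpace ↑Y]
    [LocallyOfFiniteType f] [QuasiCompact f] :
    ∃ V : Y.Opens, genericPoint Y ∈ V ∧
      ∀ y ∈ V, topologicalKrullDim ↑(f.fiber y) = topologicalKrullDim ↑(f.fiber (genericPoint Y)) := by
  obtain ⟨Z, i, hi, hZ, hr⟩ := DevissLib.exists_integral_closed (isClosed_univ (X := Y))
    (IrreducibleSpace.isIrreducible_univ Y)
  haveI := hi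
  haveI := hZ
  haveI : Surjective i := ⟨fun y => Set.range_eq_univ.mp hr y⟩
  have hh : IsHomeomorph i := (i.isClosedEmbedding.toHomeomorphOfSurjective i.surjective).isHomeomorph
  obtain ⟨O, hO, hd⟩ := exists_open_fiber_dim_eq (pullback.snd f i)
  have hη : i (genericPoint Z) = genericPoint Y := by
    refine (genericPoint_spec Y).eq ?_ |>.symm
    have := (genericPoint_spec Z).image i.continuous
    simpa [Set.image_univ, hr] using this
  refine ⟨⟨i '' O, hh.isOpenMap _ O.2⟩, ⟨genericPoint Z, hO, hη⟩, ?_⟩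
  rintro _ ⟨z, hz, rfl⟩
  have hbc : ∀ z, topologicalKrullDim ↑((pullback.snd f i).fiber z) = topologicalKrullDim ↑(f.fiber (i z)) :=
    fun z => topologicalKrullDim_fiber_baseChange (IsPullback.of_hasPullback f i) z
  exact (hbc z).symm.trans ((hd z hz).trans ((hbc _).trans (by rw [hη])))

theorem exists_affine_approximation_dim {X S : Scheme.{u}} [IsAffine X] [IsAffine S] (f : X ⟶ S)
    [LocallyOfFinitePresentation f] (d : WithBot ℕ∞) (hd : ∀ s : S, topologicalKrullDim ↑(f.fiber s) = d) :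
    ∃ (X₀ S₀ : Scheme.{u}) (f₀ : X₀ ⟶ S₀) (g : S ⟶ S₀) (g' : X ⟶ X₀), IsAffine X₀ ∧ IsAffine S₀ ∧
      IsPullback g' f f₀ g ∧ Algebra.FiniteType ℤ Γ(S₀, ⊤) ∧ LocallyOfFiniteType f₀ ∧
      ∀ s₀ : S₀, topologicalKrullDim ↑(f₀.fiber s₀) = d := by
  let A := ConsLib.zSys (Γ(S, ⊤) : Type u)
  haveI : ∀ i j (a : i ⟶ j), IsAffineHom (A.D.map a) := fun _ _ a => A.affine_map a
  obtain ⟨i, N, hN⟩ := ConsLib.exists_affine_model f
  haveI := N.lfp
  haveI := N.qc
  haveI := N.qs
  haveI : IsNoetherian (A.D.obj i) := ConsLib.zSys_obj _ i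
  let e : S ≅ A.c.pt := S.isoSpec ≪≫ (ConsLib.zSysIso _).symm
  have hE := (ProConsLib.isLocallyConstructible_iff_ind_and_pro.mp
    (isLocallyConstructible_fiber_dim_mem N.p {d})).1
  obtain ⟨j, φ, hφ⟩ := ConsLib.exists_stage_subset A.D A.c A.hc i hE (fun t => by
    show topologicalKrullDim ↑(N.p.fiber (A.c.π.app i t)) = d
    rw [← topologicalKrullDim_fiber_baseChange N.sq t]
    have sq2 : IsPullback (𝟙 X) (f ≫ e.hom) f e.inv := IsPullback.of_horiz_isIso ⟨by simp⟩
    exact (topologicalKrullDim_fiber_baseChange sq2 t).trans (hd _))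
  let N' := N.push φ
  haveI := N'.lfp
  haveI : IsAffine N'.Z := @isAffine_of_isAffineHom _ _ (N.pfst φ)
    (MorphismProperty.pullback_fst (P := @IsAffineHom) _ _ inferInstance) hN
  refine ⟨N'.Z, _, N'.p, e.hom ≫ A.c.π.app j, N'.g, inferInstance, ConsLib.zSys_affine j, ?_,
    ConsLib.zSys_finiteType j, inferInstance, fun s₀ => ?_⟩
  · exact N'.sq.of_iso (Iso.refl _) (Iso.refl _) e.symm (Iso.refl _) (by simp) (by simp [e]) (by simp) (by simp [e, A])
  · exact (topologicalKrullDim_fiber_baseChange (N.isPullback_pfst φ) s₀).trans (hφ s₀)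

end FibDimLib
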