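import Groth.Agent.UOpenLib.Generization
import Groth.Agent.FibDimLib.DimLoci
import Groth.Agent.FlatLib.FibMaster
import Groth.Agent.WeightLib.Count

/-!
# Semicontinuity of the dimension of fibres
-/

set_option autoImplicit false

universe u

open CategoryTheory AlgebraicGeometry TopologicalSpace Topology MvPolynomial TensorProduct

namespace FibDimLib

theorem le_of_forall_nat_le {a c : WithBot ℕ∞} (h : ∀ n : ℕ, (n : WithBot ℕ∞) ≤ a → (n : WithBot ℕ∞) ≤ c) :
    a ≤ c := by
  induction a with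
  | bot => exact bot_le
  | coe a =>
    induction a with
    | top =>
      induction c with
      | bot => exact absurd (h 0 (WithBot.coe_le_coe.mpr le_top)) (by simp)
      | coe c =>
        refine WithBot.coe_le_coe.mpr (le_of_eq (ENat.eq_top_iff_forall_ge.mpr fun n ↦ ?_).symm)
        exact WithBot.coe_le_coe.mp (h n (WithBot.coe_le_coe.mpr le_top))
    | coe n => exact h n le_rfl

/-- A space is no bigger than the closures of its generic points. -/
theorem topologicalKrullDim_le_of_generic {A : Type*} [TopologicalSpace A] [T0Space A] [QuasiSober A]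
    {c : WithBot ℕ∞} (h : ∀ z : A, closure {z} ∈ irreducibleComponents A →
      topologicalKrullDim (closure ({z} : Set A)) ≤ c) : topologicalKrullDim A ≤ c := by
  refine le_of_forall_nat_le fun n hn ↦ ?_
  obtain ⟨q, hq, hqs⟩ := exists_specChain hn
  obtain ⟨z, hz, hzq⟩ : ∃ z : A, closure {z} ∈ irreducibleComponents A ∧ z ⤳ q 0 := by
    have hg := (isIrreducible_irreducibleComponent (x := q 0)).isGenericPoint_genericPoint_closure
    rw [closure_eq_iff_isClosed.mpr isClosed_irreducibleComponent] at hg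
    exact ⟨_, hg.def.symm ▸ irreducibleComponent_mem_irreducibleComponents _,
      hg.specializes mem_irreducibleComponent⟩
  have : QuasiSober (closure ({z} : Set A)) := isClosed_closure.isClosedEmbedding_subtypeVal.quasiSober
  refine le_trans (IsSpecChain.le_topologicalKrullDim (c := fun i ↦
      (⟨q i, (hzq.trans (hqs 0 i (Fin.zero_le i))).mem_closure⟩ : closure ({z} : Set A)))
    ⟨fun i j he ↦ hq (congrArg Subtype.val he),
      fun i j hij ↦ IsInducing.subtypeVal.specializes_iff.mp (hqs i j hij)⟩) (h z hz)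

variable {X S : Scheme.{u}} (f : X ⟶ S)

/-- Semicontinuity of the dimension of the fibre at a point. -/
theorem isOpen_fibreDimAt_le [LocallyOfFiniteType f] (c : WithBot ℕ∞) :
    IsOpen {x : X | FlatMor.fibreDimAt f x ≤ c} := by
  refine isOpen_iff_forall_mem_open.mpr fun x hx ↦ ?_
  obtain ⟨d, hd⟩ := UOpenLib.exists_fibreDimAt_eq_nat f x
  obtain ⟨_, ⟨V, hV, rfl⟩, hxV, -⟩ :=
    S.isBasis_affineOpens.exists_subset_of_mem_open (Set.mem_univ (f.base x)) isOpen_univ
  obtain ⟨U, hU, hxU, eUV, φ, hφ, -, hqf⟩ := exists_qf_affine_nhd f x hV hxV d hd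
  refine ⟨U, fun z hz ↦ ?_, U.isOpen, hxU⟩
  obtain ⟨x₀, -, hsp, -, he⟩ := UOpenLib.exists_max_fibreDimAt f z
  show FlatMor.fibreDimAt f z ≤ c
  rw [← he]
  exact (UOpenLib.fibreClosureDim_le f hV hU eUV φ hφ hqf (hsp.mem_open U.isOpen hz)).trans (hd ▸ hx)

theorem fibreDimAt_le_of_specializes [LocallyOfFiniteType f] {x' x : X} (h : x' ⤳ x) :
    FlatMor.fibreDimAt f x' ≤ FlatMor.fibreDimAt f x :=
  h.mem_open (isOpen_fibreDimAt_le f (FlatMor.fibreDimAt f x)) (le_refl (FlatMor.fibreDimAt f x))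

theorem fibreClosureDim_le_fiber (x : X) :
    UOpenLib.fibreClosureDim f x ≤ topologicalKrullDim (f.fiber (f.base x)) :=
  topologicalKrullDim_subspace_le _ _

theorem fibreDimAt_le_fiber [LocallyOfFiniteType f] (x : X) :
    FlatMor.fibreDimAt f x ≤ topologicalKrullDim (f.fiber (f.base x)) := by
  obtain ⟨x₀, hx₀, -, -, he⟩ := UOpenLib.exists_max_fibreDimAt f x
  rw [← he, ← hx₀]
  exact fibreClosureDim_le_fiber f x₀

theorem topologicalKrullDim_fiber_le_iff [LocallyOfFiniteType f] (s : S) (c : WithBot ℕ∞) :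
    topologicalKrullDim (f.fiber s) ≤ c ↔ ∀ x : X, f.base x = s → FlatMor.fibreDimAt f x ≤ c := by
  refine ⟨fun h x hx ↦ (fibreDimAt_le_fiber f x).trans (hx.symm ▸ h), fun h ↦ ?_⟩
  refine topologicalKrullDim_le_of_generic fun z hz ↦ ?_
  have hg : f.base ((f.fiberι s).base z) = s := by
    have h := Set.mem_range_self (f := (f.fiberι s).base) z
    rwa [f.range_fiberι] at h
  refine le_of_eq_of_le ?_ (h _ hg)
  rw [UOpenLib.fibreDimAt_eq_of_max f (UOpenLib.max_of_closure_mem f hz),
    UOpenLib.fibreClosureDim_eq_inter, hg]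
  have h' : (f.fiberι s).base '' closure {z} = closure {(f.fiberι s).base z} ∩ f.base ⁻¹' {s} := by
    rw [(f.fiberι s).isEmbedding.isInducing.closure_eq_preimage_closure_image,
      Set.image_singleton, Set.image_preimage_eq_inter_range, f.range_fiberι]
  let e := ((f.fiberι s).isEmbedding.homeomorphImage (closure {z})).trans (Homeomorph.setCongr h')
  exact IsHomeomorph.topologicalKrullDim_eq e e.isHomeomorph

theorem isOpen_fiber_dim_le [LocallyOfFiniteType f] (hf : IsClosedMap f.base) (c : WithBot ℕ∞) :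
    IsOpen {s : S | topologicalKrullDim (f.fiber s) ≤ c} := by
  have : {s : S | topologicalKrullDim (f.fiber s) ≤ c} = (f.base '' {x | FlatMor.fibreDimAt f x ≤ c}ᶜ)ᶜ := by
    ext s
    simp only [Set.mem_setOf_eq, topologicalKrullDim_fiber_le_iff, Set.mem_compl_iff, Set.mem_image]
    grind
  rw [this]
  exact (hf _ (isOpen_fibreDimAt_le f c).isClosed_compl).isOpen_compl

/-- Universally open maps have lower semicontinuous dimension of fibres. -/
theorem isOpen_lt_fiber_dim [LocallyOfFinitePresentation f] [QuasiCompact f] [QuasiSeparated f]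
    (ho : ∀ x, EGA43.IsUnivOpenAt f x) (c : WithBot ℕ∞) :
    IsOpen {s : S | c < topologicalKrullDim (f.fiber s)} := by
  set E := {s : S | c < topologicalKrullDim (f.fiber s)}
  have hgen : StableUnderGeneralization E := by
    intro s y₁ hy hs
    have hs' : c < topologicalKrullDim (f.fiber s) := hs
    rw [← not_le, topologicalKrullDim_fiber_le_iff] at hs'
    push Not at hs'
    obtain ⟨x, rfl, hx⟩ := hs'
    obtain ⟨x₀, hx₀, -, hmax, he⟩ := UOpenLib.exists_max_fibreDimAt f x
    rw [← he, ← UOpenLib.fibreDimAt_eq_of_max f hmax] at hx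
    obtain ⟨ζ, -, rfl, hζ⟩ := UOpenLib.exists_generization_of_isUnivOpenAt f hmax (ho x₀) (hx₀.symm ▸ hy)
    exact hx.trans_le (hζ.trans (fibreClosureDim_le_fiber f ζ))
  refine isOpen_iff_forall_mem_open.mpr fun s hs ↦ ?_
  obtain ⟨_, ⟨W, hW, rfl⟩, hsW, -⟩ :=
    S.isBasis_affineOpens.exists_subset_of_mem_open (Set.mem_univ s) isOpen_univ
  have hW : IsAffineOpen W := hW
  have h1 : IsConstructible (hW.fromSpec.base ⁻¹' E) :=
    ((isLocallyConstructible_fiber_dim_mem f (Set.Ioi c)).preimage_of_isOpenEmbedding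
      hW.fromSpec.isOpenEmbedding).isConstructible
  have h2 : IsOpen (hW.fromSpec.base ⁻¹' E) :=
    PrimeSpectrum.isOpen_of_stableUnderGeneralization_of_isConstructible
      (fun a b hab ha ↦ hgen (hab.map hW.fromSpec.continuous) ha) h1
  refine ⟨hW.fromSpec.base '' (hW.fromSpec.base ⁻¹' E), Set.image_preimage_subset _ _,
    hW.fromSpec.isOpenEmbedding.isOpenMap _ h2, ?_⟩
  obtain ⟨w, hw⟩ : s ∈ Set.range hW.fromSpec.base := by rw [hW.range_fromSpec]; exact hsW
  exact ⟨w, show hW.fromSpec.base w ∈ E from hw.symm ▸ hs, hw⟩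

/-- A flat morphism maps to affine space flatly near a maximal point of a fibre. -/
theorem exists_flat_comap {R A : Type u} [CommRing R] [CommRing A] {d : ℕ}
    (φ : MvPolynomial (Fin d) R →+* A) (q : PrimeSpectrum A)
    (hfp : (φ.comp C).FinitePresentation) (hflat : (φ.comp C).Flat)
    (hq : q.asIdeal.comap φ = (q.asIdeal.comap (φ.comp C)).map C)
    {ζ : PrimeSpectrum A} (hle : ζ ≤ q) :
    ∃ ζ' ≤ ζ, ζ'.asIdeal.comap φ = (ζ.asIdeal.comap (φ.comp C)).map C := by
  let P := MvPolynomial (Fin d) R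
  letI : Algebra P A := φ.toAlgebra
  letI : Algebra R A := (φ.comp C).toAlgebra
  haveI : IsScalarTower R P A := IsScalarTower.of_algebraMap_eq' rfl
  haveI : Algebra.FinitePresentation R A := hfp
  haveI : Module.Flat R A := hflat
  haveI : Module.FinitePresentation A A := inferInstance
  have hR : q ∈ FlatLib.flatLocus R A A :=
    (FlatLib.mem_flatLocus_self_iff q).mpr (Module.Flat.trans R A (Localization.AtPrime q.asIdeal))
  let I : Ideal P := (q.asIdeal.comap (algebraMap R A)).map (algebraMap R P)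
  have hI : q.asIdeal.comap (algebraMap P A) = I := hq
  haveI : I.IsPrime := hI ▸ inferInstance
  let Aq := Localization.AtPrime q.asIdeal
  have hfib : FlatLib.FibFlat P A A I q.asIdeal := by
    rw [FlatLib.fibFlat_iff q.asIdeal (Algebra.linearMap A Aq)]
    let M' := (P ⧸ I) ⊗[P] Aq
    let T := nonZeroDivisors (P ⧸ I)
    haveI : IsLocalizedModule T (LinearMap.id : M' →ₗ[P ⧸ I] M') := by
      refine ⟨fun t ↦ ?_, fun y ↦ ⟨⟨y, 1⟩, one_smul _ y⟩, fun h ↦ ⟨1, by simpa using h⟩⟩
      obtain ⟨a, ha⟩ := Ideal.Quotient.mk_surjective (t : P ⧸ I)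
      have haI : a ∉ I := fun h ↦ nonZeroDivisors.ne_zero t.2
        (ha.symm.trans (Ideal.Quotient.eq_zero_iff_mem.mpr h))
      have hu : IsUnit (algebraMap P Aq a) := by
        rw [IsScalarTower.algebraMap_apply P A Aq]
        exact IsLocalization.map_units (M := q.asIdeal.primeCompl) Aq
          ⟨algebraMap P A a, fun h ↦ haI (hI ▸ h)⟩
      obtain ⟨v, hv⟩ := hu
      rw [Module.End.isUnit_iff]
      have e : ∀ z : M', (t : P ⧸ I) • z = (LinearMap.lTensor (P ⧸ I) (LinearMap.lsmul P Aq a)) z := fun z ↦ by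
        rw [← ha]
        induction z using TensorProduct.induction_on with
        | zero => simp
        | add z w hz hw => rw [smul_add, map_add, hz, hw]
        | tmul x y =>
          rw [TensorProduct.smul_tmul', LinearMap.lTensor_tmul, LinearMap.lsmul_apply, ← TensorProduct.smul_tmul]
          rfl
      have hb : Function.Bijective (LinearMap.lsmul P Aq a) := by
        show Function.Bijective fun y : Aq ↦ a • y
        have : (fun y : Aq ↦ a • y) = fun y ↦ (v : Aq) * y := funext fun y ↦ by rw [hv, Algebra.smul_def]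
        rw [this]
        exact (Units.mulLeft v).bijective
      show Function.Bijective fun z : M' ↦ (t : P ⧸ I) • z
      rw [funext e]
      exact (LinearEquiv.lTensor (P ⧸ I) (LinearEquiv.ofBijective _ hb)).bijective
    let L := FractionRing (P ⧸ I)
    haveI : Module.Flat (P ⧸ I) L := IsLocalization.flat L T
    haveI : Module.Free L (L ⊗[P ⧸ I] M') := Module.Free.of_divisionRing L _
    haveI : Module.Flat L (L ⊗[P ⧸ I] M') := Module.Flat.of_free
    haveI : Module.Flat (P ⧸ I) (L ⊗[P ⧸ I] M') := Module.Flat.trans (P ⧸ I) L _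
    haveI : IsLocalizedModule T (TensorProduct.mk (P ⧸ I) L M' 1) :=
      (isLocalizedModule_iff_isBaseChange T L _).mpr (TensorProduct.isBaseChange (P ⧸ I) M' L)
    exact Module.Flat.of_linearEquiv (IsLocalizedModule.linearEquiv T (LinearMap.id : M' →ₗ[P ⧸ I] M')
      (TensorProduct.mk (P ⧸ I) L M' 1))
  haveI : Nontrivial (LocalizedModule q.asIdeal.primeCompl A) :=
    (IsLocalizedModule.iso q.asIdeal.primeCompl (Algebra.linearMap A Aq)).toEquiv.nontrivial
  obtain ⟨O, -, hqO, hO⟩ := FlatLib.exists_open_of_fibFlat (R := R) (S := P) q hR hfib ‹_›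
  have hP : Module.Flat P Aq := (FlatLib.mem_flatLocus_self_iff q).mp (hO q hqO).1
  -- going down from the prime of `ζ` in `A_q`
  obtain ⟨⟨ζq, hζq⟩, rfl⟩ : ∃ z : {z : PrimeSpectrum Aq // True}, PrimeSpectrum.comap (algebraMap A Aq) z.1 = ζ := by
    have : ζ ∈ Set.range (PrimeSpectrum.comap (algebraMap A Aq)) := by
      rw [PrimeSpectrum.localization_comap_range Aq q.asIdeal.primeCompl]
      exact Set.disjoint_left.mpr fun a ha hζ ↦ ha (hle hζ)
    obtain ⟨z, hz⟩ := this
    exact ⟨⟨z, trivial⟩, hz⟩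
  let p : Ideal P := ((PrimeSpectrum.comap (algebraMap A Aq) ζq).asIdeal.comap (φ.comp C)).map C
  haveI : p.IsPrime := by
    have := MvPolynomial.ker_map (σ := Fin d) (Ideal.Quotient.mk
      ((PrimeSpectrum.comap (algebraMap A Aq) ζq).asIdeal.comap (φ.comp C)))
    rw [Ideal.mk_ker] at this
    rw [show p = _ from this.symm]
    exact RingHom.ker_isPrime _
  have hp : p ≤ ζq.asIdeal.comap (algebraMap P Aq) := by
    rw [IsScalarTower.algebraMap_eq P A Aq, ← Ideal.comap_comap, Ideal.map_le_iff_le_comap]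
    exact le_rfl
  haveI : ζq.asIdeal.LiesOver (ζq.asIdeal.comap (algebraMap P Aq)) := ⟨rfl⟩
  obtain ⟨Q, hQ, hQp, hQo⟩ := Ideal.exists_ideal_le_liesOver_of_le (S := Aq)
    (p := p) (q := ζq.asIdeal.comap (algebraMap P Aq)) ζq.asIdeal hp
  refine ⟨PrimeSpectrum.comap (algebraMap A Aq) ⟨Q, hQp⟩, Ideal.comap_mono hQ, ?_⟩
  have := hQo.over
  rw [Ideal.under, IsScalarTower.algebraMap_eq P A Aq, ← Ideal.comap_comap] at this
  exact this.symm

/-- In a flat morphism, the dimension of the fibre is constant on generizations of a maximal point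
of a fibre. -/
theorem fibreDimAt_eq_of_flat [Flat f] [LocallyOfFinitePresentation f] {x x' : X} (hsp : x' ⤳ x)
    (hmax : ∀ z : X, f.base z = f.base x → x ∈ closure {z} → z = x) :
    FlatMor.fibreDimAt f x' = FlatMor.fibreDimAt f x := by
  refine le_antisymm (fibreDimAt_le_of_specializes f hsp) ?_
  obtain ⟨ζ, hζ, hζx', hζmax, he⟩ := UOpenLib.exists_max_fibreDimAt f x'
  rw [← he]
  have hζx : ζ ⤳ x := hζx'.trans hsp
  obtain ⟨d, hd⟩ := UOpenLib.exists_fibreDimAt_eq_nat f x
  obtain ⟨_, ⟨V, hV, rfl⟩, hxV, -⟩ :=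
    S.isBasis_affineOpens.exists_subset_of_mem_open (Set.mem_univ (f.base x)) isOpen_univ
  have hV : IsAffineOpen V := hV
  obtain ⟨U, hU, hxU, eUV, φ, hφ, hft, hqf⟩ := exists_qf_affine_nhd f x hV hxV d hd
  have hq := UOpenLib.comap_eq_of_le_fibreClosureDim f hV hU eUV φ hφ hqf hxU
    (by rw [← UOpenLib.fibreDimAt_eq_of_max f hmax, hd])
  have hcx := UOpenLib.comap_primeIdealOf f hV hU eUV φ hφ x hxU
  have hζU : ζ ∈ U := hζx.mem_open U.isOpen hxU
  obtain ⟨Q, hQ, hQc⟩ := exists_flat_comap φ (hU.primeIdealOf ⟨x, hxU⟩)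
    (hφ ▸ f.finitePresentation_appLE hV hU eUV) (hφ ▸ f.flat_appLE hV hU eUV)
    (hq.trans (congrArg (fun p : PrimeSpectrum _ ↦ p.asIdeal.map C) hcx).symm)
    ((UOpenLib.primeIdealOf_le_iff hU hζU hxU).mpr hζx)
  obtain ⟨w, hwU, rfl⟩ := UOpenLib.exists_point_of_prime hU Q
  have hwζ : w ⤳ ζ := (UOpenLib.primeIdealOf_le_iff hU hwU hζU).mp hQ
  have hcζ := UOpenLib.comap_primeIdealOf f hV hU eUV φ hφ ζ hζU
  have hcw := UOpenLib.comap_primeIdealOf f hV hU eUV φ hφ w hwU
  have hQc' : (hU.primeIdealOf ⟨w, hwU⟩).asIdeal.comap φ =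
      (hV.primeIdealOf ⟨f.base ζ, eUV hζU⟩).asIdeal.map C := by
    rw [hQc, ← hcζ]; rfl
  have hw : f.base w = f.base ζ := by
    have h1 : hV.primeIdealOf ⟨f.base w, eUV hwU⟩ = hV.primeIdealOf ⟨f.base ζ, eUV hζU⟩ := by
      rw [← hcw]
      apply PrimeSpectrum.ext
      show ((hU.primeIdealOf ⟨w, hwU⟩).asIdeal.comap φ).comap C = _
      rw [hQc']
      refine le_antisymm (fun a ha ↦ ?_) Ideal.le_comap_map
      have := MvPolynomial.mem_map_C_iff.mp ha 0
      rwa [MvPolynomial.coeff_zero_C] at this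
    have := congrArg hV.fromSpec.base h1
    rwa [hV.fromSpec_primeIdealOf, hV.fromSpec_primeIdealOf] at this
  obtain rfl : w = ζ := hζmax w hw (specializes_iff_mem_closure.mp hwζ)
  rw [hd]
  exact UOpenLib.le_fibreClosureDim_of_comap_eq f hV hU eUV φ hφ hft hwU hQc'

/-- For a dominant morphism of irreducible schemes the generic fibre is no bigger than any fibre. -/
theorem generic_fiber_dim_le [IrreducibleSpace X] [IrreducibleSpace S] [IsDominant f]
    [LocallyOfFiniteType f] (x : X) :
    topologicalKrullDim (f.fiber (genericPoint S)) ≤ FlatMor.fibreDimAt f x := by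
  have hη : f.base (genericPoint X) = genericPoint S :=
    ((genericPoint_spec X).image f.continuous).eq (by
      rw [Set.image_univ, f.denseRange.closure_eq]; exact genericPoint_spec S)
  refine le_trans (le_of_eq ?_) (UOpenLib.fibreClosureDim_le_fibreDimAt f
    (specializes_iff_mem_closure.mpr (by rw [(genericPoint_spec X).def]; trivial)) :
      UOpenLib.fibreClosureDim f (genericPoint X) ≤ _)
  rw [UOpenLib.fibreClosureDim_eq_inter, (genericPoint_spec X).def, Set.univ_inter, hη]
  exact IsHomeomorph.topologicalKrullDim_eq _ (f.fiberHomeo (genericPoint S)).isHomeomorph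

end FibDimLib
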