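import Groth.Agent.FibDimLib.Apps
import Groth.Agent.DimIneqLib.Dim

/-!
# Consequences of the dimension inequality for the dimension of fibres
-/

set_option autoImplicit false

universe u

open CategoryTheory CategoryTheory.Limits AlgebraicGeometry TopologicalSpace Topology

namespace FibDimLib

/-- A closed subset of a fibre is quasi-sober. -/
theorem quasiSober_closure_inter {X S : Scheme.{u}} (f : X ⟶ S) (Z : Set X) (y : S) :
    QuasiSober ↥(closure Z ∩ f.base ⁻¹' {y}) := by
  haveI : QuasiSober ↥(f.base ⁻¹' {y}) := (f.fiberHomeo y).symm.isClosedEmbedding.quasiSober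
  have hc : IsClosedEmbedding (Set.inclusion (Set.inter_subset_right : closure Z ∩ f.base ⁻¹' {y} ⊆ _)) := by
    refine ⟨IsEmbedding.inclusion _, ?_⟩
    rw [Set.range_inclusion]
    have : {z : ↥(f.base ⁻¹' {y}) | (z : X) ∈ closure Z ∩ f.base ⁻¹' {y}} = Subtype.val ⁻¹' closure Z := by
      ext z; exact ⟨fun h => h.1, fun h => ⟨h, z.2⟩⟩
    rw [this]
    exact isClosed_closure.preimage continuous_subtype_val
  exact hc.quasiSober

/-- The transcendence degree drops strictly along specializations in a fibre. -/
theorem fibreClosureDim_lt {X S : Scheme.{u}} (f : X ⟶ S) [LocallyOfFiniteType f] {x x' : X}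
    (hsp : x ⤳ x') (hne : x ≠ x') (hfx : f.base x = f.base x') :
    UOpenLib.fibreClosureDim f x' < UOpenLib.fibreClosureDim f x := by
  obtain ⟨n, hn⟩ := UOpenLib.exists_fibreClosureDim_eq_nat f x'
  let A := ↥(closure ({x} : Set X) ∩ f.base ⁻¹' {f.base x})
  let B := ↥(closure ({x'} : Set X) ∩ f.base ⁻¹' {f.base x'})
  have hqA : QuasiSober A := quasiSober_closure_inter f _ _
  have hqB : QuasiSober B := quasiSober_closure_inter f _ _
  rw [hn, UOpenLib.fibreClosureDim_eq_inter]
  rw [UOpenLib.fibreClosureDim_eq_inter] at hn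
  obtain ⟨c, hinj, hc⟩ := @exists_specChain B _ _ hqB n hn.ge
  have hle : ((n + 1 : ℕ) : WithBot ℕ∞) ≤ topologicalKrullDim A := by
    let a0 : A := ⟨x, subset_closure rfl, rfl⟩
    let cA : Fin (n + 1) → A := fun i => ⟨(c i).1,
      (hsp.trans (specializes_iff_mem_closure.mpr (c i).2.1)).mem_closure, (c i).2.2.trans hfx.symm⟩
    refine IsSpecChain.le_topologicalKrullDim (c := Fin.cons a0 cA) ⟨fun i j he => ?_, fun i j hij => ?_⟩
    · induction i using Fin.cases with
      | zero =>
        induction j using Fin.cases with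
        | zero => rfl
        | succ j =>
          have e1 : x = (c j).1 := congrArg Subtype.val he
          exact absurd ((hsp.antisymm (e1 ▸ (specializes_iff_mem_closure.mpr (c j).2.1))).eq) hne
      | succ i =>
        induction j using Fin.cases with
        | zero =>
          have e1 : (c i).1 = x := congrArg Subtype.val he
          exact absurd ((hsp.antisymm (e1 ▸ (specializes_iff_mem_closure.mpr (c i).2.1))).eq) hne
        | succ j =>
          have e1 : (c i).1 = (c j).1 := congrArg (fun a : A => a.1) he
          exact congrArg Fin.succ (hinj (Subtype.ext e1))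
    · refine IsInducing.subtypeVal.specializes_iff.mp ?_
      induction i using Fin.cases with
      | zero =>
        induction j using Fin.cases with
        | zero => exact specializes_rfl
        | succ j => exact hsp.trans (specializes_iff_mem_closure.mpr (c j).2.1)
      | succ i =>
        induction j using Fin.cases with
        | zero => exact absurd hij (by simp)
        | succ j => exact (hc i j (Fin.succ_le_succ_iff.mp hij)).map continuous_subtype_val
  exact lt_of_lt_of_le (by exact_mod_cast Nat.lt_succ_self n) hle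

variable {X Y : Scheme.{u}} (f : X ⟶ Y) [LocallyOfFiniteType f]

/-- Either the maximal point of the fibre is maximal, or a generization outside the fibre bounds its
dimension. -/
theorem exists_max_generization_bound (x : X) [IsNoetherianRing (Y.presheaf.stalk (f.base x))] :
    ∃ ξ : X, (∀ z, z ⤳ ξ → z = ξ) ∧ ξ ⤳ x ∧
      ((f.base ξ = f.base x ∧ FlatMor.fibreDimAt f x = FlatMor.fibreDimAt f ξ) ∨
        FlatMor.fibreDimAt f x + 1 ≤ FlatMor.fibreDimAt f ξ + ringKrullDim (Y.presheaf.stalk (f.base x))) := by
  obtain ⟨x₀, hx₀, hx₀x, hmax, he⟩ := UOpenLib.exists_max_fibreDimAt f x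
  let g := Y.fromSpecStalk (f.base x)
  haveI : IsLocallyNoetherian (Spec (Y.presheaf.stalk (f.base x))) := inferInstance
  let f' := pullback.snd f g
  let a := pullback.fst f g
  haveI : LocallyOfFiniteType f' := MorphismProperty.pullback_snd _ _ ‹LocallyOfFiniteType f›
  haveI : IsPreimmersion a := MorphismProperty.pullback_fst _ _ inferInstance
  have hr : Set.range a.base = f.base ⁻¹' {z | z ⤳ f.base x} := by
    show Set.range (pullback.fst f g).base = _
    rw [Scheme.Pullback.range_fst, Scheme.range_fromSpecStalk]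
  obtain ⟨w, hw⟩ : x₀ ∈ Set.range a.base := by
    rw [hr]
    show f.base x₀ ⤳ f.base x
    rw [hx₀]
  obtain ⟨ξ', hξ', hξw, hineq⟩ := DimIneqLib.stalk_le f' w
  have hlift : ∀ z : X, z ⤳ a.base ξ' → ∃ z', a.base z' = z := fun z hz => by
    show z ∈ Set.range a.base
    rw [hr]
    exact (hz.map f.continuous).trans ((Set.ext_iff.mp hr (a.base ξ')).mp ⟨ξ', rfl⟩)
  have hξmax : ∀ z : X, z ⤳ a.base ξ' → z = a.base ξ' := fun z hz => by
    obtain ⟨z', rfl⟩ := hlift z hz
    rw [hξ' z' (a.isEmbedding.isInducing.specializes_iff.mp hz)]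
  have hξx₀ : a.base ξ' ⤳ x₀ := hw ▸ hξw.map a.continuous
  refine ⟨a.base ξ', hξmax, hξx₀.trans hx₀x, ?_⟩
  by_cases heq : f.base (a.base ξ') = f.base x
  · left
    refine ⟨heq, ?_⟩
    have h1 := hmax (a.base ξ') (heq.trans hx₀.symm) hξx₀.mem_closure
    rw [h1, UOpenLib.fibreDimAt_eq_of_max f hmax, he]
  · right
    have hne : ξ' ≠ w := fun e => heq (by rw [e, hw, hx₀])
    have hstalk : (1 : WithBot ℕ∞) ≤ ringKrullDim ((pullback f g).presheaf.stalk w) := by
      rw [← PrimeSpectrum.topologicalKrullDim_eq_ringKrullDim]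
      obtain ⟨p, hp⟩ : ξ' ∈ Set.range ((pullback f g).fromSpecStalk w).base := by
        rw [Scheme.range_fromSpecStalk]; exact hξw
      let m : ↥(Spec ((pullback f g).presheaf.stalk w)) := IsLocalRing.closedPoint _
      have hm : ((pullback f g).fromSpecStalk w).base m = w := Scheme.fromSpecStalk_closedPoint
      refine IsSpecChain.le_topologicalKrullDim (n := 1)
        (c := ![(p : PrimeSpectrum ((pullback f g).presheaf.stalk w)), m]) ⟨?_, ?_⟩
      · intro i j hij
        have hpm : p ≠ m := fun e => hne (by rw [← hp, e, hm])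
        fin_cases i <;> fin_cases j
        · rfl
        · exact absurd hij hpm
        · exact absurd hij.symm hpm
        · rfl
      · intro i j hij
        fin_cases i <;> fin_cases j
        · exact specializes_rfl
        · exact IsLocalRing.specializes_closedPoint _
        · exact absurd hij (by simp)
        · exact specializes_rfl
    have hmaxw : ∀ z, f'.base z = f'.base w → w ∈ closure {z} → z = w := fun z hz hzw => by
      refine a.isEmbedding.injective ((hmax (a.base z) ?_ ?_).trans hw.symm) |>.trans rfl
      · rw [← hw, ← Scheme.Hom.comp_apply, ← Scheme.Hom.comp_apply, pullback.condition, Scheme.Hom.comp_apply,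
          Scheme.Hom.comp_apply, hz]
      · rw [← hw]
        exact ((specializes_iff_mem_closure.mpr hzw).map a.continuous).mem_closure
    have hbc : ∀ z, FlatMor.fibreDimAt f' z = FlatMor.fibreDimAt f (a.base z) :=
      fibreDimAt_baseChange (IsPullback.of_hasPullback f g)
    have e1 : (DimIneqLib.trH (f'.residueFieldMap w).hom : WithBot ℕ∞) = FlatMor.fibreDimAt f x := by
      rw [← DimIneqLib.fibreClosureDim_eq_trH, ← UOpenLib.fibreDimAt_eq_of_max f' hmaxw, hbc, hw,
        UOpenLib.fibreDimAt_eq_of_max f hmax, he]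
    have e2 : (DimIneqLib.trH (f'.residueFieldMap ξ').hom : WithBot ℕ∞) = FlatMor.fibreDimAt f (a.base ξ') := by
      rw [← DimIneqLib.fibreClosureDim_eq_trH,
        ← UOpenLib.fibreDimAt_eq_of_max f' (fun z _ hz => hξ' z (specializes_iff_mem_closure.mpr hz)), hbc]
    rw [e1, e2] at hineq
    have hb : ringKrullDim ((Spec (Y.presheaf.stalk (f.base x))).presheaf.stalk (f'.base w)) ≤
        ringKrullDim (Y.presheaf.stalk (f.base x)) :=
      (DimIneqLib.stalk_dim_le_dim _).trans_eq (PrimeSpectrum.topologicalKrullDim_eq_ringKrullDim _)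
    rw [add_comm (FlatMor.fibreDimAt f x) 1, add_comm (FlatMor.fibreDimAt f (a.base ξ'))]
    exact (add_le_add hstalk le_rfl).trans (hineq.trans (add_le_add hb le_rfl))

end FibDimLib

namespace FibDimLib

theorem le_of_nat_add_le {a b : WithBot ℕ∞} {n : ℕ} (h : (n : WithBot ℕ∞) + a ≤ n + b) : a ≤ b := by
  induction a using WithBot.recBotCoe with
  | bot => exact bot_le
  | coe a =>
    induction b using WithBot.recBotCoe with
    | bot => simp at h
    | coe b =>
      have h2 : (n : ℕ∞) + a ≤ n + b := by exact_mod_cast h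
      exact_mod_cast (ENat.add_le_add_iff_left (ENat.coe_ne_top n)).mp h2

end FibDimLib
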