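import Groth.Agent.FibDimLib.SchemeInv

/-!
# Dimensions of components, quasi-finite open maps
-/

set_option autoImplicit false

universe u

open CategoryTheory CategoryTheory.Limits AlgebraicGeometry TopologicalSpace Topology

namespace FibDimLib

variable {k : Type u} [Field k]

/-- A component is cut out by a point with that local dimension. -/
theorem exists_generic_of_component {F : Scheme.{u}} (q : F ⟶ Spec (CommRingCat.of k)) [LocallyOfFiniteType q]
    {Z : Set F} (hZ : Z ∈ irreducibleComponents F) :
    ∃ z : F, Z = closure {z} ∧ FlatMor.localDim F z = topologicalKrullDim Z := by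
  have hg := hZ.1.isGenericPoint_genericPoint_closure
  rw [(isClosed_of_mem_irreducibleComponents Z hZ).closure_eq] at hg
  exact ⟨hZ.1.genericPoint, hg.def.symm,
    (localDim_eq_of_generic q (g := hZ.1.genericPoint) (hg.def.symm ▸ hZ)).trans (by rw [hg.def])⟩

/-- An irreducible scheme has the same local dimension everywhere. -/
theorem localDim_of_irreducible {F : Scheme.{u}} [IrreducibleSpace F] (q : F ⟶ Spec (CommRingCat.of k))
    [LocallyOfFiniteType q] (x : F) : FlatMor.localDim F x = topologicalKrullDim F := by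
  obtain ⟨g, hg, -, hd⟩ := exists_generic_localDim q x
  rw [irreducibleComponents_eq_singleton, Set.mem_singleton_iff] at hg
  rw [hd, hg]
  exact IsHomeomorph.topologicalKrullDim_eq _ (Homeomorph.Set.univ F).isHomeomorph

theorem topologicalKrullDim_component_bc {K : Type u} [Field K] [Algebra k K] {X : Scheme.{u}}
    (f : X ⟶ Spec (CommRingCat.of k)) [LocallyOfFiniteType f] {Z : Set X} (hZc : IsClosed Z) (hZi : IsIrreducible Z)
    (W : Set ↥((pullback.fst f (Spec.map (CommRingCat.ofHom (algebraMap k K)))).base ⁻¹' Z))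
    (hW : W ∈ irreducibleComponents ↥((pullback.fst f (Spec.map (CommRingCat.ofHom (algebraMap k K)))).base ⁻¹' Z)) :
    topologicalKrullDim ↥W = topologicalKrullDim ↥Z := by
  obtain ⟨Z₀, i, hi, hZ₀, hr⟩ := DevissLib.exists_integral_closed hZc hZi
  haveI := hi
  haveI := hZ₀
  let p := pullback.fst f (Spec.map (CommRingCat.ofHom (algebraMap k K)))
  let j := pullback.fst p i
  have sq := ((IsPullback.of_hasPullback p i).flip.paste_vert
    (IsPullback.of_hasPullback f (Spec.map (CommRingCat.ofHom (algebraMap k K)))))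
  let q : pullback p i ⟶ Spec (CommRingCat.of K) :=
    j ≫ pullback.snd f (Spec.map (CommRingCat.ofHom (algebraMap k K)))
  haveI : LocallyOfFiniteType q := inferInstance
  have hjr : Set.range j.base = p.base ⁻¹' Z := by
    rw [Scheme.Pullback.range_fst, hr]
  let e : ↥(pullback p i) ≃ₜ ↥(p.base ⁻¹' Z) :=
    j.isEmbedding.toHomeomorph.trans (Homeomorph.setCongr hjr)
  have hW' : e ⁻¹' W ∈ irreducibleComponents ↥(pullback p i) :=
    preimage_mem_irreducibleComponents hW e.isOpenEmbedding
      (by rw [e.surjective.range_eq, Set.inter_univ]; exact hW.1.nonempty)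
  obtain ⟨w, hw, hd⟩ := exists_generic_of_component q hW'
  calc topologicalKrullDim ↥W = topologicalKrullDim ↥(e ⁻¹' W) :=
        (IsHomeomorph.topologicalKrullDim_eq _ (e.subtype (p := fun a => a ∈ e ⁻¹' W) (q := fun a => a ∈ W)
          (fun a => Iff.rfl)).isHomeomorph).symm
    _ = FlatMor.localDim ↥(pullback p i) w := hd.symm
    _ = FlatMor.localDim Z₀ ((pullback.snd p i).base w) := localDim_of_isPullback_field (i ≫ f) sq w
    _ = topologicalKrullDim Z₀ := localDim_of_irreducible (i ≫ f) _
    _ = topologicalKrullDim ↥Z := IsHomeomorph.topologicalKrullDim_eq _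
        (i.isEmbedding.toHomeomorph.trans (Homeomorph.setCongr hr)).isHomeomorph

theorem topologicalKrullDim_component_pullback {X Y : Scheme.{u}}
    (f : X ⟶ Spec (CommRingCat.of k)) (g : Y ⟶ Spec (CommRingCat.of k)) [IrreducibleSpace X] [IrreducibleSpace Y]
    [LocallyOfFiniteType f] [LocallyOfFiniteType g] (Z : Set ↥(pullback f g))
    (hZ : Z ∈ irreducibleComponents ↥(pullback f g)) :
    topologicalKrullDim ↥Z = topologicalKrullDim ↥X + topologicalKrullDim ↥Y := by
  obtain ⟨z, -, hd⟩ := exists_generic_of_component (pullback.fst f g ≫ f) hZ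
  rw [← hd, localDim_pullback f g z, localDim_of_irreducible f, localDim_of_irreducible g]

theorem hasRelDim_baseChange {X S X' S' : Scheme.{u}} {f : X ⟶ S} [LocallyOfFiniteType f] {g : S' ⟶ S}
    {g' : X' ⟶ X} {f' : X' ⟶ S'} (hc : IsPullback g' f' f g) {d : ℕ} (h : Cyc.HasRelDim f d) :
    Cyc.HasRelDim f' d := by
  haveI : LocallyOfFiniteType f' := MorphismProperty.of_isPullback hc ‹LocallyOfFiniteType f›
  intro y T hT
  haveI : LocallyOfFiniteType (f'.fiberToSpecResidueField y) := UOpenLib.lft_fiberToSpec f' y
  obtain ⟨w, -, hd⟩ := @exists_generic_of_component (S'.residueField y) _ _ (f'.fiberToSpecResidueField y) (UOpenLib.lft_fiberToSpec f' y) _ hT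
  rw [← hd, ← fibreDimAt_fiberι, fibreDimAt_baseChange hc, FlatMor.fibreDimAt]
  haveI : LocallyOfFiniteType (f.fiberToSpecResidueField (f.base (g'.base ((f'.fiberι y).base w)))) :=
    UOpenLib.lft_fiberToSpec f _
  obtain ⟨g₀, hg₀, -, hd₀⟩ := @exists_generic_localDim _ _ _ _
    (UOpenLib.lft_fiberToSpec f _) (f.asFiber (g'.base ((f'.fiberι y).base w)))
  rw [hd₀]
  exact h _ _ hg₀

section Topological

variable {A B : Type u} [TopologicalSpace A] [TopologicalSpace B] [T0Space A] [QuasiSober A] [T0Space B] [QuasiSober B]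

/-- A generalizing open map with incomparable points in the fibres preserves local dimensions. -/
theorem localDim_eq_of_isOpenMap {f : A → B} (hf : Continuous f) (ho : IsOpenMap f) (hg : GeneralizingMap f)
    (hinc : ∀ a b : A, a ⤳ b → f a = f b → a = b) (a : A) :
    FlatMor.localDim A a = FlatMor.localDim B (f a) := by
  have key : ∀ U : Opens A, topologicalKrullDim (U : Set A) = topologicalKrullDim (f '' (U : Set A)) := by
    intro U
    have hV : IsOpen (f '' (U : Set A)) := ho _ U.isOpen
    haveI := U.isOpen.isOpenEmbedding_subtypeVal.quasiSober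
    haveI := hV.isOpenEmbedding_subtypeVal.quasiSober
    refine le_antisymm (le_of_forall_nat_le fun n hn => ?_) (le_of_forall_nat_le fun n hn => ?_)
    · obtain ⟨c, hc, hcs⟩ := exists_specChain hn
      refine IsSpecChain.le_topologicalKrullDim
        (c := fun i => (⟨f (c i).1, (c i).1, (c i).2, rfl⟩ : f '' (U : Set A))) ⟨fun i j he => ?_, fun i j hij =>
          IsInducing.subtypeVal.specializes_iff.mp (((hcs i j hij).map continuous_subtype_val).map hf)⟩
      rcases le_total i j with h | h
      · exact hc (Subtype.ext (hinc _ _ ((hcs i j h).map continuous_subtype_val) (congrArg Subtype.val he)))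
      · exact hc (Subtype.ext (hinc _ _ ((hcs j i h).map continuous_subtype_val) (congrArg Subtype.val he).symm).symm)
    · obtain ⟨c, hc, hcs⟩ := exists_specChain hn
      suffices h : ∀ m, m ≤ n → ∃ d : ℕ → A, ∀ i, n - m ≤ i → i ≤ n →
          (d i ∈ U ∧ ∀ hi : i < n + 1, f (d i) = (c ⟨i, hi⟩).1) ∧ ∀ j, i ≤ j → j ≤ n → d i ⤳ d j by
        obtain ⟨d, hd⟩ := h n le_rfl
        refine IsSpecChain.le_topologicalKrullDim
          (c := fun i : Fin (n + 1) => (⟨d i, (hd i (by omega) (by omega)).1.1⟩ : (U : Set A)))
          ⟨fun i j he => ?_, fun i j hij => IsInducing.subtypeVal.specializes_iff.mp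
            ((hd i (by omega) (by omega)).2 j hij (by omega))⟩
        refine hc (Subtype.ext ?_)
        rw [← (hd i (by omega) (by omega)).1.2 i.2, ← (hd j (by omega) (by omega)).1.2 j.2]
        exact congrArg (fun z : (U : Set A) => f z.1) he
      intro m
      induction m with
      | zero =>
        intro _
        obtain ⟨z, hz, hzc⟩ := (c ⟨n, by omega⟩).2
        refine ⟨fun _ => z, fun i hi hin => ⟨⟨hz, fun hi' => ?_⟩, fun _ _ _ => specializes_rfl⟩⟩
        obtain rfl : i = n := by omega
        exact hzc
      | succ m ih =>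
        intro hm
        obtain ⟨d, hd⟩ := ih (by omega)
        obtain ⟨⟨hdU, hdc⟩, -⟩ := hd (n - m) le_rfl (by omega)
        have hs : (c ⟨n - (m + 1), by omega⟩).1 ⤳ f (d (n - m)) := by
          rw [hdc (by omega)]
          exact (hcs _ _ (show n - (m + 1) ≤ n - m by omega)).map continuous_subtype_val
        obtain ⟨z, hz, hzc⟩ := hg hs
        refine ⟨Function.update d (n - (m + 1)) z, fun i hi hin => ?_⟩
        by_cases hi' : i = n - (m + 1)
        · subst hi'
          rw [Function.update_self]
          refine ⟨⟨hz.mem_open U.isOpen hdU, fun _ => hzc⟩, fun j hj hjn => ?_⟩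
          by_cases hj' : j = n - (m + 1)
          · rw [hj', Function.update_self]
          · rw [Function.update_of_ne hj']
            exact hz.trans ((hd (n - m) le_rfl (by omega)).2 j (by omega) hjn)
        · rw [Function.update_of_ne hi']
          refine ⟨(hd i (by omega) hin).1, fun j hj hjn => ?_⟩
          rw [Function.update_of_ne (by omega)]
          exact (hd i (by omega) hin).2 j hj hjn
  refine le_antisymm (le_iInf fun ⟨W, hW⟩ => ?_) (le_iInf fun ⟨U, hU⟩ => ?_)
  · refine (localDim_le_of_open (U := ⟨f ⁻¹' (W : Set B), W.isOpen.preimage hf⟩) hW).trans ?_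
    rw [key]
    exact (IsEmbedding.inclusion (Set.image_preimage_subset f (W : Set B))).isInducing.topologicalKrullDim_le
  · refine (localDim_le_of_open (U := ⟨f '' (U : Set A), ho _ U.isOpen⟩) ⟨a, hU, rfl⟩).trans ?_
    exact (key U).ge

end Topological

end FibDimLib
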