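import Groth.Agent.FibDimLib.Apps

/-!
# Fibre dimensions of smooth morphisms and of flat composites
-/

set_option autoImplicit false

universe u

open CategoryTheory CategoryTheory.Limits AlgebraicGeometry TopologicalSpace Topology

namespace FibDimLib

/-- Fibre dimensions add along flat morphisms. -/
theorem fibreDimAt_comp_of_flat {X Y S : Scheme.{u}} (f : X ⟶ Y) (g : Y ⟶ S) [Flat f] [LocallyOfFiniteType f]
    [LocallyOfFiniteType g] (x : X) :
    FlatMor.fibreDimAt (f ≫ g) x = FlatMor.fibreDimAt f x + FlatMor.fibreDimAt g (f.base x) := by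
  let s := g.base (f.base x)
  let q := pullback.snd g (S.fromSpecResidueField s)
  haveI : LocallyOfFiniteType q := MorphismProperty.pullback_snd _ _ ‹LocallyOfFiniteType g›
  let e := pullbackRightPullbackFstIso g (S.fromSpecResidueField s) f
  let p := pullback.snd f (pullback.fst g (S.fromSpecResidueField s))
  haveI : LocallyOfFiniteType p := MorphismProperty.pullback_snd _ _ ‹LocallyOfFiniteType f›
  haveI : Flat p := MorphismProperty.pullback_snd _ _ ‹Flat f›
  let z := e.inv.base ((f ≫ g).asFiber x)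
  have hz : (pullback.fst f (pullback.fst g (S.fromSpecResidueField s))).base z = x := by
    show (e.inv ≫ pullback.fst _ _).base ((f ≫ g).asFiber x) = x
    rw [pullbackRightPullbackFstIso_inv_fst]
    exact (f ≫ g).fiberι_asFiber x
  have h := localDim_eq_add_fibreDimAt (k := S.residueField s) q p z
  rw [fibreDimAt_baseChange (IsPullback.of_hasPullback f (pullback.fst g (S.fromSpecResidueField s))) z, hz] at h
  rw [add_comm]
  refine Eq.trans ?_ (h.trans (congrArg (· + FlatMor.fibreDimAt f x) ?_))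
  · exact (localDim_eq_of_isOpenEmbedding e.inv.isOpenEmbedding ((f ≫ g).asFiber x)).symm
  · rw [show FlatMor.localDim _ (p.base z) = FlatMor.fibreDimAt g ((g.fiberι s).base (p.base z)) from
      (fibreDimAt_fiberι g s (p.base z)).symm]
    congr 1
    show (p ≫ pullback.fst g (S.fromSpecResidueField s)).base z = f.base x
    rw [← pullback.condition, Scheme.Hom.comp_apply, hz]

/-- The fibre dimension of a map of affine schemes. -/
theorem fibreDimAt_specMap (R A : Type u) [CommRing R] [CommRing A] [Algebra R A] (x : PrimeSpectrum A) :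
    ∃ Q : PrimeSpectrum ((PrimeSpectrum.comap (algebraMap R A) x).asIdeal.Fiber A),
      Q.asIdeal.comap (Algebra.TensorProduct.includeRight.toRingHom) = x.asIdeal ∧
      FlatMor.localDim (PrimeSpectrum ((PrimeSpectrum.comap (algebraMap R A) x).asIdeal.Fiber A)) Q =
        FlatMor.fibreDimAt (Spec.map (CommRingCat.ofHom (algebraMap R A))) x := by
  let f := Spec.map (CommRingCat.ofHom (algebraMap R A))
  let pp : PrimeSpectrum R := PrimeSpectrum.comap (algebraMap R A) x
  let Z := PrimeSpectrum.comap (algebraMap R A) ⁻¹' {pp}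
  let H := PrimeSpectrum.preimageHomeomorphFiber R A pp
  refine ⟨H ⟨x, rfl⟩, congrArg (fun w ↦ (Subtype.val w : PrimeSpectrum A).asIdeal)
    (H.symm_apply_apply ⟨x, rfl⟩), ?_⟩
  let e2 : ↥Z ≃ₜ ↥(f.base ⁻¹' {f.base x}) := Homeomorph.setCongr rfl
  have h3 := ((f.fiberHomeo (f.base x)).symm.isOpenEmbedding.comp e2.isOpenEmbedding).comp H.symm.isOpenEmbedding
  rw [← localDim_eq_of_isOpenEmbedding h3, FlatMor.fibreDimAt]
  congr 1
  show (f.fiberHomeo (f.base x)).symm _ = f.asFiber x
  rw [Scheme.Hom.asFiber]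
  congr 1
  apply Subtype.ext
  simp only [Function.comp_apply, Homeomorph.symm_apply_apply]
  rfl

theorem fibreDimAt_affineSpace (R : CommRingCat.{u}) (n : ℕ) (x : ↥(Spec (CommRingCat.of (MvPolynomial (Fin n) R)))) :
    FlatMor.fibreDimAt (Spec.map (CommRingCat.ofHom (S := MvPolynomial (Fin n) R) MvPolynomial.C)) x = n := by
  obtain ⟨Q, -, hQ⟩ := fibreDimAt_specMap R (MvPolynomial (Fin n) R) x
  refine Eq.trans ?_ (Eq.trans hQ.symm ?_)
  · rfl
  let p := (PrimeSpectrum.comap (algebraMap R (MvPolynomial (Fin n) R)) x).asIdeal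
  let e := (MvPolynomial.algebraTensorAlgEquiv (σ := Fin n) R p.ResidueField).toRingEquiv
  let E := PrimeSpectrum.homeomorphOfRingEquiv e
  let P := MvPolynomial (Fin n) p.ResidueField
  let q : Spec (CommRingCat.of P) ⟶ Spec (CommRingCat.of p.ResidueField) :=
    Spec.map (CommRingCat.ofHom (algebraMap p.ResidueField P))
  haveI : LocallyOfFiniteType q := by
    rw [HasRingHomProperty.Spec_iff (P := @LocallyOfFiniteType)]
    exact RingHom.finiteType_algebraMap.mpr inferInstance
  haveI : IrreducibleSpace ↥(Spec (CommRingCat.of P)) := PrimeSpectrum.irreducibleSpace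
  refine (localDim_eq_of_isOpenEmbedding E.isOpenEmbedding Q).symm.trans ?_
  refine (localDim_of_irreducible q _).trans ?_
  refine (PrimeSpectrum.topologicalKrullDim_eq_ringKrullDim P).trans ?_
  rw [MvPolynomial.ringKrullDim_of_isNoetherianRing, ringKrullDim_eq_zero_of_field]
  simp

theorem fibreDimAt_chart {X Y : Scheme.{u}} (f : X ⟶ Y) {U : Y.Opens} (hU : IsAffineOpen U) {V : X.Opens}
    (hV : IsAffineOpen V) (e : V ≤ f ⁻¹ᵁ U) {n : ℕ}
    (g : MvPolynomial (Fin n) Γ(Y, U) →+* Γ(X, V)) (hg : g.comp MvPolynomial.C = (f.appLE U V e).hom)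
    (het : g.Etale) (x : X) (hx : x ∈ V) : FlatMor.fibreDimAt f x = n := by
  let a : Spec Γ(X, V) ⟶ Spec (CommRingCat.of (MvPolynomial (Fin n) Γ(Y, U))) := Spec.map (CommRingCat.ofHom g)
  haveI : Etale a := (HasRingHomProperty.Spec_iff (P := @Etale)).mpr het
  let p := Spec.map (CommRingCat.ofHom (R := Γ(Y, U)) (S := MvPolynomial (Fin n) Γ(Y, U)) MvPolynomial.C)
  have hfac : hV.fromSpec ≫ f = (a ≫ p) ≫ hU.fromSpec := by
    rw [← IsAffineOpen.SpecMap_appLE_fromSpec f hU hV e]
    congr 1
    simp only [a, p, ← Spec.map_comp, ← CommRingCat.ofHom_comp, hg]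
    rfl
  obtain ⟨w, rfl⟩ : x ∈ Set.range hV.fromSpec.base := by rw [hV.range_fromSpec]; exact hx
  rw [← fibreDimAt_comp_isOpenImmersion, hfac, fibreDimAt_comp_of_discrete, fibreDimAt_comp_etale]
  exact fibreDimAt_affineSpace _ n _

theorem fibreDimAt_smoothOfRelativeDimension (n : ℕ) {X Y : Scheme.{u}} (f : X ⟶ Y)
    [SmoothOfRelativeDimension n f] (x : X) : FlatMor.fibreDimAt f x = n := by
  obtain ⟨U, hU, V, hV, hx, e, h⟩ := SmoothOfRelativeDimension.exists_isStandardSmoothOfRelativeDimension (n := n) (f := f) x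
  obtain ⟨g, hg, het⟩ := h.exists_etale_mvPolynomial
  exact fibreDimAt_chart f hU hV e g hg het x hx

end FibDimLib
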