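import Groth.Agent.FibDimLib.ClosureDim
import Groth.Agent.SweepSix.Constr

/-!
# Dimension of the source through the jumping loci of fibres
-/

set_option autoImplicit false

universe u

open CategoryTheory CategoryTheory.Limits AlgebraicGeometry TopologicalSpace Topology

namespace FibDimLib

theorem exists_generic_closure_dim {A : Type u} [TopologicalSpace A] [T0Space A] [QuasiSober A] [NoetherianSpace A]
    [Nonempty A] : ∃ z : A, closure {z} ∈ irreducibleComponents A ∧
      topologicalKrullDim A = topologicalKrullDim (closure ({z} : Set A)) := by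
  let G : Set A := {z | closure {z} ∈ irreducibleComponents A}
  have hG : G.Finite := by
    refine (NoetherianSpace.finite_irreducibleComponents (α := A)).preimage (f := fun z => closure ({z} : Set A)) ?_
    intro a _ b _ hab
    have hab : closure ({a} : Set A) = closure {b} := hab
    have h1 : b ⤳ a := specializes_iff_mem_closure.mpr (by rw [← hab]; exact subset_closure rfl)
    have h2 : a ⤳ b := specializes_iff_mem_closure.mpr (by rw [hab]; exact subset_closure rfl)
    exact (h2.antisymm h1).eq
  have hne : G.Nonempty := by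
    obtain ⟨a⟩ := ‹Nonempty A›
    have hg := (isIrreducible_irreducibleComponent (x := a)).isGenericPoint_genericPoint_closure
    rw [closure_eq_iff_isClosed.mpr isClosed_irreducibleComponent] at hg
    exact ⟨(isIrreducible_irreducibleComponent (x := a)).genericPoint,
      show closure _ ∈ irreducibleComponents A from hg.def.symm ▸ irreducibleComponent_mem_irreducibleComponents _⟩
  obtain ⟨z, hz, hmax⟩ := hG.exists_maximalFor (fun z => topologicalKrullDim (closure ({z} : Set A))) G hne
  refine ⟨z, hz, le_antisymm (topologicalKrullDim_le_of_generic fun w hw => ?_) (topologicalKrullDim_subspace_le _ _)⟩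
  rcases le_total (topologicalKrullDim (closure ({w} : Set A))) (topologicalKrullDim (closure ({z} : Set A))) with h | h
  · exact h
  · exact hmax hw h

theorem exists_fibreDimAt_ge {X S : Scheme.{u}} (f : X ⟶ S) [LocallyOfFiniteType f] (s : S) {r : ℕ}
    (h : (r : WithBot ℕ∞) ≤ topologicalKrullDim (f.fiber s)) :
    ∃ x : X, f.base x = s ∧ (r : WithBot ℕ∞) ≤ UOpenLib.fibreClosureDim f x := by
  obtain ⟨x, hx, hr⟩ : ∃ x : X, f.base x = s ∧ (r : WithBot ℕ∞) ≤ FlatMor.fibreDimAt f x := by
    by_contra hne
    push Not at hne
    cases r with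
    | zero =>
      have hle : topologicalKrullDim (f.fiber s) ≤ ⊥ :=
        (topologicalKrullDim_fiber_le_iff f s ⊥).mpr fun x hx =>
          absurd (hne x hx) (not_lt.mpr (localDim_nonneg _))
      simp [le_bot_iff.mp hle] at h
    | succ r =>
      have hle : topologicalKrullDim (f.fiber s) ≤ (r : WithBot ℕ∞) :=
        (topologicalKrullDim_fiber_le_iff f s _).mpr fun x hx => by
          obtain ⟨m, hm⟩ := UOpenLib.exists_fibreDimAt_eq_nat f x
          have h' := hne x hx
          rw [hm] at h' ⊢
          exact_mod_cast Nat.lt_succ_iff.mp (by exact_mod_cast h')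
      exact absurd (h.trans hle) (by exact_mod_cast Nat.not_succ_le_self r)
  obtain ⟨x₀, hx₀, -, -, he⟩ := UOpenLib.exists_max_fibreDimAt f x
  exact ⟨x₀, hx₀.trans hx, hr.trans_eq he.symm⟩

theorem topologicalKrullDim_closure_le {A : Type u} [TopologicalSpace A] {a : A} {T : Set A} (hT : IsClosed T)
    (ha : a ∈ T) : topologicalKrullDim (closure ({a} : Set A)) ≤ topologicalKrullDim T :=
  (IsEmbedding.inclusion (closure_minimal (Set.singleton_subset_iff.mpr ha) hT)).isInducing.topologicalKrullDim_le

theorem mem_of_generic_closure_constructible {A : Type u} [TopologicalSpace A] [NoetherianSpace A] [T0Space A] [QuasiSober A]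
    {E : Set A} (hE : IsConstructible E) {z : closure E}
    (hz : closure {z} ∈ irreducibleComponents (closure E)) : (z : A) ∈ E := by
  obtain ⟨P, hPf, hPl, hEP⟩ := SweepSix.exists_isLocallyClosed_pieces hE
  let B : Set (closure E) := ⋃ W ∈ {W ∈ irreducibleComponents (closure E) | W ≠ closure {z}}, W
  have hB : IsClosed B :=
    ((NoetherianSpace.finite_irreducibleComponents (α := closure E)).subset fun _ h => h.1).isClosed_biUnion
      fun W hW => isClosed_of_mem_irreducibleComponents W hW.1
  have hzB : z ∉ B := by
    simp only [B, Set.mem_iUnion, not_exists]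
    intro W hW hzW
    exact hW.2 (le_antisymm (hz.2 hW.1.1 (closure_minimal (Set.singleton_subset_iff.mpr hzW)
      (isClosed_of_mem_irreducibleComponents W hW.1))) (closure_minimal (Set.singleton_subset_iff.mpr hzW)
      (isClosed_of_mem_irreducibleComponents W hW.1)))
  obtain ⟨O, hO, hOB⟩ := isOpen_induced_iff.mp hB.isOpen_compl
  have hzO : (z : A) ∈ O := show z ∈ Subtype.val ⁻¹' O from hOB ▸ hzB
  let Z : Set A := closure {(z : A)}
  have hsub : ∀ w ∈ E ∩ O, w ∈ Z := by
    rintro w ⟨hwE, hwO⟩
    have hwB : (⟨w, subset_closure hwE⟩ : closure E) ∉ B := by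
      have : (⟨w, subset_closure hwE⟩ : closure E) ∈ Subtype.val ⁻¹' O := hwO
      rwa [hOB] at this
    have hwz : (⟨w, subset_closure hwE⟩ : closure E) ∈ closure ({z} : Set (closure E)) := by
      by_contra hw
      refine hwB (Set.mem_biUnion (t := fun W => W) ⟨irreducibleComponent_mem_irreducibleComponents _, fun e => hw ?_⟩
        mem_irreducibleComponent)
      exact e ▸ mem_irreducibleComponent
    exact ((specializes_iff_mem_closure.mpr hwz).map continuous_subtype_val).mem_closure
  have hdense : Z ⊆ closure (⋃₀ P ∩ Z) := by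
    refine closure_minimal (Set.singleton_subset_iff.mpr (mem_closure_iff.mpr fun O' hO' hzO' => ?_)) isClosed_closure
    obtain ⟨w, hw, hwE⟩ := mem_closure_iff.mp z.2 _ (hO'.inter hO) ⟨hzO', hzO⟩
    exact ⟨w, hw.1, hEP ▸ hwE, hsub w ⟨hwE, hw.2⟩⟩
  obtain ⟨U, hU, hUP, ⟨w, hwU, hwZ⟩, -⟩ := SweepSix.exists_open_of_dense isIrreducible_singleton.closure hPf hPl hdense
  exact hEP.ge (hUP ⟨(specializes_iff_mem_closure.mpr hwZ).mem_open hU hwU, subset_closure rfl⟩)

theorem topologicalKrullDim_le_iff_jumps (k : Type u) [Field k] {C X : Scheme.{u}}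
    (q : X ⟶ Spec (CommRingCat.of k)) (π : C ⟶ X)
    [LocallyOfFiniteType q] [CompactSpace X] [LocallyOfFiniteType π] [CompactSpace C] (n : ℕ) :
    topologicalKrullDim C ≤ n ↔
      ∀ j : ℕ, topologicalKrullDim (closure {x : X | (j : WithBot ℕ∞) ≤ topologicalKrullDim (π.fiber x)}) +
        (j : WithBot ℕ∞) ≤ n := by
  haveI : IsLocallyNoetherian X := LocallyOfFiniteType.isLocallyNoetherian q
  haveI : IsNoetherian X := {}
  haveI : IsLocallyNoetherian C := LocallyOfFiniteType.isLocallyNoetherian π
  haveI : IsNoetherian C := {}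
  haveI : LocallyOfFinitePresentation π := UOpenLib.locallyOfFinitePresentation_of_isLocallyNoetherian π
  haveI : QuasiCompact π := inferInstance
  constructor
  · intro h j
    let E : Set X := {x : X | (j : WithBot ℕ∞) ≤ topologicalKrullDim (π.fiber x)}
    have hE : IsConstructible E := (isLocallyConstructible_fiber_dim_mem π (Set.Ici (j : WithBot ℕ∞))).isConstructible
    rcases isEmpty_or_nonempty (closure E) with hemp | hne
    · have : topologicalKrullDim (closure E) = ⊥ := le_bot_iff.mp (topologicalKrullDim_le_of_generic fun z _ => isEmptyElim z)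
      show topologicalKrullDim (closure E) + _ ≤ _
      simp [this]
    · haveI : QuasiSober (closure E) := isClosed_closure.isClosedEmbedding_subtypeVal.quasiSober
      obtain ⟨z, hz, hd⟩ := exists_generic_closure_dim (A := closure E)
      obtain ⟨c, hc, hj⟩ := exists_fibreDimAt_ge π (z : X) (mem_of_generic_closure_constructible hE hz)
      show topologicalKrullDim (closure E) + _ ≤ _
      refine le_trans ?_ ((topologicalKrullDim_subspace_le C (closure {c})).trans h)
      rw [topologicalKrullDim_closure_eq_add q π c, hc, hd]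
      refine add_le_add ?_ hj
      let r : closure ({z} : Set (closure E)) → closure ({(z : X)} : Set X) := fun w =>
        ⟨w.1.1, ((specializes_iff_mem_closure.mpr w.2).map continuous_subtype_val).mem_closure⟩
      have hr : IsInducing r := IsInducing.of_comp (g := Subtype.val) (by fun_prop) continuous_subtype_val
        (IsInducing.subtypeVal.comp IsInducing.subtypeVal : IsInducing fun w : closure ({z} : Set (closure E)) => (w.1.1 : X))
      exact hr.topologicalKrullDim_le
  · intro h
    refine topologicalKrullDim_le_of_points fun c => ?_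
    obtain ⟨j, hj⟩ := UOpenLib.exists_fibreClosureDim_eq_nat π c
    rw [topologicalKrullDim_closure_eq_add q π c, hj]
    refine le_trans (add_le_add (topologicalKrullDim_closure_le isClosed_closure (subset_closure ?_)) le_rfl) (h j)
    show (j : WithBot ℕ∞) ≤ _
    exact hj ▸ fibreClosureDim_le_fiber π c

theorem add_le_topologicalKrullDim (k : Type u) [Field k] {X Y : Scheme.{u}}
    (q : Y ⟶ Spec (CommRingCat.of k)) [LocallyOfFiniteType q] [QuasiCompact q]
    (f : X ⟶ Y) [LocallyOfFiniteType f] (r : ℕ)
    (hfib : ∀ η : Y, (∀ y : Y, y ⤳ η → y = η) → (r : WithBot ℕ∞) ≤ topologicalKrullDim (f.base ⁻¹' {η})) :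
    (r : WithBot ℕ∞) + topologicalKrullDim Y ≤ topologicalKrullDim X := by
  haveI : IsLocallyNoetherian Y := LocallyOfFiniteType.isLocallyNoetherian q
  haveI : CompactSpace Y := QuasiCompact.compactSpace_of_compactSpace q
  haveI : IsNoetherian Y := {}
  rcases isEmpty_or_nonempty Y with hemp | hne
  · have : topologicalKrullDim Y = ⊥ := le_bot_iff.mp (topologicalKrullDim_le_of_generic fun z _ => isEmptyElim z)
    simp [this]
  obtain ⟨η, hη, hd⟩ := exists_generic_closure_dim (A := Y)
  obtain ⟨x, hx, hr⟩ := exists_fibreDimAt_ge f η (r := r)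
    ((hfib η fun y hy => eq_of_specializes_of_closure_mem hη hy).trans_eq
      (IsHomeomorph.topologicalKrullDim_eq _ (f.fiberHomeo η).isHomeomorph).symm)
  refine le_trans ?_ (topologicalKrullDim_subspace_le X (closure {x}))
  rw [topologicalKrullDim_closure_eq_add q f x, hx, hd, add_comm]
  exact add_le_add le_rfl hr

end FibDimLib
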