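import Groth.Agent.FibDimLib.Retro

/-!
# Dimensions of closures of points along morphisms of schemes of finite type over a field
-/

set_option autoImplicit false

universe u

open CategoryTheory CategoryTheory.Limits AlgebraicGeometry TopologicalSpace Topology

namespace FibDimLib

/-- The spectrum of the fibre ring as an open part of the fibre. -/
theorem exists_affine_fibre_embedding {X Y : Scheme.{u}} (f : X ⟶ Y) (x : X) {V : Y.Opens} (hV : IsAffineOpen V)
    {U : X.Opens} (hU : IsAffineOpen U) (hUV : U ≤ f ⁻¹ᵁ V) (hxU : x ∈ U) :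
    letI := (f.appLE V U hUV).hom.toAlgebra
    ∃ (e : PrimeSpectrum ((hV.primeIdealOf ⟨f x, hUV hxU⟩).asIdeal.Fiber Γ(X, U)) → f.fiber (f.base x))
      (Q : PrimeSpectrum ((hV.primeIdealOf ⟨f x, hUV hxU⟩).asIdeal.Fiber Γ(X, U))), IsOpenEmbedding e ∧
      Q.asIdeal.comap (Algebra.TensorProduct.includeRight.toRingHom) = (hU.primeIdealOf ⟨x, hxU⟩).asIdeal ∧
      e Q = f.asFiber x := by
  let R := Γ(Y, V)
  let S := Γ(X, U)
  let ρ := f.appLE V U hUV
  letI : Algebra R S := ρ.hom.toAlgebra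
  let qp : PrimeSpectrum S := hU.primeIdealOf ⟨x, hxU⟩
  let pp : PrimeSpectrum R := hV.primeIdealOf ⟨f x, hUV hxU⟩
  have hqp : PrimeSpectrum.comap (algebraMap R S) qp = pp :=
    IsAffineOpen.comap_primeIdealOf_appLE V hV U hU hUV hxU
  let Z := PrimeSpectrum.comap (algebraMap R S) ⁻¹' {pp}
  let H := PrimeSpectrum.preimageHomeomorphFiber R S pp
  have hsub : hU.fromSpec ⁻¹' (f ⁻¹' {f x}) = Z := by
    have hfac : hU.fromSpec ≫ f = Spec.map ρ ≫ hV.fromSpec :=
      (IsAffineOpen.SpecMap_appLE_fromSpec f hV hU hUV).symm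
    ext q
    show f (hU.fromSpec q) = f x ↔ PrimeSpectrum.comap (algebraMap R S) q = pp
    rw [← Scheme.Hom.comp_apply, hfac, Scheme.Hom.comp_apply]
    have e0 : hV.fromSpec pp = f x := hV.fromSpec_primeIdealOf ⟨f x, hUV hxU⟩
    exact ⟨fun h ↦ hV.fromSpec.isOpenEmbedding.injective (h.trans e0.symm),
      fun h ↦ (congrArg hV.fromSpec h).trans e0⟩
  have h1 : Topology.IsOpenEmbedding ((Set.restrictPreimage (f ⁻¹' {f x}) hU.fromSpec)) :=
    hU.fromSpec.isOpenEmbedding.restrictPreimage _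
  let e2 : Z ≃ₜ ↥(hU.fromSpec ⁻¹' (f ⁻¹' {f x})) := Homeomorph.setCongr hsub.symm
  have h3 := (((f.fiberHomeo (f x)).symm.isOpenEmbedding.comp h1).comp e2.isOpenEmbedding).comp
    H.symm.isOpenEmbedding
  refine ⟨_, H ⟨qp, hqp⟩, h3, congrArg (fun w ↦ (Subtype.val w : PrimeSpectrum S).asIdeal)
    (H.symm_apply_apply ⟨qp, hqp⟩), ?_⟩
  show (f.fiberHomeo (f x)).symm _ = f.asFiber x
  rw [Scheme.Hom.asFiber]
  congr 1
  apply Subtype.ext
  simp only [Function.comp_apply, Homeomorph.symm_apply_apply]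
  exact hU.fromSpec_primeIdealOf ⟨x, hxU⟩

/-- Dimensions of closures along open embeddings into schemes of finite type over a field. -/
theorem topologicalKrullDim_closure_of_isOpenEmbedding {k : Type u} [Field k] {F : Scheme.{u}}
    (q : F ⟶ Spec (CommRingCat.of k)) [LocallyOfFiniteType q] {A : Type u} [TopologicalSpace A] {e : A → F}
    (he : IsOpenEmbedding e) (a : A) :
    topologicalKrullDim (closure ({a} : Set A)) = topologicalKrullDim (closure ({e a} : Set F)) := by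
  let W : F.Opens := ⟨Set.range e, he.isOpen_range⟩
  haveI : LocallyOfFiniteType (Over.mk q).hom := ‹LocallyOfFiniteType q›
  rw [← topologicalKrullDim_closure_open (Over.mk q) W ⟨e a, a, rfl⟩]
  let E : A ≃ₜ (W : Set F) := he.isEmbedding.toHomeomorph
  have : E '' closure {a} = closure ({⟨e a, a, rfl⟩} : Set W) := by
    rw [E.image_closure, Set.image_singleton]
    rfl
  exact IsHomeomorph.topologicalKrullDim_eq _
    ((E.image (closure {a})).trans (Homeomorph.setCongr this)).isHomeomorph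

theorem topologicalKrullDim_closure_eq_affine {k : Type u} [Field k] {X : Scheme.{u}}
    (q : X ⟶ Spec (CommRingCat.of k)) [LocallyOfFiniteType q] {U : X.Opens} (hU : IsAffineOpen U) {x : X}
    (hx : x ∈ U) :
    topologicalKrullDim (closure ({x} : Set X)) = ringKrullDim (Γ(X, U) ⧸ (hU.primeIdealOf ⟨x, hx⟩).asIdeal) := by
  rw [← topologicalKrullDim_closure_prime]
  have h := topologicalKrullDim_closure_of_isOpenEmbedding q hU.fromSpec.isOpenEmbedding
    (hU.primeIdealOf ⟨x, hx⟩)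
  rw [hU.fromSpec_primeIdealOf] at h
  exact h.symm

/-- The dimension of the closure of a point is that of its image plus that in the fibre. -/
theorem topologicalKrullDim_closure_eq_add {k : Type u} [Field k] {X Y : Scheme.{u}}
    (q : Y ⟶ Spec (CommRingCat.of k)) [LocallyOfFiniteType q] (f : X ⟶ Y) [LocallyOfFiniteType f] (x : X) :
    topologicalKrullDim (closure ({x} : Set X)) =
      topologicalKrullDim (closure ({f.base x} : Set Y)) + UOpenLib.fibreClosureDim f x := by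
  obtain ⟨V, hV, hxV⟩ : ∃ V : Y.Opens, IsAffineOpen V ∧ f.base x ∈ V := by
    obtain ⟨_, ⟨V, hV, rfl⟩, hxV, -⟩ :=
      Y.isBasis_affineOpens.exists_subset_of_mem_open (Set.mem_univ (f.base x)) isOpen_univ
    exact ⟨V, hV, hxV⟩
  obtain ⟨U, hU, hxU, hUV⟩ : ∃ U : X.Opens, IsAffineOpen U ∧ x ∈ U ∧ U ≤ f ⁻¹ᵁ V := by
    obtain ⟨_, ⟨U, hU, rfl⟩, hxU, hUV⟩ :=
      X.isBasis_affineOpens.exists_subset_of_mem_open (show x ∈ f ⁻¹ᵁ V from hxV) (f ⁻¹ᵁ V).isOpen
    exact ⟨U, hU, hxU, hUV⟩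
  obtain ⟨φ, hφ⟩ : ∃ φ : CommRingCat.of k ⟶ Γ(Y, V), Spec.map φ = hV.fromSpec ≫ q := Spec.map_surjective _
  letI := φ.hom.toAlgebra
  haveI : Algebra.FiniteType k Γ(Y, V) := RingHom.finiteType_algebraMap.mp
    ((HasRingHomProperty.Spec_iff (P := @LocallyOfFiniteType)).mp
      (hφ ▸ (inferInstance : LocallyOfFiniteType (hV.fromSpec ≫ q))))
  letI := (f.appLE V U hUV).hom.toAlgebra
  letI : Algebra k Γ(X, U) := ((f.appLE V U hUV).hom.comp φ.hom).toAlgebra
  haveI : IsScalarTower k Γ(Y, V) Γ(X, U) := IsScalarTower.of_algebraMap_eq' rfl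
  haveI : Algebra.FiniteType Γ(Y, V) Γ(X, U) := f.finiteType_appLE hV hU hUV
  haveI : Algebra.FiniteType k Γ(X, U) := Algebra.FiniteType.trans ‹Algebra.FiniteType k Γ(Y, V)› ‹_›
  obtain ⟨e, Q, he, hQ, heQ⟩ := exists_affine_fibre_embedding f x hV hU hUV hxU
  have h := ringKrullDim_quotient_fiber_add k (A := Γ(Y, V)) (B := Γ(X, U))
    (hV.primeIdealOf ⟨f x, hUV hxU⟩).asIdeal Q.asIdeal
  have hQ' : Q.asIdeal.comap (Algebra.TensorProduct.includeRight :
      Γ(X, U) →ₐ[Γ(Y, V)] (hV.primeIdealOf ⟨f x, hUV hxU⟩).asIdeal.Fiber Γ(X, U)).toRingHom =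
      (hU.primeIdealOf ⟨x, hxU⟩).asIdeal := hQ
  haveI := UOpenLib.lft_fiberToSpec f (f.base x)
  rw [topologicalKrullDim_closure_eq_affine (f ≫ q) hU hxU, topologicalKrullDim_closure_eq_affine q hV hxV,
    UOpenLib.fibreClosureDim, ← heQ,
    ← @topologicalKrullDim_closure_of_isOpenEmbedding (Y.residueField (f.base x)) _ _
      (f.fiberToSpecResidueField (f.base x)) (UOpenLib.lft_fiberToSpec f (f.base x)) _ _ e he Q,
    topologicalKrullDim_closure_prime]
  exact (ringKrullDim_eq_of_ringEquiv (Ideal.quotEquivOfEq hQ'.symm)).trans h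

/-- The dimension of a scheme of finite type over a field via closures of points. -/
theorem topologicalKrullDim_le_of_points {X : Scheme.{u}} {c : WithBot ℕ∞}
    (h : ∀ x : X, topologicalKrullDim (closure ({x} : Set X)) ≤ c) : topologicalKrullDim X ≤ c :=
  topologicalKrullDim_le_of_generic fun z _ => h z

/-- Generizations have smaller stalks. -/
theorem ringKrullDim_stalk_lt {X : Scheme.{u}} [IsLocallyNoetherian X] {x x' : X} (h : x ⤳ x') (hne : x ≠ x') :
    ringKrullDim (X.presheaf.stalk x) < ringKrullDim (X.presheaf.stalk x') := by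
  obtain ⟨U, hU, hx'U⟩ : ∃ U : X.Opens, IsAffineOpen U ∧ x' ∈ U := by
    obtain ⟨_, ⟨U, hU, rfl⟩, hxU, -⟩ :=
      X.isBasis_affineOpens.exists_subset_of_mem_open (Set.mem_univ x') isOpen_univ
    exact ⟨U, hU, hxU⟩
  have hxU : x ∈ U := h.mem_open U.isOpen hx'U
  haveI : IsNoetherianRing Γ(X, U) := IsLocallyNoetherian.component_noetherian ⟨U, hU⟩
  letI := X.presheaf.algebra_section_stalk ⟨x, hxU⟩
  haveI := hU.isLocalization_stalk ⟨x, hxU⟩
  rw [IsLocalization.AtPrime.ringKrullDim_eq_height (hU.primeIdealOf ⟨x, hxU⟩).asIdeal (X.presheaf.stalk x)]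
  letI := X.presheaf.algebra_section_stalk ⟨x', hx'U⟩
  haveI := hU.isLocalization_stalk ⟨x', hx'U⟩
  rw [IsLocalization.AtPrime.ringKrullDim_eq_height (hU.primeIdealOf ⟨x', hx'U⟩).asIdeal (X.presheaf.stalk x')]
  have hlt : hU.primeIdealOf ⟨x, hxU⟩ < hU.primeIdealOf ⟨x', hx'U⟩ :=
    lt_of_le_of_ne ((UOpenLib.primeIdealOf_le_iff hU hxU hx'U).mpr h) fun e => hne (by
      have := congrArg hU.fromSpec.base e
      rwa [hU.fromSpec_primeIdealOf, hU.fromSpec_primeIdealOf] at this)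
  haveI := (hU.primeIdealOf ⟨x, hxU⟩).2
  exact_mod_cast Ideal.height_strict_mono_of_isPrime (show (hU.primeIdealOf ⟨x, hxU⟩).asIdeal < (hU.primeIdealOf ⟨x', hx'U⟩).asIdeal from hlt)

end FibDimLib
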