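import Groth.Agent.FibDimLib.Pure
import Groth.Agent.CommAlgDim.Integral

/-! The dimension of a scheme of finite type over a field is unchanged by extensions of the field. -/

set_option autoImplicit false

universe u

open CategoryTheory CategoryTheory.Limits AlgebraicGeometry TopologicalSpace Topology TensorProduct

namespace FibDimLib

section Cover

attribute [local instance] specializationOrder

theorem topologicalKrullDim_le_iSup {A : Type*} [TopologicalSpace A] [T0Space A] [QuasiSober A] {ι : Sort*}
    (U : ι → Opens A) (hU : ∀ x, ∃ i, x ∈ U i) : topologicalKrullDim A ≤ ⨆ i, topologicalKrullDim (U i) := by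
  rw [topologicalKrullDim_eq_krullDim']
  refine iSup_le fun l => ?_
  obtain ⟨i, hi⟩ := hU (l 0)
  refine le_iSup_of_le i ?_
  haveI : QuasiSober (U i) := (U i).2.isOpenEmbedding_subtypeVal.quasiSober
  rw [topologicalKrullDim_eq_krullDim']
  have hmem : ∀ j, l j ∈ U i := fun j =>
    Specializes.mem_open (show l j ⤳ l 0 from l.monotone (Fin.zero_le j)) (U i).2 hi
  refine le_iSup_of_le (@LTSeries.mk _ (specializationOrder (U i)).toPreorder l.length (fun j => (⟨l j, hmem j⟩ : U i)) fun a b hab =>
    @lt_of_le_of_ne (U i) (specializationOrder (U i)) _ _ (((U i).2.isOpenEmbedding_subtypeVal.isInducing.specializes_iff).mp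
      (show l b ⤳ l a from (l.strictMono hab).le))
      (fun e => (l.strictMono hab).ne (congrArg Subtype.val e))) le_rfl

end Cover

variable (k K : Type u) [Field k] [Field K] [Algebra k K]

theorem ringKrullDim_baseChange (A : Type u) [CommRing A] [Algebra k A] [Algebra.FiniteType k A] :
    ringKrullDim (A ⊗[k] K) = ringKrullDim A := by
  rw [ringKrullDim_eq_of_ringEquiv (Algebra.TensorProduct.comm k A K).toRingEquiv]
  cases subsingleton_or_nontrivial A
  · rw [ringKrullDim_eq_bot_of_subsingleton, ringKrullDim_eq_bot_of_subsingleton]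
  obtain ⟨s, g, hg, hgf⟩ := exists_finite_inj_algHom_of_fg k A
  let P := MvPolynomial (Fin s) k
  let h := Algebra.TensorProduct.map (AlgHom.id K K) g
  have hh : Function.Injective h := by
    show Function.Injective (g.toLinearMap.lTensor K)
    exact Module.Flat.lTensor_preserves_injective_linearMap _ hg
  let e := (MvPolynomial.algebraTensorAlgEquiv (σ := Fin s) k K)
  let φ : MvPolynomial (Fin s) K →+* K ⊗[k] A := h.toRingHom.comp e.symm.toRingEquiv.toRingHom
  have hφ : φ.IsIntegral := by
    have h1 : h.toRingHom.IsIntegral := by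
      letI : Algebra P A := g.toRingHom.toAlgebra
      haveI : Module.Finite P A := hgf
      letI : Algebra (K ⊗[k] P) (K ⊗[k] A) := h.toRingHom.toAlgebra
      intro z
      show IsIntegral (K ⊗[k] P) z
      induction z with
      | zero => exact isIntegral_zero
      | add x y hx hy => exact hx.add hy
      | tmul l a =>
        have hl : IsIntegral (K ⊗[k] P) ((l ⊗ₜ 1 : K ⊗[k] A)) := by
          have : (l ⊗ₜ 1 : K ⊗[k] A) = algebraMap (K ⊗[k] P) (K ⊗[k] A) (l ⊗ₜ 1) := by
            show _ = h (l ⊗ₜ 1); simp [h]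
          rw [this]; exact isIntegral_algebraMap
        have ha : IsIntegral (K ⊗[k] P) (((1 : K) ⊗ₜ a : K ⊗[k] A)) := by
          obtain ⟨p, hp, hpa⟩ := Algebra.IsIntegral.isIntegral (R := P) a
          refine ⟨p.map (Algebra.TensorProduct.includeRight : P →ₐ[k] K ⊗[k] P).toRingHom, hp.map _, ?_⟩
          rw [Polynomial.eval₂_map, show (algebraMap (K ⊗[k] P) (K ⊗[k] A)).comp
              (Algebra.TensorProduct.includeRight : P →ₐ[k] K ⊗[k] P).toRingHom =
            (Algebra.TensorProduct.includeRight : A →ₐ[k] K ⊗[k] A).toRingHom.comp (algebraMap P A) by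
              refine RingHom.ext fun x => ?_
              show h ((1 : K) ⊗ₜ x) = (1 : K) ⊗ₜ g x
              simp [h],
            show ((1 : K) ⊗ₜ a : K ⊗[k] A) =
              (Algebra.TensorProduct.includeRight : A →ₐ[k] K ⊗[k] A).toRingHom a from rfl,
            ← Polynomial.hom_eval₂, hpa, map_zero]
        have := hl.mul ha
        rw [Algebra.TensorProduct.tmul_mul_tmul, mul_one, one_mul] at this
        exact this
    exact RingHom.IsIntegral.trans _ _ (RingHom.IsIntegral.of_finite (RingHom.Finite.of_surjective _ e.symm.surjective)) h1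
  letI := φ.toAlgebra
  haveI : Algebra.IsIntegral (MvPolynomial (Fin s) K) (K ⊗[k] A) := ⟨hφ⟩
  rw [CommAlgDim.ringKrullDim_eq_of_integral (MvPolynomial (Fin s) K) (K ⊗[k] A) (hh.comp e.symm.injective)]
  letI := g.toRingHom.toAlgebra
  haveI : Module.Finite P A := hgf
  rw [CommAlgDim.ringKrullDim_eq_of_integral P A hg, MvPolynomial.ringKrullDim_of_isNoetherianRing,
    MvPolynomial.ringKrullDim_of_isNoetherianRing, ringKrullDim_eq_zero_of_field, ringKrullDim_eq_zero_of_field]

theorem topologicalKrullDim_piece {X : Scheme.{u}} (f : X ⟶ Spec (CommRingCat.of k)) [LocallyOfFiniteType f]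
    {Y : Scheme.{u}} [IsAffine Y] (c : Y ⟶ X) [IsOpenImmersion c] :
    topologicalKrullDim ↑(pullback (pullback.fst f (Spec.map (CommRingCat.ofHom (algebraMap k K)))) c) =
      topologicalKrullDim ↑Y := by
  rw [show topologicalKrullDim ↑Y = topologicalKrullDim ↑(Spec Γ(Y, ⊤)) from
    IsHomeomorph.topologicalKrullDim_eq _ (Scheme.homeoOfIso Y.isoSpec).isHomeomorph]
  let A := Γ(Y, ⊤)
  let e₀ : pullback (pullback.fst f (Spec.map (CommRingCat.ofHom (algebraMap k K)))) c ≅
      pullback (pullback.fst f (Spec.map (CommRingCat.ofHom (algebraMap k K)))) (Y.isoSpec.inv ≫ c) :=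
    asIso (pullback.map _ _ _ _ (𝟙 _) Y.isoSpec.hom (𝟙 _) (by simp) (by simp))
  refine (IsHomeomorph.topologicalKrullDim_eq _ (Scheme.homeoOfIso e₀).isHomeomorph).trans ?_
  haveI : IsOpenImmersion (Y.isoSpec.inv ≫ c) := inferInstance
  generalize Y.isoSpec.inv ≫ c = c at this ⊢
  obtain ⟨φ, hφ⟩ : ∃ φ : CommRingCat.of k ⟶ A, Spec.map φ = c ≫ f := Spec.map_surjective _
  letI := φ.hom.toAlgebra
  haveI : Algebra.FiniteType k A := RingHom.finiteType_algebraMap.mp
    ((HasRingHomProperty.Spec_iff (P := @LocallyOfFiniteType)).mp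
      (hφ ▸ (inferInstance : LocallyOfFiniteType (c ≫ f))))
  have sq := (IsPullback.of_hasPullback (pullback.fst f (Spec.map (CommRingCat.ofHom (algebraMap k K)))) c).flip.paste_vert
    (IsPullback.of_hasPullback f (Spec.map (CommRingCat.ofHom (algebraMap k K))))
  rw [← hφ] at sq
  let e : pullback (pullback.fst f (Spec.map (CommRingCat.ofHom (algebraMap k K)))) c ≅
      Spec (CommRingCat.of (A ⊗[k] K)) := sq.isoPullback ≪≫ pullbackSpecIso k A K
  refine (IsHomeomorph.topologicalKrullDim_eq _ (Scheme.homeoOfIso e).isHomeomorph).trans ?_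
  refine (PrimeSpectrum.topologicalKrullDim_eq_ringKrullDim _).trans ?_
  exact (ringKrullDim_baseChange k K A).trans (PrimeSpectrum.topologicalKrullDim_eq_ringKrullDim _).symm

theorem topologicalKrullDim_pullback_field {X : Scheme.{u}} (f : X ⟶ Spec (CommRingCat.of k))
    [LocallyOfFiniteType f] :
    topologicalKrullDim ↑(pullback f (Spec.map (CommRingCat.ofHom (algebraMap k K)))) = topologicalKrullDim X := by
  let s := Spec.map (CommRingCat.ofHom (algebraMap k K))
  let p := pullback.fst f s
  let c := X.affineCover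
  let d : (pullback f s).OpenCover := c.pullback₁ p
  have hpiece : ∀ i, topologicalKrullDim ↥((d.f i).opensRange) = topologicalKrullDim ↥((c.f i).opensRange) := fun i =>
    ((IsHomeomorph.topologicalKrullDim_eq _ (d.f i).isOpenEmbedding.isEmbedding.toHomeomorph.isHomeomorph).symm.trans
      (@topologicalKrullDim_piece k K _ _ _ X f _ (c.X i) inferInstance (c.f i) (c.map_prop i))).trans
      (IsHomeomorph.topologicalKrullDim_eq _ (c.f i).isOpenEmbedding.isEmbedding.toHomeomorph.isHomeomorph)
  apply le_antisymm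
  · refine (topologicalKrullDim_le_iSup (fun i => (d.f i).opensRange) (fun x => ⟨_, d.covers x⟩)).trans
      (iSup_le fun i => ?_)
    rw [hpiece i]
    exact (c.f i).opensRange.2.isOpenEmbedding_subtypeVal.isInducing.topologicalKrullDim_le
  · refine (topologicalKrullDim_le_iSup (fun i => (c.f i).opensRange) (fun x => ⟨_, c.covers x⟩)).trans
      (iSup_le fun i => ?_)
    rw [← hpiece i]
    exact (d.f i).opensRange.2.isOpenEmbedding_subtypeVal.isInducing.topologicalKrullDim_le

theorem topologicalKrullDim_fiber_baseChange {X Y X' Y' : Scheme.{u}} {f : X ⟶ Y} [LocallyOfFiniteType f]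
    {g : Y' ⟶ Y} {f' : X' ⟶ Y'} {g' : X' ⟶ X} (hc : IsPullback g' f' f g) (y' : Y') :
    topologicalKrullDim ↑(f'.fiber y') = topologicalKrullDim ↑(f.fiber (g y')) := by
  have h := isPullback_fiberToSpecResidueField_of_isPullback hc y'
  let f₀ : f.fiber (g y') ⟶ Spec (CommRingCat.of (Y.residueField (g y'))) := f.fiberToSpecResidueField (g y')
  letI := (g.residueFieldMap y').hom.toAlgebra
  haveI : LocallyOfFiniteType f₀ := inferInstanceAs (LocallyOfFiniteType (pullback.snd _ _))
  exact (IsHomeomorph.topologicalKrullDim_eq _ (Scheme.homeoOfIso h.isoPullback).isHomeomorph).trans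
    (topologicalKrullDim_pullback_field (Y.residueField (g y')) (Y'.residueField y') f₀)

end FibDimLib
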