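import Groth.Agent.UOpenLib.Generization

/-!
# Generizations with large fibres for flat morphisms locally of finite type
-/

set_option autoImplicit false

universe u

open CategoryTheory Limits AlgebraicGeometry TopologicalSpace Topology MvPolynomial UOpenLib

namespace FibDimLib

variable {X Y : Scheme.{u}} (g : X ⟶ Y) [LocallyOfFiniteType g]

/-- For a flat morphism, a maximal point of a fibre has generizations with large fibres. -/
theorem exists_generization_of_flat [Flat g] {x : X}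
    (hmax : ∀ x' : X, g.base x' = g.base x → x ∈ closure {x'} → x' = x) {y₁ : Y} (hy₁ : y₁ ⤳ g.base x) :
    ∃ ζ : X, ζ ⤳ x ∧ g.base ζ = y₁ ∧ FlatMor.fibreDimAt g x ≤ fibreClosureDim g ζ := by
  obtain ⟨d, hd⟩ := exists_fibreDimAt_eq_nat g x
  obtain ⟨_, ⟨V, hV, rfl⟩, hxV, -⟩ :=
    Y.isBasis_affineOpens.exists_subset_of_mem_open (Set.mem_univ (g.base x)) isOpen_univ
  have hV : IsAffineOpen V := hV
  obtain ⟨U, hU, hxU, eUV, φ, hφ, hft, hqf⟩ := FibDimLib.exists_qf_affine_nhd g x hV hxV d hd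
  have hq := comap_eq_of_le_fibreClosureDim g hV hU eUV φ hφ hqf hxU
    (by rw [← fibreDimAt_eq_of_max g hmax, hd])
  have hy₁V : y₁ ∈ V := hy₁.mem_open V.isOpen hxV
  let R := Γ(Y, V)
  let p := hV.primeIdealOf ⟨g.base x, hxV⟩
  let p' := hV.primeIdealOf ⟨y₁, hy₁V⟩
  have hp'p : p'.asIdeal ≤ p.asIdeal := (primeIdealOf_le_iff hV hy₁V hxV).mpr hy₁
  -- a valuation ring of the residue field dominating the local ring
  let K := p'.asIdeal.ResidueField
  let L := Localization.AtPrime p.asIdeal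
  let lam : L →+* K := IsLocalization.lift (M := p.asIdeal.primeCompl) (g := algebraMap R K)
    fun s ↦ IsUnit.mk0 _ fun e ↦ s.2 (hp'p (Ideal.algebraMap_residueField_eq_zero.mp e))
  let I : Ideal lam.range := (IsLocalRing.maximalIdeal L).map lam.rangeRestrict
  have hker : RingHom.ker lam.rangeRestrict ≤ IsLocalRing.maximalIdeal L :=
    IsLocalRing.le_maximalIdeal (RingHom.ker_ne_top _)
  have hI : I.comap lam.rangeRestrict = IsLocalRing.maximalIdeal L := by
    rw [Ideal.comap_map_of_surjective _ lam.rangeRestrict_surjective, sup_eq_left,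
      ← RingHom.ker_eq_comap_bot]
    exact hker
  obtain ⟨Vv, hVv, hnon⟩ := Ideal.image_subset_nonunits_valuationSubring I fun e ↦ by
    rw [e, Ideal.comap_top] at hI
    exact (IsLocalRing.maximalIdeal.isMaximal L).ne_top hI.symm
  let ν : L →+* Vv := lam.codRestrict Vv.toSubring fun a ↦ hVv (Set.mem_range_self a)
  let ψ : R →+* Vv := ν.comp (algebraMap R L)
  have hψK : ∀ a : R, (ψ a : K) = algebraMap R K a := fun a ↦ IsLocalization.lift_eq _ a
  have hψker : RingHom.ker ψ = p'.asIdeal := by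
    ext a
    rw [RingHom.mem_ker, ← Ideal.algebraMap_residueField_eq_zero (I := p'.asIdeal), ← hψK]
    exact ZeroMemClass.coe_eq_zero.symm
  have hψmax : (IsLocalRing.maximalIdeal Vv).comap ψ = p.asIdeal := by
    show ((IsLocalRing.maximalIdeal Vv).comap ν).comap (algebraMap R L) = _
    have h1 : IsLocalRing.maximalIdeal L ≤ (IsLocalRing.maximalIdeal Vv).comap ν := fun a ha ↦ by
      have := hnon ⟨lam.rangeRestrict a, Ideal.mem_map_of_mem _ ha, rfl⟩
      exact (ValuationSubring.coe_mem_nonunits_iff (a := ν a)).mp this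
    rw [← (IsLocalRing.maximalIdeal.isMaximal L).eq_of_le (Ideal.comap_ne_top ν Ideal.IsPrime.ne_top') h1]
    exact IsLocalization.AtPrime.under_maximalIdeal L p.asIdeal
  -- the charts
  let uR : Spec Γ(X, U) ⟶ Spec (CommRingCat.of (MvPolynomial (Fin d) R)) :=
    Spec.map (CommRingCat.ofHom φ)
  let pr : Spec (CommRingCat.of (MvPolynomial (Fin d) R)) ⟶ Spec R :=
    Spec.map (CommRingCat.ofHom (C : R →+* MvPolynomial (Fin d) R))
  let gR := uR ≫ pr
  have hgR : gR ≫ hV.fromSpec = hU.fromSpec ≫ g := by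
    simp only [gR, uR, pr, ← Spec.map_comp, ← CommRingCat.ofHom_comp, hφ, CommRingCat.ofHom_hom]
    exact IsAffineOpen.SpecMap_appLE_fromSpec g hV hU eUV
  let xU : ↥(Spec Γ(X, U)) := hU.primeIdealOf ⟨x, hxU⟩
  have hxU' : hU.fromSpec.base xU = x := hU.fromSpec_primeIdealOf ⟨x, hxU⟩
  have : Flat gR := by
    refine MorphismProperty.of_postcomp (W := @Flat) (W' := @IsOpenImmersion) gR hV.fromSpec inferInstance ?_
    rw [hgR]
    infer_instance
  -- base change to the valuation ring
  let Ψ : MvPolynomial (Fin d) R →+* MvPolynomial (Fin d) Vv := MvPolynomial.map ψ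
  let prV : Spec (CommRingCat.of (MvPolynomial (Fin d) Vv)) ⟶ Spec (CommRingCat.of Vv) :=
    Spec.map (CommRingCat.ofHom (C : Vv →+* MvPolynomial (Fin d) Vv))
  have sqP : IsPullback (Spec.map (CommRingCat.ofHom (R := MvPolynomial (Fin d) R)
      (S := MvPolynomial (Fin d) Vv) Ψ)) prV pr (Spec.map (CommRingCat.ofHom (R := R) (S := Vv) ψ)) := by
    letI := ψ.toAlgebra
    let A₁ := MvPolynomial (Fin d) R
    let T₁ := MvPolynomial (Fin d) Vv
    letI := MvPolynomial.algebraMvPolynomial (σ := Fin d) (R := R) (S := Vv)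
    exact ((CommRingCat.isPushout_of_isPushout R A₁ Vv T₁).op.map Scheme.Spec).flip
  have squ := IsPullback.of_hasPullback uR (Spec.map (CommRingCat.ofHom (R := MvPolynomial (Fin d) R)
      (S := MvPolynomial (Fin d) Vv) Ψ))
  have sqf := squ.paste_vert sqP
  let mV := IsLocalRing.maximalIdeal Vv
  have hmT : (mV.map (C (σ := Fin d))).IsPrime := by
    have := MvPolynomial.ker_map (σ := Fin d) (Ideal.Quotient.mk mV)
    rw [Ideal.mk_ker] at this
    rw [← this]
    exact RingHom.ker_isPrime _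
  obtain ⟨x', hx'1, hx'2⟩ := image_fst_snd squ xU
    (⟨_, hmT⟩ : PrimeSpectrum (MvPolynomial (Fin d) Vv)) (by
      apply PrimeSpectrum.ext
      show (hU.primeIdealOf ⟨x, hxU⟩).asIdeal.comap φ = (mV.map C).comap Ψ
      rw [hq, show (hV.primeIdealOf ⟨g.base x, eUV hxU⟩).asIdeal = p.asIdeal from rfl, ← hψmax]
      ext P
      simp only [Ψ, Ideal.mem_comap, MvPolynomial.mem_map_C_iff, MvPolynomial.coeff_map]
      rfl)
  haveI : Flat (pullback.snd uR (Spec.map (CommRingCat.ofHom (R := MvPolynomial (Fin d) R)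
      (S := MvPolynomial (Fin d) Vv) Ψ)) ≫ prV) := MorphismProperty.of_isPullback sqf ‹Flat gR›
  obtain ⟨z, hzx, hz0⟩ := Flat.generalizingMap (pullback.snd uR (Spec.map (CommRingCat.ofHom
      (R := MvPolynomial (Fin d) R) (S := MvPolynomial (Fin d) Vv) Ψ)) ≫ prV)
    (a := x') (b := (⟨⊥, Ideal.isPrime_bot⟩ : PrimeSpectrum Vv))
    ((PrimeSpectrum.le_iff_specializes _ _).mp bot_le)
  -- the generization maps to the generic point
  let Q : PrimeSpectrum (MvPolynomial (Fin d) Vv) :=
    (pullback.snd uR (Spec.map (CommRingCat.ofHom Ψ))).base z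
  have hQ : Q.asIdeal.comap C = (⊥ : Ideal Vv) := by
    rw [Scheme.Hom.comp_apply] at hz0
    exact congrArg PrimeSpectrum.asIdeal hz0
  have hQm : Q.asIdeal ≤ mV.map C := by
    have := hzx.map (pullback.snd uR (Spec.map (CommRingCat.ofHom Ψ))).continuous
    rw [hx'2] at this
    exact (PrimeSpectrum.le_iff_specializes Q ⟨_, hmT⟩).mpr this
  have hQbot : Q.asIdeal = ⊥ := by
    rw [eq_bot_iff]
    intro P hP
    by_contra hP0
    obtain ⟨c, P₀, hc, hPc, m, hm⟩ := exists_C_mul_eq P hP0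
    rw [hPc] at hP
    rcases Q.isPrime.mem_or_mem hP with h' | h'
    · exact hc ((Ideal.mem_bot).mp (hQ ▸ (h' : c ∈ Q.asIdeal.comap C)))
    · have := MvPolynomial.mem_map_C_iff.mp (hQm h') m
      rw [hm] at this
      exact (IsLocalRing.maximalIdeal.isMaximal Vv).ne_top (Ideal.eq_top_of_isUnit_mem _ this isUnit_one)
  let qζ : PrimeSpectrum Γ(X, U) := (pullback.fst uR (Spec.map (CommRingCat.ofHom Ψ))).base z
  have hqζc : qζ.asIdeal.comap φ = p'.asIdeal.map C := by
    have h' : uR.base qζ = (Spec.map (CommRingCat.ofHom Ψ)).base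
        ((pullback.snd uR (Spec.map (CommRingCat.ofHom Ψ))).base z) := by
      rw [← Scheme.Hom.comp_apply, ← Scheme.Hom.comp_apply, pullback.condition]
    have h'' : qζ.asIdeal.comap φ = Q.asIdeal.comap Ψ := congrArg PrimeSpectrum.asIdeal h'
    rw [h'', hQbot, ← RingHom.ker_eq_comap_bot, MvPolynomial.ker_map, hψker]
  obtain ⟨ζ, hζU, hζq⟩ := exists_point_of_prime hU qζ
  have hgζ : g.base ζ = y₁ := by
    have h1 : PrimeSpectrum.comap (φ.comp C) qζ = p' := by
      apply PrimeSpectrum.ext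
      show (Ideal.comap φ qζ.asIdeal).comap C = _
      rw [hqζc]
      refine le_antisymm (fun a ha ↦ ?_) Ideal.le_comap_map
      have h' : (C a : MvPolynomial (Fin d) R) ∈ p'.asIdeal.map C := ha
      have := MvPolynomial.mem_map_C_iff.mp h' 0
      rwa [MvPolynomial.coeff_zero_C] at this
    rw [← hζq, comap_primeIdealOf g hV hU eUV φ hφ] at h1
    have := congrArg hV.fromSpec.base h1
    rwa [hV.fromSpec_primeIdealOf, hV.fromSpec_primeIdealOf] at this
  subst hgζ
  have hsp : qζ ≤ xU := by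
    have := hzx.map (pullback.fst uR (Spec.map (CommRingCat.ofHom Ψ))).continuous
    rw [hx'1] at this
    exact (PrimeSpectrum.le_iff_specializes _ _).mpr this
  refine ⟨ζ, (primeIdealOf_le_iff hU hζU hxU).mp (hζq.symm ▸ hsp), rfl, ?_⟩
  rw [hd]
  exact le_fibreClosureDim_of_comap_eq g hV hU eUV φ hφ hft hζU (hζq.symm ▸ hqζc)

end FibDimLib
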