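import Groth.Agent.FibDimLib.Comps
import Groth.Agent.FibDimLib.FlatGeneriz
import Groth.Agent.WeightLib.EtaleQF

/-!
# Applications of semicontinuity of fibre dimensions
-/

set_option autoImplicit false

universe u

open CategoryTheory CategoryTheory.Limits AlgebraicGeometry TopologicalSpace Topology

namespace FibDimLib

/-- Local dimensions along an étale morphism. -/
theorem localDim_eq_of_etale {U V : Scheme.{u}} (f : U ⟶ V) [Etale f] (u : U) :
    FlatMor.localDim U u = FlatMor.localDim V (f.base u) := by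
  haveI := WeightLib.locallyQuasiFinite_of_etale f
  refine localDim_eq_of_isOpenMap f.continuous f.isOpenMap (Flat.generalizingMap f) (fun a b hab he => ?_) u
  have hd := f.isDiscrete_preimage_singleton (f.base b)
  rw [isDiscrete_iff_discreteTopology] at hd
  have hs : (⟨a, he⟩ : f.base ⁻¹' {f.base b}) ⤳ ⟨b, rfl⟩ :=
    Topology.IsInducing.subtypeVal.specializes_iff.mp hab
  exact congrArg Subtype.val (specializes_iff_eq.mp hs)

theorem fibreDimAt_comp_isOpenImmersion {W X Y : Scheme.{u}} (ι : W ⟶ X) [IsOpenImmersion ι] (f : X ⟶ Y) (w : W) :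
    FlatMor.fibreDimAt (ι ≫ f) w = FlatMor.fibreDimAt f (ι.base w) := by
  let y := f.base (ι.base w)
  have h1 : IsOpenEmbedding ((f.base ⁻¹' {y}).restrictPreimage ι.base) :=
    ι.isOpenEmbedding.restrictPreimage _
  let e2 : ↥((ι ≫ f).base ⁻¹' {y}) ≃ₜ ↥(ι.base ⁻¹' (f.base ⁻¹' {y})) := Homeomorph.setCongr rfl
  have h3 := (((f.fiberHomeo y).symm.isOpenEmbedding.comp h1).comp e2.isOpenEmbedding).comp
    ((ι ≫ f).fiberHomeo y).isOpenEmbedding
  show FlatMor.localDim ((ι ≫ f).fiber y) ((ι ≫ f).asFiber w) = _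
  rw [← localDim_eq_of_isOpenEmbedding h3, FlatMor.fibreDimAt]
  congr 1
  show (f.fiberHomeo y).symm _ = f.asFiber (ι.base w)
  rw [Scheme.Hom.asFiber, Scheme.Hom.asFiber]
  congr 1
  apply Subtype.ext
  simp only [Function.comp_apply]
  erw [Homeomorph.apply_symm_apply]
  rfl

/-- A retrocompact dense open contains every point with no proper generization. -/
theorem mem_of_retrocompact_dense {S : Scheme.{u}} {U : S.Opens} (hU : Dense (U : Set S))
    (hc : IsRetrocompact (U : Set S)) {η : S} (hη : ∀ y, y ⤳ η → y = η) : η ∈ U := by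
  obtain ⟨_, ⟨V, hV, rfl⟩, hηV, -⟩ :=
    S.isBasis_affineOpens.exists_subset_of_mem_open (Set.mem_univ η) isOpen_univ
  have hV : IsAffineOpen V := hV
  by_contra hne
  have hcpt : IsCompact ((U : Set S) ∩ V) := hc hV.isCompact V.isOpen
  have hcov : (U : Set S) ∩ V ⊆ ⋃ g : {g : Γ(S, V) // (S.basicOpen g : Set S) ⊆ U}, (S.basicOpen g.1 : Set S) := by
    rintro z ⟨hzU, hzV⟩
    obtain ⟨g, hg, hzg⟩ := hV.exists_basicOpen_le (V := U) ⟨z, hzU⟩ hzV
    exact Set.mem_iUnion.mpr ⟨⟨g, hg⟩, hzg⟩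
  obtain ⟨t, ht⟩ := hcpt.elim_finite_subcover
    (fun g : {g : Γ(S, V) // (S.basicOpen g : Set S) ⊆ U} => (S.basicOpen g.1 : Set S)) (fun g => (S.basicOpen g.1).isOpen) hcov
  let p := hV.primeIdealOf ⟨η, hηV⟩
  have hmin : p.asIdeal ∈ minimalPrimes Γ(S, V) := by
    rw [← PrimeSpectrum.isMin_iff]
    intro q hq
    obtain ⟨z, hz, rfl⟩ := UOpenLib.exists_point_of_prime hV q
    obtain rfl := hη z ((UOpenLib.primeIdealOf_le_iff hV hz hηV).mp hq)
    exact le_rfl
  have key : ∀ g : Γ(S, V), η ∉ S.basicOpen g → ∃ W : S.Opens, η ∈ W ∧ Disjoint (W : Set S) (S.basicOpen g) := by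
    intro g hg
    have hgp : g ∈ p.asIdeal := by
      by_contra h
      apply hg
      have : p ∈ hV.fromSpec ⁻¹ᵁ S.basicOpen g := by
        rw [hV.fromSpec_preimage_basicOpen]
        exact h
      have e : hV.fromSpec.base p = η := hV.fromSpec_primeIdealOf ⟨η, hηV⟩
      exact e ▸ (this : hV.fromSpec.base p ∈ S.basicOpen g)
    obtain ⟨h, hh, n, hn⟩ : ∃ h ∉ p.asIdeal, ∃ n : ℕ, h * g ^ n = 0 := by
      have hr : IsNilpotent (algebraMap Γ(S, V) (Localization.AtPrime p.asIdeal) g) := by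
        rw [nilpotent_iff_mem_prime]
        intro J hJ
        have hle : J.comap (algebraMap Γ(S, V) (Localization.AtPrime p.asIdeal)) ≤ p.asIdeal :=
          fun a ha => by
            by_contra hap
            exact hJ.ne_top (Ideal.eq_top_of_isUnit_mem _ ha
              (IsLocalization.map_units (M := p.asIdeal.primeCompl) _ ⟨a, hap⟩))
        exact hmin.2 ⟨Ideal.IsPrime.comap _, bot_le⟩ hle hgp
      obtain ⟨n, hn⟩ := hr
      rw [← map_pow] at hn
      obtain ⟨c, hc⟩ := (IsLocalization.map_eq_zero_iff p.asIdeal.primeCompl _ _).mp hn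
      exact ⟨c.1, c.2, n, hc⟩
    refine ⟨S.basicOpen h, ?_, ?_⟩
    · have : p ∈ hV.fromSpec ⁻¹ᵁ S.basicOpen h := by
        rw [hV.fromSpec_preimage_basicOpen]
        exact hh
      have e : hV.fromSpec.base p = η := hV.fromSpec_primeIdealOf ⟨η, hηV⟩
      exact e ▸ (this : hV.fromSpec.base p ∈ S.basicOpen h)
    · have : (S.basicOpen h ⊓ S.basicOpen (g ^ (n + 1)) : S.Opens) = ⊥ := by
        rw [← Scheme.basicOpen_mul, pow_succ, ← mul_assoc, hn, zero_mul, Scheme.basicOpen_zero]
      rw [Scheme.basicOpen_pow S g (Nat.succ_pos n)] at this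
      exact Set.disjoint_iff_inter_eq_empty.mpr (congrArg SetLike.coe this)
  have hex : ∀ g : {g : Γ(S, V) // (S.basicOpen g : Set S) ⊆ U},
      ∃ W : S.Opens, η ∈ W ∧ Disjoint (W : Set S) (S.basicOpen g.1) := fun g => key g.1 fun h => hne (g.2 h)
  choose W hW hWd using hex
  obtain ⟨y, ⟨hyV, hyW⟩, hyU⟩ := hU.inter_open_nonempty ((V : Set S) ∩ ⋂ g ∈ t, (W g : Set S))
    (V.isOpen.inter (t.finite_toSet.isOpen_biInter fun g _ => (W g).isOpen))
    ⟨η, hηV, Set.mem_iInter₂.mpr fun g _ => hW g⟩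
  obtain ⟨g, hgt, hyg⟩ := Set.mem_iUnion₂.mp (ht ⟨hyU, hyV⟩)
  exact Set.disjoint_left.mp (hWd g) (Set.mem_iInter₂.mp hyW g hgt) hyg

/-- A bound on fibre dimensions over a dense open extends over the whole base for flat morphisms. -/
theorem fibreDimAt_le_of_dense {X S : Scheme.{u}} (f : X ⟶ S) [Flat f] [LocallyOfFiniteType f]
    (U : S.Opens) (hU : Dense (U : Set S)) (c : WithBot ℕ∞)
    (hle : ∀ x : X, f.base x ∈ U → FlatMor.fibreDimAt f x ≤ c)
    (h : LocallyOfFinitePresentation f ∨ IsRetrocompact (U : Set S)) (x : X) :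
    FlatMor.fibreDimAt f x ≤ c := by
  rcases h with h | h
  · by_contra hlt
    rw [not_le] at hlt
    obtain ⟨V, hV, hxV⟩ : ∃ V : S.Opens, IsAffineOpen V ∧ f.base x ∈ V := by
      obtain ⟨_, ⟨V, hV, rfl⟩, hxV, -⟩ :=
        S.isBasis_affineOpens.exists_subset_of_mem_open (Set.mem_univ (f.base x)) isOpen_univ
      exact ⟨V, hV, hxV⟩
    obtain ⟨W, hW, hxW, hWV⟩ : ∃ W : X.Opens, IsAffineOpen W ∧ x ∈ W ∧ W ≤ f ⁻¹ᵁ V := by
      obtain ⟨_, ⟨W, hW, rfl⟩, hxW, hWV⟩ :=
        X.isBasis_affineOpens.exists_subset_of_mem_open (show x ∈ f ⁻¹ᵁ V from hxV) (f ⁻¹ᵁ V).isOpen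
      exact ⟨W, hW, hxW, hWV⟩
    haveI : IsAffine (W : Scheme.{u}) := hW
    haveI : IsAffine (V : Scheme.{u}) := hV
    let f₀ : (W : Scheme.{u}) ⟶ (V : Scheme.{u}) := f.resLE V W hWV
    haveI : LocallyOfFinitePresentation (f₀ ≫ V.ι) := by rw [Scheme.Hom.resLE_comp_ι]; infer_instance
    haveI : LocallyOfFinitePresentation f₀ := Groth.Agent.S12442.lfp_of_comp_lft f₀ V.ι
    haveI : Flat f₀ := inferInstance
    have hop := isOpen_lt_fiber_dim f₀ (fun z => WeightLib.isUnivOpenAt_of_universallyOpen (f := f₀) z) c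
    have sq : IsPullback (𝟙 _) f₀ (f₀ ≫ V.ι) V.ι := by
      refine ⟨⟨by rw [Category.id_comp]⟩, ⟨PullbackCone.IsLimit.mk _ (fun s ↦ s.fst)
        (fun s ↦ Category.comp_id _) (fun s ↦ ?_) fun s m h1 _ ↦ (Category.comp_id m).symm.trans h1⟩⟩
      exact (cancel_mono V.ι).mp ((Category.assoc _ _ _).trans s.condition)
    have hd : ∀ w : (W : Scheme.{u}), FlatMor.fibreDimAt f₀ w = FlatMor.fibreDimAt f (W.ι.base w) := fun w => by
      rw [fibreDimAt_baseChange sq w, ← fibreDimAt_comp_isOpenImmersion W.ι f w]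
      have he : f₀ ≫ V.ι = W.ι ≫ f := Scheme.Hom.resLE_comp_ι _ _
      rw [he]
      rfl
    obtain ⟨w, rfl⟩ : x ∈ Set.range W.ι.base := by rw [W.range_ι]; exact hxW
    have hmem : f₀.base w ∈ {s | c < topologicalKrullDim (f₀.fiber s)} :=
      hlt.trans_le ((hd w).symm.trans_le (fibreDimAt_le_fiber f₀ w))
    obtain ⟨s, hsO, hsU⟩ := (hU.preimage V.ι.isOpenEmbedding.isOpenMap).inter_open_nonempty _ hop ⟨_, hmem⟩
    refine absurd ((topologicalKrullDim_fiber_le_iff f₀ s c).mpr fun z hz => ?_) (not_le.mpr hsO)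
    rw [hd]
    refine hle _ ?_
    rw [← Scheme.Hom.comp_apply, ← Scheme.Hom.resLE_comp_ι f hWV, Scheme.Hom.comp_apply]
    show V.ι.base (f₀.base z) ∈ U
    rw [hz]
    exact hsU
  · obtain ⟨x₀, hx₀, -, hmax, he⟩ := UOpenLib.exists_max_fibreDimAt f x
    rw [← he, ← UOpenLib.fibreDimAt_eq_of_max f hmax]
    obtain ⟨η, hη, hηs⟩ := DvrDomLib.exists_generic_specializes (f.base x₀)
    obtain ⟨ζ, -, hζ, hle'⟩ := exists_generization_of_flat f hmax hηs
    refine hle'.trans ((UOpenLib.fibreClosureDim_le_fibreDimAt f specializes_rfl).trans (hle ζ ?_))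
    rw [hζ]
    exact mem_of_retrocompact_dense hU h fun y hy => eq_of_specializes_of_closure_mem hη hy

theorem isClopen_fiber_dim_zero {X Y : Scheme.{u}} (f : X ⟶ Y) [IsProper f] [Flat f] [LocallyOfFinitePresentation f] :
    IsClopen {y : Y | topologicalKrullDim (f.fiber y) = 0} := by
  have hne : ∀ y, y ∈ Set.range f.base ↔ 0 ≤ topologicalKrullDim (f.fiber y) := by
    refine fun y => ⟨?_, fun h => ?_⟩
    · rintro ⟨x, rfl⟩
      exact (localDim_nonneg (f.asFiber x)).trans (localDim_le _)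
    · by_contra hy
      refine absurd (h.trans ((topologicalKrullDim_fiber_le_iff f y ⊥).mpr fun x hx => (hy ⟨x, hx⟩).elim)) ?_
      simp
  have h1 : {y : Y | topologicalKrullDim (f.fiber y) = 0} =
      {y : Y | topologicalKrullDim (f.fiber y) ≤ 0} ∩ Set.range f.base := by
    ext y
    simp only [Set.mem_inter_iff, Set.mem_setOf_eq, hne]
    exact ⟨fun h => ⟨h.le, h.ge⟩, fun h => le_antisymm h.1 h.2⟩
  have h2 : {y : Y | topologicalKrullDim (f.fiber y) ≤ 0} =
      {y : Y | 0 < topologicalKrullDim (f.fiber y)}ᶜ := by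
    ext y; simp
  refine ⟨?_, ?_⟩
  · rw [h1, h2]
    exact (isOpen_lt_fiber_dim f (fun x => WeightLib.isUnivOpenAt_of_universallyOpen (f := f) x) 0).isClosed_compl.inter
      f.isClosedMap.isClosed_range
  · rw [h1]
    exact (isOpen_fiber_dim_le f f.isClosedMap 0).inter f.isOpenMap.isOpen_range

theorem isFinite_morphismRestrict_of_dim_zero {X Y : Scheme.{u}} (f : X ⟶ Y) [IsProper f]
    (U : Y.Opens) (hU : ∀ y ∈ U, topologicalKrullDim (f.base ⁻¹' {y}) ≤ 0) : IsFinite (f ∣_ U) := by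
  haveI : IsProper (f ∣_ U) := IsZariskiLocalAtTarget.restrict ‹_› U
  haveI : LocallyQuasiFinite (f ∣_ U) := by
    rw [locallyQuasiFinite_iff_isDiscrete_preimage_singleton]
    intro u
    rw [isDiscrete_iff_discreteTopology]
    let r : (f ∣_ U).base ⁻¹' {u} → f.base ⁻¹' {u.1} := fun z => ⟨((f ⁻¹ᵁ U).ι.base z.1), by
      have h := congrArg (fun m : (f ⁻¹ᵁ U : Scheme.{u}) ⟶ Y => m.base z.1) (morphismRestrict_ι f U)
      simp only [Scheme.Hom.comp_apply] at h
      show f.base _ = u.1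
      rw [← h, show (f ∣_ U).base z.1 = u from z.2]
      rfl⟩
    have hr : IsEmbedding r := IsEmbedding.of_comp (by fun_prop) continuous_subtype_val
      ((f ⁻¹ᵁ U).ι.isEmbedding.comp IsEmbedding.subtypeVal)
    haveI := UOpenLib.lft_fiberToSpec f u.1
    haveI : IsLocallyNoetherian (f.fiber u.1) :=
      @LocallyOfFiniteType.isLocallyNoetherian _ _ (f.fiberToSpecResidueField u.1) (UOpenLib.lft_fiberToSpec f u.1) _
    haveI : CompactSpace (f.fiber u.1) := QuasiCompact.compactSpace_of_compactSpace (f.fiberToSpecResidueField u.1)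
    haveI : IsNoetherian (f.fiber u.1) := {}
    haveI : DiscreteTopology (f.fiber u.1) := by
      refine discreteTopology_iff_isOpen_singleton.mpr fun z => ?_
      refine isOpen_singleton_of_dim_le_zero (U := ⊤) trivial
        ((topologicalKrullDim_subspace_le _ _).trans ?_)
      exact (IsHomeomorph.topologicalKrullDim_eq _ (f.fiberHomeo u.1).isHomeomorph).trans_le (hU u.1 u.2)
    haveI : DiscreteTopology (f.base ⁻¹' {u.1}) := (f.fiberHomeo u.1).symm.isEmbedding.discreteTopology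
    exact hr.discreteTopology
  exact IsFinite.of_isProper_of_locallyQuasiFinite _

theorem add_cancel_nat {a b : WithBot ℕ∞} {n : ℕ} (h : (n : WithBot ℕ∞) + a = n + b) : a = b := by
  induction a <;> induction b <;> simp_all
  norm_cast at h

/-- Étale morphisms preserve the dimension of fibres. -/
theorem fibreDimAt_comp_etale {W X Y : Scheme.{u}} (g : W ⟶ X) [Etale g] (p : X ⟶ Y) (w : W) :
    FlatMor.fibreDimAt (g ≫ p) w = FlatMor.fibreDimAt p (g.base w) := by
  let y := p.base (g.base w)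
  let m : pullback (g ≫ p) (Y.fromSpecResidueField y) ⟶ pullback p (Y.fromSpecResidueField y) :=
    (pullbackRightPullbackFstIso p (Y.fromSpecResidueField y) g).inv ≫ pullback.snd _ _
  haveI : Etale m := inferInstance
  have hm : m ≫ pullback.fst p (Y.fromSpecResidueField y) = pullback.fst (g ≫ p) (Y.fromSpecResidueField y) ≫ g := by
    simp only [m, Category.assoc, ← pullback.condition]
    exact pullbackRightPullbackFstIso_inv_fst_assoc _ _ _ _
  refine (localDim_eq_of_etale m ((g ≫ p).asFiber w)).trans ?_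
  refine ((fibreDimAt_fiberι p y (m.base ((g ≫ p).asFiber w))).symm).trans ?_
  congr 1
  show (m ≫ pullback.fst p (Y.fromSpecResidueField y)).base ((g ≫ p).asFiber w) = g.base w
  rw [hm]
  exact congrArg g.base ((g ≫ p).fiberι_asFiber w)

theorem fibreDimAt_comp_of_discrete {X V' V : Scheme.{u}} (p : X ⟶ V') (b : V' ⟶ V) [LocallyQuasiFinite b] (x : X) :
    FlatMor.fibreDimAt (p ≫ b) x = FlatMor.fibreDimAt p x := by
  let v := b.base (p.base x)
  have hsub : p.base ⁻¹' {p.base x} ⊆ (p ≫ b).base ⁻¹' {v} := fun z (hz : p.base z = p.base x) => by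
    show (p ≫ b).base z = v
    rw [Scheme.Hom.comp_apply, hz]
  have hd := b.isDiscrete_preimage_singleton v
  rw [isDiscrete_iff_discreteTopology] at hd
  have h1 : IsOpenEmbedding (Set.inclusion hsub) := by
    refine ⟨IsEmbedding.inclusion hsub, ?_⟩
    rw [Set.range_inclusion]
    let π : ↥((p ≫ b).base ⁻¹' {v}) → ↥(b.base ⁻¹' {v}) := fun z => ⟨p.base z.1, by
      have := z.2; simp only [Set.mem_preimage, Scheme.Hom.comp_apply] at this; exact this⟩
    have hπ : Continuous π := (p.continuous.comp continuous_subtype_val).subtype_mk _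
    convert hπ.isOpen_preimage {⟨p.base x, rfl⟩} (isOpen_discrete _) using 1
    ext z
    exact ⟨fun hz => Subtype.ext hz, fun hz => congrArg Subtype.val hz⟩
  have h3 := (((p ≫ b).fiberHomeo v).symm.isOpenEmbedding.comp h1).comp (p.fiberHomeo (p.base x)).isOpenEmbedding
  show FlatMor.localDim ((p ≫ b).fiber v) ((p ≫ b).asFiber x) = FlatMor.localDim (p.fiber (p.base x)) (p.asFiber x)
  rw [← localDim_eq_of_isOpenEmbedding h3]
  congr 1
  show _ = ((p ≫ b).fiberHomeo v).symm _
  rw [Scheme.Hom.asFiber, Scheme.Hom.asFiber]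
  congr 1
  apply Subtype.ext
  simp only [Function.comp_apply]
  erw [Homeomorph.apply_symm_apply]

theorem fibreDimAt_eq_of_etale_square {U U' V V' : Scheme.{u}} (h : U ⟶ V)
    (h' : U' ⟶ V') (a : U' ⟶ U) (b : V' ⟶ V) [Etale a] [Etale b] (comm : h' ≫ b = a ≫ h) (u' : U') :
    FlatMor.fibreDimAt h (a.base u') = FlatMor.fibreDimAt h' u' := by
  haveI := WeightLib.locallyQuasiFinite_of_etale b
  rw [← fibreDimAt_comp_of_discrete h' b u', comm, fibreDimAt_comp_etale a h u']

/-- Components of fibres have the fibre dimension at their generic points. -/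
theorem exists_point_of_fibre_component {X Y : Scheme.{u}} (f : X ⟶ Y) [LocallyOfFiniteType f] (y : Y)
    {Z : Set (f.fiber y)} (hZ : Z ∈ irreducibleComponents (f.fiber y : Type u)) :
    ∃ x : X, f.base x = y ∧ topologicalKrullDim Z = FlatMor.fibreDimAt f x := by
  obtain ⟨w, -, hd⟩ := @exists_generic_of_component (Y.residueField y) _ _ (f.fiberToSpecResidueField y)
    (UOpenLib.lft_fiberToSpec f y) _ hZ
  refine ⟨(f.fiberι y).base w, ?_, by rw [fibreDimAt_fiberι, hd]⟩
  have h := Set.mem_range_self (f := (f.fiberι y).base) w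
  rwa [f.range_fiberι] at h

/-- The fibre dimension at a point is the dimension of a component of the fibre. -/
theorem exists_fibre_component {X Y : Scheme.{u}} (f : X ⟶ Y) [LocallyOfFiniteType f] (x : X) :
    ∃ Z ∈ irreducibleComponents (f.fiber (f.base x) : Type u), FlatMor.fibreDimAt f x = topologicalKrullDim Z := by
  obtain ⟨g, hg, -, hd⟩ := @exists_generic_localDim _ _ _ _ (UOpenLib.lft_fiberToSpec f _) (f.asFiber x)
  exact ⟨_, hg, hd⟩

end FibDimLib
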