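import Groth.Agent.FibDimLib.GenIneq
import Groth.Agent.DimIneqLib.StalkFibre
import Groth.Agent.FlatLib.FlatLocusScheme
import Groth.Agent.S9501

/-!
# The dimension of the fibres of a composite
-/

set_option autoImplicit false

universe u

open CategoryTheory CategoryTheory.Limits AlgebraicGeometry TopologicalSpace Topology

namespace FibDimLib

theorem flat_of_square {A A' B B' : Type u} [CommRing A] [CommRing A'] [CommRing B] [CommRing B'] (φ : A →+* B)
    (hφ : φ.Flat) (π : A →+* A') (π' : B →+* B') (ψ : A' →+* B') (hπ : Function.Surjective π)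
    (hπ' : Function.Surjective π') (hker : RingHom.ker π' = (RingHom.ker π).map φ)
    (hc : ψ.comp π = π'.comp φ) : ψ.Flat := by
  letI := φ.toAlgebra
  haveI : Module.Flat A B := hφ
  let e : A ⧸ RingHom.ker π ≃+* A' := RingHom.quotientKerEquivOfSurjective hπ
  let e' : B ⧸ (RingHom.ker π).map φ ≃+* B' :=
    (Ideal.quotEquivOfEq hker.symm).trans (RingHom.quotientKerEquivOfSurjective hπ')
  have hψ : ψ = (e'.toRingHom.comp
      (Ideal.quotientMap ((RingHom.ker π).map φ) φ Ideal.le_comap_map)).comp e.symm.toRingHom := by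
    ext a
    obtain ⟨a, rfl⟩ := hπ a
    have h1 : e.symm (π a) = Ideal.Quotient.mk _ a := by
      rw [RingEquiv.symm_apply_eq]; exact (RingHom.kerLift_mk π a).symm
    show ψ (π a) = e' (Ideal.quotientMap _ φ Ideal.le_comap_map (e.symm (π a)))
    rw [h1]
    exact RingHom.congr_fun hc a
  rw [hψ]
  exact RingHom.Flat.comp (RingHom.Flat.of_bijective e.symm.bijective)
    (RingHom.Flat.comp (FlatCrit.flat_quotientMap (RingHom.ker π)) (RingHom.Flat.of_bijective e'.bijective))

theorem fiberι_stalk_congr {Y S : Scheme.{u}} (g : Y ⟶ S) (s : S) (w : g.fiber s) (y : Y)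
    (h : (g.fiberι s).base w = y) :
    Function.Surjective ((Y.presheaf.stalkCongr (.of_eq h.symm)).hom ≫ (g.fiberι s).stalkMap w).hom ∧
      (IsLocalRing.maximalIdeal (S.presheaf.stalk (g.base y))).map (g.stalkMap y).hom ≤
        RingHom.ker ((Y.presheaf.stalkCongr (.of_eq h.symm)).hom ≫ (g.fiberι s).stalkMap w).hom := by
  subst h
  have e : (Y.presheaf.stalkCongr (.of_eq (Eq.symm (Eq.refl ((g.fiberι s).base w))))).hom = 𝟙 _ := by
    simp
  rw [e, Category.id_comp]
  obtain ⟨h1, h2⟩ := Groth.Agent.S9501.result g s w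
  exact ⟨h1, h2.ge⟩

/-- Flatness at a point passes to the maps of fibres. -/
theorem flatAt_fiberMap {X Y S : Scheme.{u}} (f : X ⟶ Y) (g : Y ⟶ S) (s : S) (z : (f ≫ g).fiber s)
    (hf : (f.stalkMap (((f ≫ g).fiberι s).base z)).hom.Flat) :
    ((MoreMor.fiberMap f g s).stalkMap z).hom.Flat := by
  set p := MoreMor.fiberMap f g s
  set ι := (f ≫ g).fiberι s
  have hw : p ≫ g.fiberι s = ι ≫ f := FlatLib.fiberMap_ι f g s
  have hpt : (g.fiberι s).base (p.base z) = f.base (ι.base z) :=
    congrArg (fun h : (f ≫ g).fiber s ⟶ Y => h.base z) hw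
  obtain ⟨hs1, hs2⟩ := fiberι_stalk_congr g s (p.base z) _ hpt
  obtain ⟨hι1, hι2⟩ := Groth.Agent.S9501.result (f ≫ g) s z
  have key : (Y.presheaf.stalkCongr (.of_eq hpt.symm)).hom ≫ (g.fiberι s).stalkMap (p.base z) ≫ p.stalkMap z =
      f.stalkMap (ι.base z) ≫ ι.stalkMap z := by
    have h := Scheme.Hom.stalkMap_congr_hom _ _ hw z
    rw [Scheme.Hom.stalkMap_comp, Scheme.Hom.stalkMap_comp] at h
    rw [h]
    simp
  refine flat_of_square (f.stalkMap (ι.base z)).hom hf _ (ι.stalkMap z).hom (p.stalkMap z).hom hs1 hι1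
    (le_antisymm ?_ ?_) ?_
  · rw [hι2, Scheme.Hom.stalkMap_comp, CommRingCat.hom_comp]
    erw [← Ideal.map_map]
    exact Ideal.map_mono hs2
  · rw [Ideal.map_le_iff_le_comap]
    intro a ha
    have h := ConcreteCategory.congr_hom key a
    rw [RingHom.mem_ker] at ha
    show (ι.stalkMap z).hom ((f.stalkMap (ι.base z)).hom a) = 0
    refine h.symm.trans ?_
    show (p.stalkMap z).hom (((Y.presheaf.stalkCongr (.of_eq hpt.symm)).hom ≫
      (g.fiberι s).stalkMap (p.base z)).hom a) = 0
    rw [ha, map_zero]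
  · ext a
    exact ConcreteCategory.congr_hom key a

/-- Local dimensions over a field: the inequality. -/
theorem localDim_le_fibreDimAt_add {k : Type u} [Field k] {X Y : Scheme.{u}}
    (q : Y ⟶ Spec (CommRingCat.of k)) [LocallyOfFiniteType q] (f : X ⟶ Y) [LocallyOfFiniteType f] (x : X) :
    FlatMor.localDim X x ≤ FlatMor.fibreDimAt f x + FlatMor.localDim Y (f.base x) := by
  haveI : IsLocallyNoetherian Y := LocallyOfFiniteType.isLocallyNoetherian q
  have hcl : ∀ {Z : Scheme.{u}} (r : Z ⟶ Spec (CommRingCat.of k)) [LocallyOfFiniteType r] (z : Z),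
      topologicalKrullDim (closure ({z} : Set Z)) = (DimIneqLib.trH (r.residueFieldMap z).hom : WithBot ℕ∞) := by
    intro Z r _ z
    rw [← DimIneqLib.fibreClosureDim_eq_trH, UOpenLib.fibreClosureDim_eq_inter]
    have : closure {z} ∩ r.base ⁻¹' {r.base z} = closure ({z} : Set Z) :=
      Set.inter_eq_left.mpr fun w _ => Subsingleton.elim (α := PrimeSpectrum k) _ _
    exact (IsHomeomorph.topologicalKrullDim_eq _ (Homeomorph.setCongr this).isHomeomorph).symm
  have hF : FlatMor.fibreDimAt f x = (DimIneqLib.trH (f.residueFieldMap x).hom : WithBot ℕ∞) +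
      ringKrullDim ((f.fiber (f.base x)).presheaf.stalk (f.asFiber x)) := by
    rw [← DimIneqLib.fibreClosureDim_eq_trH]
    exact @localDim_eq_closure_add_stalk _ _ _ (f.fiberToSpecResidueField (f.base x)) (UOpenLib.lft_fiberToSpec f _) (f.asFiber x)
  rw [localDim_eq_closure_add_stalk (f ≫ q) x, localDim_eq_closure_add_stalk q (f.base x),
    hcl (f ≫ q) x, hcl q (f.base x), hF,
    show DimIneqLib.trH ((f ≫ q).residueFieldMap x).hom =
        DimIneqLib.trH (q.residueFieldMap (f.base x)).hom + DimIneqLib.trH (f.residueFieldMap x).hom from by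
      rw [Scheme.residueFieldMap_comp]; exact DimIneqLib.trH_comp _ _,
    WithBot.coe_add]
  refine (add_le_add le_rfl (DimIneqLib.ringKrullDim_stalk_le_add_fibre f x)).trans (le_of_eq ?_)
  abel

/-- The fibre dimension of a composite is at most the sum of the fibre dimensions. -/
theorem fibreDimAt_comp_le {X Y S : Scheme.{u}} (f : X ⟶ Y) (g : Y ⟶ S) [LocallyOfFiniteType f]
    [LocallyOfFiniteType g] (x : X) :
    FlatMor.fibreDimAt (f ≫ g) x ≤ FlatMor.fibreDimAt f x + FlatMor.fibreDimAt g (f.base x) ∧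
      ((f.stalkMap x).hom.Flat →
        FlatMor.fibreDimAt (f ≫ g) x = FlatMor.fibreDimAt f x + FlatMor.fibreDimAt g (f.base x)) := by
  obtain ⟨s, hs⟩ : ∃ s, g.base (f.base x) = s := ⟨_, rfl⟩
  obtain ⟨z, hz⟩ : ∃ z, ((f ≫ g).fiberι s).base z = x := by
    subst hs; exact ⟨_, (f ≫ g).fiberι_asFiber x⟩
  subst hz
  set ι := (f ≫ g).fiberι s
  set p := MoreMor.fiberMap f g s
  have sq := FlatLib.isPullback_fiberMap f g s
  haveI : LocallyOfFiniteType p := MorphismProperty.of_isPullback sq ‹LocallyOfFiniteType f›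
  haveI : LocallyOfFiniteType (g.fiberToSpecResidueField s) := UOpenLib.lft_fiberToSpec g s
  haveI : IsLocallyNoetherian (g.fiber s) :=
    LocallyOfFiniteType.isLocallyNoetherian (g.fiberToSpecResidueField s)
  have hp : FlatMor.fibreDimAt p z = FlatMor.fibreDimAt f (ι.base z) := fibreDimAt_baseChange sq z
  have hpt : (g.fiberι s).base (p.base z) = f.base (ι.base z) :=
    congrArg (fun h : (f ≫ g).fiber s ⟶ Y => h.base z) (FlatLib.fiberMap_ι f g s)
  rw [fibreDimAt_fiberι (f ≫ g) s z, ← hp,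
    (congrArg (FlatMor.fibreDimAt g) hpt).symm.trans (fibreDimAt_fiberι g s (p.base z))]
  refine ⟨@localDim_le_fibreDimAt_add (S.residueField s) _ _ _ (g.fiberToSpecResidueField s) (UOpenLib.lft_fiberToSpec g s) p _ z, fun hflat => ?_⟩
  obtain ⟨O, hzO, hO⟩ := FlatLib.exists_open_flat p (flatAt_fiberMap f g s z hflat)
  have h := @localDim_eq_add_fibreDimAt (S.residueField s) _ _ _ (g.fiberToSpecResidueField s) (UOpenLib.lft_fiberToSpec g s) (O.ι ≫ p) _ hO ⟨z, hzO⟩
  rw [fibreDimAt_comp_isOpenImmersion, ← localDim_eq_of_isOpenEmbedding O.ι.isOpenEmbedding] at h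
  rw [add_comm]
  exact h

end FibDimLib
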