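import Groth.Agent.FibDimLib.Smooth

/-!
# The loci of bounded fibre dimension are retrocompact
-/

set_option autoImplicit false

universe u

open CategoryTheory CategoryTheory.Limits AlgebraicGeometry TopologicalSpace Topology

namespace FibDimLib

theorem isCompact_fibreDimAt_le_of_isAffine {X S : Scheme.{u}} [IsAffine X] [IsAffine S] (f : X ⟶ S)
    [LocallyOfFinitePresentation f] (c : WithBot ℕ∞) : IsCompact {x : X | FlatMor.fibreDimAt f x ≤ c} := by
  let A := ConsLib.zSys (Γ(S, ⊤) : Type u)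
  haveI : ∀ i j (a : i ⟶ j), IsAffineHom (A.D.map a) := fun _ _ a => A.affine_map a
  obtain ⟨i, N, hN⟩ := ConsLib.exists_affine_model f
  haveI := hN
  haveI := N.lfp
  haveI : IsNoetherian (A.D.obj i) := ConsLib.zSys_obj _ i
  haveI : IsLocallyNoetherian N.Z := LocallyOfFiniteType.isLocallyNoetherian N.p
  haveI : IsNoetherian N.Z := {}
  let e := S.isoSpec.hom ≫ (ConsLib.zSysIso (Γ(S, ⊤) : Type u)).inv
  have he : {x : X | FlatMor.fibreDimAt f x ≤ c} = N.g.base ⁻¹' {z | FlatMor.fibreDimAt N.p z ≤ c} := by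
    ext x
    show _ ≤ c ↔ _ ≤ c
    rw [← fibreDimAt_baseChange N.sq x]
    have : FlatMor.fibreDimAt (f ≫ e) x = FlatMor.fibreDimAt f x := fibreDimAt_comp_of_discrete f e x
    exact (congrArg (· ≤ c) this).to_iff.symm
  rw [he]
  exact QuasiCompact.isCompact_preimage (f := N.g) _ (isOpen_fibreDimAt_le N.p c) (NoetherianSpace.isCompact _)

theorem isRetrocompact_fibreDimAt_le {X S : Scheme.{u}} (f : X ⟶ S) [LocallyOfFinitePresentation f]
    (c : WithBot ℕ∞) : IsRetrocompact {x : X | FlatMor.fibreDimAt f x ≤ c} := by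
  intro K hK hKo
  have hcov : ∀ x ∈ K, ∃ W : X.Opens, x ∈ W ∧ (W : Set X) ⊆ K ∧
      IsCompact ({z : X | FlatMor.fibreDimAt f z ≤ c} ∩ W) := by
    intro x hx
    obtain ⟨V, hV, hxV⟩ : ∃ V : S.Opens, IsAffineOpen V ∧ f.base x ∈ V := by
      obtain ⟨_, ⟨V, hV, rfl⟩, hxV, -⟩ :=
        S.isBasis_affineOpens.exists_subset_of_mem_open (Set.mem_univ (f.base x)) isOpen_univ
      exact ⟨V, hV, hxV⟩
    obtain ⟨W, hW, hxW, hWK⟩ : ∃ W : X.Opens, IsAffineOpen W ∧ x ∈ W ∧ (W : Set X) ⊆ K ∩ f.base ⁻¹' V := by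
      obtain ⟨_, ⟨W, hW, rfl⟩, hxW, hWK⟩ :=
        X.isBasis_affineOpens.exists_subset_of_mem_open (show x ∈ K ∩ f.base ⁻¹' V from ⟨hx, hxV⟩)
          (hKo.inter (f ⁻¹ᵁ V).isOpen)
      exact ⟨W, hW, hxW, hWK⟩
    refine ⟨W, hxW, fun z hz => (hWK hz).1, ?_⟩
    have hWV : W ≤ f ⁻¹ᵁ V := fun z hz => (hWK hz).2
    haveI : IsAffine (W : Scheme.{u}) := hW
    haveI : IsAffine (V : Scheme.{u}) := hV
    let f₀ : (W : Scheme.{u}) ⟶ (V : Scheme.{u}) := f.resLE V W hWV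
    haveI : LocallyOfFinitePresentation (f₀ ≫ V.ι) := by rw [Scheme.Hom.resLE_comp_ι]; infer_instance
    haveI : LocallyOfFinitePresentation f₀ := Groth.Agent.S12442.lfp_of_comp_lft f₀ V.ι
    have hd : ∀ w : (W : Scheme.{u}), FlatMor.fibreDimAt f₀ w = FlatMor.fibreDimAt f (W.ι.base w) := fun w => by
      rw [← fibreDimAt_comp_of_discrete f₀ V.ι w, Scheme.Hom.resLE_comp_ι, fibreDimAt_comp_isOpenImmersion]
    have h := (isCompact_fibreDimAt_le_of_isAffine f₀ c).image W.ι.continuous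
    convert h using 1
    ext z
    refine ⟨fun ⟨hz, hzW⟩ => ?_, ?_⟩
    · obtain ⟨w, rfl⟩ : z ∈ Set.range W.ι.base := by rw [W.range_ι]; exact hzW
      exact ⟨w, (hd w).trans_le hz, rfl⟩
    · rintro ⟨w, hw, rfl⟩
      exact ⟨(hd w).symm.trans_le hw, by rw [← W.range_ι]; exact ⟨w, rfl⟩⟩
  choose! W hxW hWK hWc using hcov
  obtain ⟨t, htK, ht⟩ := hK.elim_nhds_subcover (fun x => (W x : Set X)) fun x hx => (W x).isOpen.mem_nhds (hxW x hx)
  have e : {x : X | FlatMor.fibreDimAt f x ≤ c} ∩ K = ⋃ x ∈ t, {z : X | FlatMor.fibreDimAt f z ≤ c} ∩ W x := by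
    ext z
    simp only [Set.mem_inter_iff, Set.mem_iUnion, exists_prop]
    constructor
    · rintro ⟨hz, hzK⟩
      obtain ⟨x, hxt, hzx⟩ := Set.mem_iUnion₂.mp (ht hzK)
      exact ⟨x, hxt, hz, hzx⟩
    · rintro ⟨x, hxt, hz, hzx⟩
      exact ⟨hz, hWK x (htK x hxt) hzx⟩
  rw [e]
  exact t.finite_toSet.isCompact_biUnion fun x hx => hWc x (htK x hx)

end FibDimLib
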