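import Groth.Agent.FibDimLib.Generic
import Groth.Agent.FibDimLib.FieldExt

/-! The dimension of the fibres of a morphism of finite type is constant near the generic point. -/

set_option autoImplicit false

universe u

open CategoryTheory CategoryTheory.Limits AlgebraicGeometry TopologicalSpace Topology

namespace FibDimLib

variable {A B : CommRingCat.{u}} {X : Scheme.{u}}

theorem topologicalKrullDim_fiber_piece (u : X ⟶ Spec A) (c : Spec B ⟶ X) [IsOpenImmersion c]
    (φ : A ⟶ B) (hφ : Spec.map φ = c ≫ u) (s : Spec A) :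
    letI := φ.hom.toAlgebra
    topologicalKrullDim ↥(u.fiberι s ⁻¹ᵁ c.opensRange) = ringKrullDim (s.asIdeal.Fiber B) := by
  letI := φ.hom.toAlgebra
  let Z : Set (Spec B) := PrimeSpectrum.comap (algebraMap A B) ⁻¹' {s}
  have hcu : ∀ z, u (c z) = Spec.map φ z := fun z => by rw [hφ]; rfl
  have hmem : ∀ z : Z, u (c z.1) = s := fun z => (hcu z.1).trans z.2
  let j : Z → u.fiber s := fun z => (u.fiberHomeo s).symm ⟨c z.1, hmem z⟩
  have hj : IsEmbedding j := (u.fiberHomeo s).symm.isEmbedding.comp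
    ((c.isOpenEmbedding.isEmbedding.comp IsEmbedding.subtypeVal).codRestrict (u ⁻¹' {s}) hmem)
  have hr : Set.range j = (u.fiberι s ⁻¹ᵁ c.opensRange : Set (u.fiber s)) := by
    ext x
    constructor
    · rintro ⟨z, rfl⟩
      exact ⟨z.1, (u.fiberι_fiberHomeo_symm s ⟨c z.1, hmem z⟩).symm⟩
    · rintro ⟨z, hz⟩
      have hzs : u (c z) = s := by
        rw [hz]; exact (u.range_fiberι s).le ⟨x, rfl⟩
      refine ⟨⟨z, (hcu z).symm.trans hzs⟩, (u.fiberHomeo s).injective ?_⟩
      simp only [j, Homeomorph.apply_symm_apply]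
      exact Subtype.ext (hz.trans (u.fiberHomeo_apply s x).symm)
  refine ((IsHomeomorph.topologicalKrullDim_eq _ (hj.toHomeomorph.trans (Homeomorph.setCongr hr)).isHomeomorph).symm).trans ?_
  exact (IsHomeomorph.topologicalKrullDim_eq _ (PrimeSpectrum.preimageHomeomorphFiber A B s).isHomeomorph).trans
    (PrimeSpectrum.topologicalKrullDim_eq_ringKrullDim _)

theorem topologicalKrullDim_fiber_eq_iSup (u : X ⟶ Spec A) (s : Spec A) {ι : Type*} {R : ι → CommRingCat.{u}}
    (c : ∀ i, Spec (R i) ⟶ X) [∀ i, IsOpenImmersion (c i)] (hc : ∀ x, ∃ i, x ∈ (c i).opensRange)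
    (φ : ∀ i, A ⟶ R i) (hφ : ∀ i, Spec.map (φ i) = c i ≫ u) :
    topologicalKrullDim ↑(u.fiber s) = ⨆ i, (letI := (φ i).hom.toAlgebra; ringKrullDim (s.asIdeal.Fiber (R i))) := by
  apply le_antisymm
  · refine (topologicalKrullDim_le_iSup (fun i => u.fiberι s ⁻¹ᵁ (c i).opensRange) (fun x => ?_)).trans
      (iSup_mono fun i => (topologicalKrullDim_fiber_piece u (c i) (φ i) (hφ i) s).le)
    exact hc (u.fiberι s x)
  · refine iSup_le fun i => ?_
    rw [← topologicalKrullDim_fiber_piece u (c i) (φ i) (hφ i) s]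
    exact (u.fiberι s ⁻¹ᵁ (c i).opensRange).2.isOpenEmbedding_subtypeVal.isInducing.topologicalKrullDim_le

theorem exists_basicOpen_fiber_dim [IsDomain A] (u : X ⟶ Spec A) [LocallyOfFiniteType u] [QuasiCompact u] :
    ∃ (a : A) (d : WithBot ℕ∞), a ≠ 0 ∧ ∀ s : Spec A, a ∉ s.asIdeal → topologicalKrullDim ↑(u.fiber s) = d := by
  classical
  haveI : CompactSpace X := QuasiCompact.compactSpace_of_compactSpace u
  let c := X.affineCover.finiteSubcover
  haveI : Fintype c.I₀ := inferInstanceAs (Fintype _)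
  have hex : ∀ i, ∃ (R : CommRingCat.{u}) (j : Spec R ⟶ X) (_ : IsOpenImmersion j) (φ : A ⟶ R),
      Spec.map φ = j ≫ u ∧ j.opensRange = (c.f i).opensRange := by
    intro i
    haveI : IsOpenImmersion (c.f i) := c.map_prop i
    haveI : IsAffine (c.X i) := inferInstanceAs (IsAffine (Spec _))
    obtain ⟨φ, hφ⟩ := Spec.map_surjective ((c.X i).isoSpec.inv ≫ c.f i ≫ u)
    exact ⟨Γ(c.X i, ⊤), (c.X i).isoSpec.inv ≫ c.f i, inferInstance, φ, by rw [hφ, Category.assoc],
      Scheme.Hom.opensRange_comp_of_isIso _ _⟩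
  choose R j hj φ hφ hr using hex
  have hd : ∀ i, ∃ (a : A) (d : WithBot ℕ∞), a ≠ 0 ∧ ∀ (p : Ideal A) [p.IsPrime], a ∉ p →
      (letI := (φ i).hom.toAlgebra; ringKrullDim (p.Fiber (R i))) = d := fun i => by
    letI := (φ i).hom.toAlgebra
    haveI : Algebra.FiniteType A (R i) := RingHom.finiteType_algebraMap.mp
      ((HasRingHomProperty.Spec_iff (P := @LocallyOfFiniteType)).mp
        (hφ i ▸ (haveI := hj i; (inferInstance : LocallyOfFiniteType (j i ≫ u)))))
    exact exists_ringKrullDim_fiber_eq (A := A) (B := R i)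
  choose a d ha had using hd
  refine ⟨∏ i, a i, ⨆ i, d i, Finset.prod_ne_zero_iff.mpr fun i _ => ha i, fun s hs => ?_⟩
  haveI := hj
  rw [topologicalKrullDim_fiber_eq_iSup u s j (fun x => ⟨c.idx x, by rw [hr]; exact c.covers x⟩) φ hφ]
  exact iSup_congr fun i => had i s.asIdeal fun h => hs
    (Ideal.mem_of_dvd _ (Finset.dvd_prod_of_mem _ (Finset.mem_univ i)) h)

theorem exists_open_fiber_dim_eq {S : Scheme.{u}} [IsIntegral S] (u : X ⟶ S) [LocallyOfFiniteType u] [QuasiCompact u] :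
    ∃ O : S.Opens, genericPoint S ∈ O ∧
      ∀ s ∈ O, topologicalKrullDim ↑(u.fiber s) = topologicalKrullDim ↑(u.fiber (genericPoint S)) := by
  obtain ⟨W, hW, hηW, -⟩ := exists_isAffineOpen_mem_and_subset (X := S) (x := genericPoint S) (U := ⊤) trivial
  haveI : Nonempty W := ⟨⟨_, hηW⟩⟩
  haveI : IsDomain Γ(S, W) := inferInstance
  let v := pullback.snd u hW.fromSpec
  obtain ⟨a, d, ha, hd⟩ := exists_basicOpen_fiber_dim v
  have hbc : ∀ t, topologicalKrullDim ↑(v.fiber t) = topologicalKrullDim ↑(u.fiber (hW.fromSpec t)) :=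
    fun t => topologicalKrullDim_fiber_baseChange (IsPullback.of_hasPullback u hW.fromSpec) t
  obtain ⟨η, hη⟩ : ∃ t, hW.fromSpec t = genericPoint S := by
    have : genericPoint S ∈ Set.range hW.fromSpec := by rw [hW.range_fromSpec]; exact hηW
    exact this
  have hηa : a ∉ η.asIdeal := by
    intro h
    refine ha ?_
    let g : Spec Γ(S, W) := (⟨⊥, Ideal.isPrime_bot⟩ : PrimeSpectrum Γ(S, W))
    have e : η = g := by
      refine hW.fromSpec.isOpenEmbedding.injective (hη.trans ?_)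
      refine (genericPoint_spec S).eq ?_
      refine (isGenericPoint_iff_specializes).mpr fun x => ⟨fun _ => trivial, fun _ => ?_⟩
      have h1 : hW.fromSpec g ⤳ genericPoint S := by
        rw [← hη]
        exact ((PrimeSpectrum.le_iff_specializes _ _).mp (bot_le : (⊥ : Ideal Γ(S, W)) ≤ η.asIdeal)).map
          hW.fromSpec.continuous
      exact h1.trans (genericPoint_specializes x)
    rw [e] at h
    exact h
  refine ⟨hW.fromSpec ''ᵁ PrimeSpectrum.basicOpen a, ⟨η, hηa, hη⟩, ?_⟩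
  rintro _ ⟨t, ht, rfl⟩
  exact (hbc t).symm.trans ((hd t ht).trans ((hd η hηa).symm.trans ((hbc η).trans (by rw [hη]))))

end FibDimLib
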