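import Groth.Agent.FibDimLib.GenericScheme
import Groth.Agent.ConsLib.Basic

/-! The dimension is a constructible property of algebraic schemes. -/

set_option autoImplicit false

universe u

open CategoryTheory CategoryTheory.Limits AlgebraicGeometry TopologicalSpace Topology

namespace FibDimLib

/-- A point of an integral scheme with one point gives it as spectrum of a field. -/
theorem isField_top {T : Scheme.{u}} [IsIntegral T] [Subsingleton T] : IsField Γ(T, ⊤) :=
  isField_of_isIntegral_of_subsingleton T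

theorem topologicalKrullDim_eq_of_isPullback {Y Y' T T' : Scheme.{u}} {g : Y ⟶ T} {g' : Y' ⟶ T'} {e : Y' ⟶ Y}
    {h : T' ⟶ T} [IsIntegral T] [Subsingleton T] [IsIntegral T'] [Subsingleton T'] [LocallyOfFiniteType g]
    (sq : IsPullback e g' g h) : topologicalKrullDim Y' = topologicalKrullDim Y := by
  obtain ⟨t'⟩ := (inferInstance : Nonempty T')
  have hd := topologicalKrullDim_fiber_baseChange sq t'
  have hY : ∀ {Z W : Scheme.{u}} [Subsingleton W] (p : Z ⟶ W) (w : W),
      topologicalKrullDim ↑(p.fiber w) = topologicalKrullDim Z := by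
    intro Z W _ p w
    refine (IsHomeomorph.topologicalKrullDim_eq _ (p.fiberHomeo w).isHomeomorph).trans ?_
    refine IsHomeomorph.topologicalKrullDim_eq _ ((Homeomorph.setCongr ?_).trans (Homeomorph.Set.univ Z)).isHomeomorph
    exact Set.eq_univ_of_forall fun z => Subsingleton.elim _ _
  rwa [hY, hY] at hd

theorem isFieldStable_dim (Φ : Set (WithBot ℕ∞)) :
    ConsProp.IsFieldStable (fun (Y T : Scheme.{u}) (_ : Y ⟶ T) => topologicalKrullDim ↥Y ∈ Φ) := by
  intro Y Y' T T' g g' e h _ _ _ _ _ _ sq
  show topologicalKrullDim Y ∈ Φ ↔ topologicalKrullDim Y' ∈ Φ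
  rw [topologicalKrullDim_eq_of_isPullback sq]

theorem isCons_dim (Φ : Set (WithBot ℕ∞)) :
    ConsProp.IsCons (fun (Y T : Scheme.{u}) (_ : Y ⟶ T) => topologicalKrullDim ↥Y ∈ Φ) := by
  refine ⟨isFieldStable_dim Φ, fun X S u _ _ _ _ => ?_⟩
  obtain ⟨O, hη, hO⟩ := exists_open_fiber_dim_eq u
  by_cases hd : topologicalKrullDim ↑(u.fiber (genericPoint S)) ∈ Φ
  · left
    refine ⟨genericPoint S, interior_maximal (fun s hs => ?_) O.2 hη⟩
    show topologicalKrullDim ↑(u.fiber s) ∈ Φ
    rw [hO s hs]; exact hd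
  · right
    refine ⟨genericPoint S, interior_maximal ?_ O.2 hη⟩
    intro s hs hmem
    apply hd
    rw [← hO s hs]
    exact hmem

end FibDimLib
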