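import Groth.Agent.FibDimLib.FieldExt
import Groth.Agent.FibDimLib.Formula
import Groth.Agent.S6867

/-!
# Local dimensions are invariant under extensions of the ground field
-/

set_option autoImplicit false

universe u

open CategoryTheory CategoryTheory.Limits AlgebraicGeometry TopologicalSpace Topology TensorProduct

namespace FibDimLib

variable (k K : Type u) [Field k] [Field K] [Algebra k K]

/-- The components of an extension of scalars of an affine domain have the same dimension. -/
theorem ringKrullDim_quotient_minimalPrime_baseChange (A : Type u) [CommRing A] [IsDomain A] [Algebra k A]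
    [Algebra.FiniteType k A] (P : Ideal (K ⊗[k] A)) (hP : P ∈ minimalPrimes (K ⊗[k] A)) :
    ringKrullDim ((K ⊗[k] A) ⧸ P) = ringKrullDim A := by
  obtain ⟨s, g, hg, hgf⟩ := exists_finite_inj_algHom_of_fg k A
  let R := MvPolynomial (Fin s) k
  let h := Algebra.TensorProduct.map (AlgHom.id K K) g
  letI : Algebra R A := g.toRingHom.toAlgebra
  haveI : Module.Finite R A := hgf
  haveI : FaithfulSMul R A := (faithfulSMul_iff_algebraMap_injective _ _).2 hg
  haveI : Module.IsTorsionFree R A := Module.isTorsionFree_iff_faithfulSMul.mpr inferInstance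
  haveI : IsScalarTower k R A := IsScalarTower.of_algebraMap_eq fun x => (g.commutes x).symm
  obtain ⟨N, f, hf⟩ := Groth.Agent.S6867.exists_embedding R A
  let e := MvPolynomial.algebraTensorAlgEquiv (σ := Fin s) k K
  haveI : IsDomain (K ⊗[k] R) := e.toRingEquiv.toMulEquiv.isDomain (MvPolynomial (Fin s) K)
  let Ψ (i : Fin N) : K ⊗[k] A →ₗ[k] K ⊗[k] R :=
    (((LinearMap.proj i).comp f).restrictScalars k).lTensor K
  have hmul : ∀ (z : K ⊗[k] R) (y : K ⊗[k] A) (i : Fin N), Ψ i (h z * y) = z * Ψ i y := fun z y i => by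
    induction z using TensorProduct.induction_on with
    | zero => simp
    | add z w hz hw => simp only [map_add, add_mul, hz, hw]
    | tmul a r =>
      induction y using TensorProduct.induction_on with
      | zero => simp
      | add y w hy hw => simp only [map_add, mul_add, hy, hw]
      | tmul b x =>
        simp only [h, Ψ, Algebra.TensorProduct.map_tmul, AlgHom.coe_id, id_eq,
          Algebra.TensorProduct.tmul_mul_tmul, LinearMap.lTensor_tmul, LinearMap.coe_restrictScalars]
        congr 1
        rw [show g r * x = r • x from (Algebra.smul_def r x).symm, map_smul, smul_eq_mul]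
  have hpr : ∀ y i, TensorProduct.piRight k k K (fun _ : Fin N => R) ((f.restrictScalars k).lTensor K y) i = Ψ i y := fun y i => by
    induction y using TensorProduct.induction_on with
    | zero => simp
    | add a b ha hb => simp only [map_add, Pi.add_apply, ha, hb]
    | tmul b x => simp [Ψ]
  have hinj : ∀ y, (∀ i, Ψ i y = 0) → y = 0 := fun y hy => by
    refine Module.Flat.lTensor_preserves_injective_linearMap (M := K) (f.restrictScalars k) hf ?_
    rw [map_zero]
    refine (TensorProduct.piRight k k K (fun _ : Fin N => R)).injective (funext fun i => ?_)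
    rw [map_zero]
    exact (hpr y i).trans (hy i)
  have hnzd : ∀ z : K ⊗[k] R, z ≠ 0 → h z ∈ nonZeroDivisors (K ⊗[k] A) := fun z hz => by
    rw [mem_nonZeroDivisors_iff]
    refine ⟨fun y hy => hinj y fun i => ?_, fun y hy => hinj y fun i => ?_⟩
    · have := hmul z y i
      rw [hy, map_zero] at this
      exact (mul_eq_zero.mp this.symm).resolve_left hz
    · have := hmul z y i
      rw [mul_comm (h z) y, hy, map_zero] at this
      exact (mul_eq_zero.mp this.symm).resolve_left hz
  haveI := hP.1.1
  have hφ : h.toRingHom.IsIntegral := by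
    letI : Algebra (K ⊗[k] R) (K ⊗[k] A) := h.toRingHom.toAlgebra
    intro z
    show IsIntegral (K ⊗[k] R) z
    induction z with
    | zero => exact isIntegral_zero
    | add x y hx hy => exact hx.add hy
    | tmul l a =>
      have hl : IsIntegral (K ⊗[k] R) ((l ⊗ₜ 1 : K ⊗[k] A)) := by
        have : (l ⊗ₜ 1 : K ⊗[k] A) = algebraMap (K ⊗[k] R) (K ⊗[k] A) (l ⊗ₜ 1) := by
          show _ = h (l ⊗ₜ 1); simp [h]
        rw [this]; exact isIntegral_algebraMap
      have ha : IsIntegral (K ⊗[k] R) (((1 : K) ⊗ₜ a : K ⊗[k] A)) := by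
        obtain ⟨p, hp, hpa⟩ := Algebra.IsIntegral.isIntegral (R := R) a
        refine ⟨p.map (Algebra.TensorProduct.includeRight : R →ₐ[k] K ⊗[k] R).toRingHom, hp.map _, ?_⟩
        rw [Polynomial.eval₂_map, show (algebraMap (K ⊗[k] R) (K ⊗[k] A)).comp
            (Algebra.TensorProduct.includeRight : R →ₐ[k] K ⊗[k] R).toRingHom =
          (Algebra.TensorProduct.includeRight : A →ₐ[k] K ⊗[k] A).toRingHom.comp (algebraMap R A) by
            refine RingHom.ext fun x => ?_
            show h ((1 : K) ⊗ₜ x) = (1 : K) ⊗ₜ g x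
            simp [h],
          show ((1 : K) ⊗ₜ a : K ⊗[k] A) =
            (Algebra.TensorProduct.includeRight : A →ₐ[k] K ⊗[k] A).toRingHom a from rfl,
          ← Polynomial.hom_eval₂, hpa, map_zero]
      have := hl.mul ha
      rw [Algebra.TensorProduct.tmul_mul_tmul, mul_one, one_mul] at this
      exact this
  let φ : K ⊗[k] R →+* (K ⊗[k] A) ⧸ P := (Ideal.Quotient.mk P).comp h.toRingHom
  letI := φ.toAlgebra
  haveI : Algebra.IsIntegral (K ⊗[k] R) ((K ⊗[k] A) ⧸ P) :=
    ⟨RingHom.IsIntegral.trans _ _ hφ (RingHom.IsIntegral.of_finite (RingHom.Finite.of_surjective _ Ideal.Quotient.mk_surjective))⟩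
  have hφi : Function.Injective φ := by
    rw [injective_iff_map_eq_zero]
    intro z hz
    by_contra hz0
    exact Set.disjoint_left.mp (Ideal.disjoint_nonZeroDivisors_of_mem_minimalPrimes hP)
      (Ideal.Quotient.eq_zero_iff_mem.mp hz) (hnzd z hz0)
  rw [CommAlgDim.ringKrullDim_eq_of_integral (K ⊗[k] R) _ hφi, ringKrullDim_eq_of_ringEquiv e.toRingEquiv,
    CommAlgDim.ringKrullDim_eq_of_integral R A hg, MvPolynomial.ringKrullDim_of_isNoetherianRing,
    MvPolynomial.ringKrullDim_of_isNoetherianRing, ringKrullDim_eq_zero_of_field, ringKrullDim_eq_zero_of_field]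

theorem localDim_baseChange_field {S : Type u} [CommRing S] [Algebra k S] [Algebra.FiniteType k S]
    (qK : PrimeSpectrum (K ⊗[k] S)) :
    FlatMor.localDim (PrimeSpectrum (K ⊗[k] S)) qK = FlatMor.localDim (PrimeSpectrum S)
      (PrimeSpectrum.comap (Algebra.TensorProduct.includeRight : S →ₐ[k] K ⊗[k] S).toRingHom qK) := by
  let ι := (Algebra.TensorProduct.includeRight : S →ₐ[k] K ⊗[k] S).toRingHom
  let q := PrimeSpectrum.comap ι qK
  let m : Spec (CommRingCat.of (K ⊗[k] S)) ⟶ Spec (CommRingCat.of K) :=
    Spec.map (CommRingCat.ofHom (algebraMap K (K ⊗[k] S)))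
  have : LocallyOfFiniteType m := by
    rw [HasRingHomProperty.Spec_iff (P := @LocallyOfFiniteType)]
    exact RingHom.finiteType_algebraMap.mpr inferInstance
  let n : Spec (CommRingCat.of S) ⟶ Spec (CommRingCat.of k) := Spec.map (CommRingCat.ofHom (algebraMap k S))
  have : LocallyOfFiniteType n := by
    rw [HasRingHomProperty.Spec_iff (P := @LocallyOfFiniteType)]
    exact RingHom.finiteType_algebraMap.mpr inferInstance
  let π (g : PrimeSpectrum S) : K ⊗[k] S →+* K ⊗[k] (S ⧸ g.asIdeal) :=
    (Algebra.TensorProduct.map (AlgHom.id k K) (Ideal.Quotient.mkₐ k g.asIdeal)).toRingHom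
  have hπ : ∀ g, Function.Surjective (π g) := fun g =>
    TensorProduct.map_surjective Function.surjective_id Ideal.Quotient.mk_surjective
  have hker : ∀ g, RingHom.ker (π g) = g.asIdeal.map ι := fun g => by
    refine (Algebra.TensorProduct.lTensor_ker (A := K) (Ideal.Quotient.mkₐ k g.asIdeal)
      Ideal.Quotient.mk_surjective).trans ?_
    congr 1
    exact Ideal.mk_ker
  apply le_antisymm
  · obtain ⟨P, hP, hPq, hd⟩ : ∃ P : PrimeSpectrum (K ⊗[k] S), True ∧ P ⤳ qK ∧
        FlatMor.localDim (PrimeSpectrum (K ⊗[k] S)) qK =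
          topologicalKrullDim (closure ({P} : Set (PrimeSpectrum (K ⊗[k] S)))) := by
      obtain ⟨g, -, hgp, hd⟩ := exists_generic_localDim m (qK : Spec (CommRingCat.of (K ⊗[k] S)))
      exact ⟨g, trivial, hgp, hd⟩
    let g := PrimeSpectrum.comap ι P
    have hgq : g ⤳ q := hPq.map (PrimeSpectrum.continuous_comap _)
    refine hd.trans_le (le_trans ?_ (le_localDim_of_specializes n
      (show (g : Spec (CommRingCat.of S)) ⤳ q from hgq)))
    show _ ≤ topologicalKrullDim (closure ({g} : Set (PrimeSpectrum S)))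
    rw [topologicalKrullDim_closure_prime, topologicalKrullDim_closure_prime,
      ← ringKrullDim_baseChange k K (S ⧸ g.asIdeal),
      ringKrullDim_eq_of_ringEquiv (Algebra.TensorProduct.comm k (S ⧸ g.asIdeal) K).toRingEquiv,
      ← ringKrullDim_eq_of_ringEquiv (RingHom.quotientKerEquivOfSurjective (hπ g))]
    refine ringKrullDim_le_of_surjective (Ideal.Quotient.factor ?_) (Ideal.Quotient.factor_surjective _)
    rw [hker, Ideal.map_le_iff_le_comap]
    exact le_rfl
  · obtain ⟨g, hgq, hd⟩ : ∃ g : PrimeSpectrum S, g ⤳ q ∧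
        FlatMor.localDim (PrimeSpectrum S) q = topologicalKrullDim (closure ({g} : Set (PrimeSpectrum S))) := by
      obtain ⟨g, -, hgp, hd⟩ := exists_generic_localDim n (q : Spec (CommRingCat.of S))
      exact ⟨g, hgp, hd⟩
    have hle : g.asIdeal ≤ q.asIdeal := (PrimeSpectrum.le_iff_specializes _ _).mpr hgq
    have hkq : RingHom.ker (π g) ≤ qK.asIdeal := by
      rw [hker, Ideal.map_le_iff_le_comap]
      exact hle
    haveI : (qK.asIdeal.map (π g)).IsPrime := Ideal.map_isPrime_of_surjective (hπ g) hkq
    obtain ⟨P, hP, hPle⟩ := Ideal.exists_minimalPrimes_le (bot_le : ⊥ ≤ qK.asIdeal.map (π g))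
    haveI := hP.1.1
    let P' : PrimeSpectrum (K ⊗[k] S) := PrimeSpectrum.comap (π g) ⟨P, inferInstance⟩
    have hP' : P' ⤳ qK := by
      rw [← PrimeSpectrum.le_iff_specializes]
      show P.comap (π g) ≤ qK.asIdeal
      refine (Ideal.comap_mono hPle).trans (le_of_eq ?_)
      rw [Ideal.comap_map_of_surjective _ (hπ g), ← RingHom.ker_eq_comap_bot, sup_eq_left.mpr hkq]
    refine le_trans (le_of_eq ?_) (le_localDim_of_specializes m
      (show (P' : Spec (CommRingCat.of (K ⊗[k] S))) ⤳ qK from hP'))
    show _ = topologicalKrullDim (closure ({P'} : Set (PrimeSpectrum (K ⊗[k] S))))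
    rw [hd, topologicalKrullDim_closure_prime, topologicalKrullDim_closure_prime,
      ← ringKrullDim_quotient_minimalPrime_baseChange k K (S ⧸ g.asIdeal) P hP]
    refine (ringKrullDim_eq_of_ringEquiv ((Ideal.quotEquivOfEq ?_).trans
      (RingHom.quotientKerEquivOfSurjective (f := (Ideal.Quotient.mk P).comp (π g))
        (Ideal.Quotient.mk_surjective.comp (hπ g))))).symm
    rw [← RingHom.comap_ker, Ideal.mk_ker]
    rfl

end FibDimLib
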