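import Groth.Agent.FibDimLib.QFAffine
import Groth.Agent.RichLib.FibreLoci
import Groth.Agent.CommAlgDim.Integral

/-! The dimension of the fibres of an algebra of finite type over a domain is constant near the generic point. -/

set_option autoImplicit false

universe u

open MvPolynomial TensorProduct

namespace FibDimLib

variable {A B : Type u} [CommRing A] [CommRing B] [Algebra A B]

theorem one_tmul_algebraMap (p : Ideal A) [p.IsPrime] (a : A) :
    (1 : p.ResidueField) ⊗ₜ[A] algebraMap A B a = algebraMap p.ResidueField (p.Fiber B) (algebraMap A p.ResidueField a) := by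
  rw [Algebra.TensorProduct.algebraMap_apply, Algebra.algebraMap_self, RingHom.id_apply,
    Algebra.algebraMap_eq_smul_one, ← TensorProduct.smul_tmul, Algebra.algebraMap_eq_smul_one]

/-- The map from a polynomial ring to a fibre attached to elements. -/
noncomputable def fiberAeval (p : Ideal A) [p.IsPrime] {s : ℕ} (y : Fin s → B) :
    MvPolynomial (Fin s) p.ResidueField →ₐ[p.ResidueField] p.Fiber B :=
  aeval fun i => (1 : p.ResidueField) ⊗ₜ[A] y i

theorem fiberAeval_map (p : Ideal A) [p.IsPrime] {s : ℕ} (y : Fin s → B) (G : MvPolynomial (Fin s) A) :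
    fiberAeval p y (map (algebraMap A p.ResidueField) G) = (1 : p.ResidueField) ⊗ₜ[A] (aeval y G) := by
  have : (fiberAeval p y).toRingHom.comp (map (algebraMap A p.ResidueField)) =
      (Algebra.TensorProduct.includeRight : B →ₐ[A] p.Fiber B).toRingHom.comp (aeval y : MvPolynomial (Fin s) A →ₐ[A] B).toRingHom := by
    refine MvPolynomial.ringHom_ext (fun a => ?_) (fun i => ?_)
    · simp only [fiberAeval, RingHom.comp_apply, map_C, AlgHom.toRingHom_eq_coe, RingHom.coe_coe, aeval_C,
        Algebra.TensorProduct.includeRight_apply]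
      exact (one_tmul_algebraMap p a).symm
    · simp [fiberAeval]
  exact RingHom.congr_fun this G

variable [IsDomain A]

/-- After scaling, an element integral over the generic polynomial ring is integral. -/
theorem exists_smul_isIntegralElem {s : ℕ} (y : Fin s → B)
    (hint : (fiberAeval (⊥ : Ideal A) y).toRingHom.IsIntegral) (b : B) :
    ∃ a : A, a ≠ 0 ∧ (aeval y : MvPolynomial (Fin s) A →ₐ[A] B).toRingHom.IsIntegralElem (algebraMap A B a * b) := by
  classical
  let K := (⊥ : Ideal A).ResidueField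
  let m := map (σ := Fin s) (algebraMap A K)
  obtain ⟨P, hP, hPb⟩ := hint ((1 : K) ⊗ₜ[A] b)
  choose r hr G hG using fun i : ℕ => exists_smul_mem_range_map (⊥ : Ideal A) (Fin s) (P.coeff i)
  let ρ : A := ∏ i ∈ Finset.range P.natDegree, r i
  have hρ : ρ ≠ 0 := Finset.prod_ne_zero_iff.mpr fun i _ e => hr i (by rw [e]; exact zero_mem _)
  let c : MvPolynomial (Fin s) K := C (algebraMap A K ρ)
  have hlift : P.scaleRoots c ∈ Polynomial.lifts m := by
    rw [Polynomial.lifts_iff_coeff_lifts]
    intro i
    rw [Polynomial.coeff_scaleRoots]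
    rcases lt_trichotomy i P.natDegree with hi | hi | hi
    · obtain ⟨t, ht⟩ : r i ∣ ρ := Finset.dvd_prod_of_mem _ (Finset.mem_range.mpr hi)
      obtain ⟨n, hn⟩ : ∃ n, P.natDegree - i = n + 1 := ⟨P.natDegree - i - 1, by omega⟩
      refine ⟨G i * C (t * ρ ^ n), ?_⟩
      simp only [m, map_mul, map_C, c, hn]
      rw [hG]
      simp only [ht, map_mul, map_pow, pow_succ]
      ring
    · subst hi
      exact ⟨1, by simp [hP.coeff_natDegree]⟩
    · exact ⟨0, by simp [Polynomial.coeff_eq_zero_of_natDegree_lt hi]⟩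
  obtain ⟨Q, hQ, -, hQm⟩ := Polynomial.lifts_and_natDegree_eq_and_monic hlift ((P.monic_scaleRoots_iff c).mpr hP)
  have h0 : (1 : K) ⊗ₜ[A] (Polynomial.eval₂ (aeval y : MvPolynomial (Fin s) A →ₐ[A] B).toRingHom (algebraMap A B ρ * b) Q) = 0 := by
    have e1 : (Algebra.TensorProduct.includeRight : B →ₐ[A] (⊥ : Ideal A).Fiber B).toRingHom.comp (aeval y : MvPolynomial (Fin s) A →ₐ[A] B).toRingHom =
        (fiberAeval (⊥ : Ideal A) y).toRingHom.comp m := RingHom.ext fun G => (fiberAeval_map ⊥ y G).symm
    show (Algebra.TensorProduct.includeRight : B →ₐ[A] (⊥ : Ideal A).Fiber B).toRingHom _ = 0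
    rw [Polynomial.hom_eval₂, e1, ← Polynomial.eval₂_map, hQ, map_mul]
    have e2 : (Algebra.TensorProduct.includeRight : B →ₐ[A] (⊥ : Ideal A).Fiber B).toRingHom (algebraMap A B ρ) =
        (fiberAeval (⊥ : Ideal A) y).toRingHom c := by
      simp only [c, fiberAeval, AlgHom.toRingHom_eq_coe, RingHom.coe_coe, aeval_C,
        Algebra.TensorProduct.includeRight_apply]
      exact one_tmul_algebraMap _ ρ
    rw [e2, Polynomial.scaleRoots_eval₂_mul]
    exact mul_eq_zero_of_right _ hPb
  obtain ⟨t, ht, htQ⟩ := RichLib.FibreLoci.exists_torsion_of_tmul_eq_zero A h0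
  rcases Nat.eq_zero_or_pos Q.natDegree with hd | hd
  · refine ⟨t, ht, ?_⟩
    rw [hQm.natDegree_eq_zero.mp hd, Polynomial.eval₂_one, Algebra.smul_def, mul_one] at htQ
    rw [htQ, zero_mul]
    exact RingHom.isIntegralElem_zero _
  refine ⟨t * ρ, mul_ne_zero ht hρ, Q.scaleRoots (C t), (Q.monic_scaleRoots_iff _).mpr hQm, ?_⟩
  have e : algebraMap A B (t * ρ) * b = (aeval y : MvPolynomial (Fin s) A →ₐ[A] B).toRingHom (C t) * (algebraMap A B ρ * b) := by
    simp [mul_assoc]
  rw [e, Polynomial.scaleRoots_eval₂_mul]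
  obtain ⟨n, hn⟩ : ∃ n, Q.natDegree = n + 1 := ⟨Q.natDegree - 1, by omega⟩
  rw [Algebra.smul_def] at htQ
  rw [hn, pow_succ, mul_assoc, show (aeval y : MvPolynomial (Fin s) A →ₐ[A] B).toRingHom (C t) = algebraMap A B t by simp, htQ, mul_zero]

/-- Primes lift along an injective map which is integral after inverting `a`. -/
theorem exists_prime_over {R : Type u} [CommRing R] [Algebra R B] (hinj : Function.Injective (algebraMap R B))
    (a : R) (hint : ∀ b : B, ∃ n : ℕ, IsIntegral R (algebraMap R B a ^ n * b)) (P : Ideal R) [P.IsPrime]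
    (ha : a ∉ P) : ∃ q : Ideal B, q.IsPrime ∧ q.comap (algebraMap R B) = P := by
  let B' := integralClosure R B
  obtain ⟨q', -, hq', hq'P⟩ := Ideal.exists_ideal_over_prime_of_isIntegral (S := B') P ⊥ (by
    rw [← RingHom.ker_eq_comap_bot,
      (RingHom.injective_iff_ker_eq_bot _).mp (fun x y e => hinj (congrArg Subtype.val e))]
    exact bot_le)
  haveI := hq'
  let α : B' := algebraMap R B' a
  have hα : α ∉ q' := fun h => ha (by rw [← hq'P]; exact h)
  let q : Ideal B :=
    { carrier := {b | ∃ (n : ℕ) (z : B'), (z : B) = algebraMap R B a ^ n * b ∧ z ∈ q'}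
      zero_mem' := ⟨0, 0, by simp, zero_mem _⟩
      add_mem' := by
        rintro b c ⟨n, z, hz, hzq⟩ ⟨m, w, hw, hwq⟩
        refine ⟨n + m, α ^ m * z + α ^ n * w, ?_, add_mem (q'.mul_mem_left _ hzq) (q'.mul_mem_left _ hwq)⟩
        show algebraMap R B a ^ m * (z : B) + algebraMap R B a ^ n * (w : B) = _
        rw [hz, hw, pow_add]; ring
      smul_mem' := by
        rintro c b ⟨n, z, hz, hzq⟩
        obtain ⟨k, hk⟩ := hint c
        refine ⟨k + n, ⟨_, hk⟩ * z, ?_, q'.mul_mem_left _ hzq⟩
        show algebraMap R B a ^ k * c * (z : B) = _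
        rw [hz, smul_eq_mul, pow_add]; ring }
  refine ⟨q, ⟨?_, ?_⟩, ?_⟩
  · intro h
    obtain ⟨n, z, hz, hzq⟩ : (1 : B) ∈ q := h ▸ trivial
    refine hα (hq'.mem_of_pow_mem n ?_)
    convert hzq
    exact Subtype.ext (by rw [hz, mul_one]; rfl)
  · rintro b c ⟨n, z, hz, hzq⟩
    obtain ⟨i, hi⟩ := hint b
    obtain ⟨j, hj⟩ := hint c
    have e : α ^ n * (⟨_, hi⟩ * ⟨_, hj⟩ : B') = α ^ (i + j) * z := Subtype.ext (by
      show algebraMap R B a ^ n * (algebraMap R B a ^ i * b * (algebraMap R B a ^ j * c)) = algebraMap R B a ^ (i + j) * (z : B)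
      rw [hz, pow_add]; ring)
    have hmem : α ^ n * (⟨_, hi⟩ * ⟨_, hj⟩ : B') ∈ q' := e ▸ q'.mul_mem_left _ hzq
    rcases hq'.mem_or_mem ((hq'.mem_or_mem hmem).resolve_left fun h => hα (hq'.mem_of_pow_mem n h)) with h | h
    · exact .inl ⟨i, _, rfl, h⟩
    · exact .inr ⟨j, _, rfl, h⟩
  · ext x
    constructor
    · rintro ⟨n, z, hz, hzq⟩
      have : algebraMap R B' (a ^ n * x) = z := Subtype.ext (by
        show algebraMap R B (a ^ n * x) = _
        rw [hz, map_mul, map_pow])
      have hax : a ^ n * x ∈ P := by rw [← hq'P, Ideal.mem_comap, this]; exact hzq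
      exact (‹P.IsPrime›.mem_or_mem hax).resolve_left fun h => ha (‹P.IsPrime›.mem_of_pow_mem n h)
    · intro hx
      exact ⟨0, algebraMap R B' x, by simp, by rwa [← Ideal.mem_comap, hq'P]⟩

/-- The dimension of the fibres is constant away from a nonzero element of the base. -/
theorem exists_ringKrullDim_fiber_eq [Algebra.FiniteType A B] :
    ∃ (a : A) (d : WithBot ℕ∞), a ≠ 0 ∧
      ∀ (p : Ideal A) [p.IsPrime], a ∉ p → ringKrullDim (p.Fiber B) = d := by
  classical
  let K := (⊥ : Ideal A).ResidueField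
  cases subsingleton_or_nontrivial ((⊥ : Ideal A).Fiber B) with
  | inl hs =>
    obtain ⟨a, ha, h1⟩ := RichLib.FibreLoci.exists_torsion_of_tmul_eq_zero A
      (Subsingleton.elim ((1 : K) ⊗ₜ[A] (1 : B)) 0)
    refine ⟨a, ⊥, ha, fun p _ hap => ?_⟩
    have h : algebraMap A p.ResidueField a • (1 : p.Fiber B) = 0 := by
      rw [algebraMap_smul, Algebra.TensorProduct.one_def, ← TensorProduct.tmul_smul, h1, TensorProduct.tmul_zero]
    have hu : algebraMap A p.ResidueField a ≠ 0 := fun e => hap (Ideal.algebraMap_residueField_eq_zero.mp e)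
    haveI : Subsingleton (p.Fiber B) := subsingleton_of_zero_eq_one ((smul_eq_zero_iff_right hu).mp h).symm
    exact ringKrullDim_eq_bot_of_subsingleton
  | inr hn =>
    obtain ⟨s, g, hg, hgf⟩ := exists_finite_inj_algHom_of_fg K ((⊥ : Ideal A).Fiber B)
    choose r hr y hy using fun i => Ideal.Fiber.exists_smul_eq_one_tmul (⊥ : Ideal A) (g (X i))
    have hu : ∀ i, algebraMap A K (r i) ≠ 0 := fun i e => hr i (Ideal.algebraMap_residueField_eq_zero.mp e)
    let σ : MvPolynomial (Fin s) K →ₐ[K] MvPolynomial (Fin s) K := aeval fun i => C (algebraMap A K (r i)) * X i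
    let τ : MvPolynomial (Fin s) K →ₐ[K] MvPolynomial (Fin s) K := aeval fun i => C (algebraMap A K (r i))⁻¹ * X i
    have hστ : σ.comp τ = AlgHom.id K _ := algHom_ext fun i => by
      simp [σ, τ, ← mul_assoc, ← C_mul, inv_mul_cancel₀ (hu i)]
    have hτσ : τ.comp σ = AlgHom.id K _ := algHom_ext fun i => by
      simp [σ, τ, ← mul_assoc, ← C_mul, mul_inv_cancel₀ (hu i)]
    let e : MvPolynomial (Fin s) K ≃ₐ[K] MvPolynomial (Fin s) K := AlgEquiv.ofAlgHom σ τ hστ hτσ
    have hge : fiberAeval (⊥ : Ideal A) y = g.comp e.toAlgHom := algHom_ext fun i => by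
      simp [fiberAeval, e, σ, ← hy, Algebra.smul_def]
      rfl
    have hinjK : Function.Injective (fiberAeval (⊥ : Ideal A) y) := by
      rw [hge]; exact hg.comp e.injective
    have hintK : (fiberAeval (⊥ : Ideal A) y).toRingHom.IsIntegral := by
      rw [hge]
      exact RingHom.IsIntegral.trans e.toAlgHom.toRingHom g.toRingHom
        (RingHom.IsIntegral.of_finite (RingHom.Finite.of_surjective _ e.surjective)) (RingHom.IsIntegral.of_finite hgf)
    have hinj : Function.Injective (aeval y : MvPolynomial (Fin s) A →ₐ[A] B) := by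
      rw [injective_iff_map_eq_zero]
      intro G hG
      refine map_injective (algebraMap A K) (fun u v huv => ?_) (((map_eq_zero_iff _ hinjK).mp ?_).trans (map_zero _).symm)
      · have := sub_eq_zero.mpr huv
        rw [← map_sub, Ideal.algebraMap_residueField_eq_zero] at this
        exact sub_eq_zero.mp this
      · rw [fiberAeval_map, hG, TensorProduct.tmul_zero]
    obtain ⟨gens, hgens⟩ := (inferInstance : Algebra.FiniteType A B).out
    choose c hc hcint using fun b => exists_smul_isIntegralElem y hintK b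
    let a : A := ∏ b ∈ gens, c b
    have ha : a ≠ 0 := Finset.prod_ne_zero_iff.mpr fun b _ => hc b
    letI : Algebra (MvPolynomial (Fin s) A) B := (aeval y : MvPolynomial (Fin s) A →ₐ[A] B).toRingHom.toAlgebra
    have hC : ∀ x : A, algebraMap (MvPolynomial (Fin s) A) B (C x) = algebraMap A B x := fun x => aeval_C _ x
    have hBint : ∀ b : B, ∃ n : ℕ, IsIntegral (MvPolynomial (Fin s) A) (algebraMap (MvPolynomial (Fin s) A) B (C a) ^ n * b) := by
      intro b
      have hb : b ∈ Algebra.adjoin A (gens : Set B) := hgens ▸ trivial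
      induction hb using Algebra.adjoin_induction with
      | mem x hx =>
        obtain ⟨d, hd⟩ := Finset.dvd_prod_of_mem c hx
        refine ⟨1, ?_⟩
        rw [pow_one, hC, show a = d * c x from hd.trans (mul_comm _ _), map_mul, mul_assoc, ← hC d]
        exact isIntegral_algebraMap.mul (hcint x)
      | algebraMap x => exact ⟨0, by rw [pow_zero, one_mul, ← hC]; exact isIntegral_algebraMap⟩
      | add x z _ _ hx hz =>
        obtain ⟨n, hn⟩ := hx
        obtain ⟨m, hm⟩ := hz
        refine ⟨n + m, ?_⟩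
        rw [show ∀ t : B, t ^ (n + m) * (x + z) = t ^ m * (t ^ n * x) + t ^ n * (t ^ m * z) from fun t => by ring]
        exact ((isIntegral_algebraMap.pow m).mul hn).add ((isIntegral_algebraMap.pow n).mul hm)
      | mul x z _ _ hx hz =>
        obtain ⟨n, hn⟩ := hx
        obtain ⟨m, hm⟩ := hz
        refine ⟨n + m, ?_⟩
        rw [show ∀ t : B, t ^ (n + m) * (x * z) = t ^ n * x * (t ^ m * z) from fun t => by ring]
        exact hn.mul hm
    refine ⟨a, (s : WithBot ℕ∞), ha, fun p _ hap => ?_⟩
    let k := p.ResidueField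
    let ψ := fiberAeval p y
    have hua : IsUnit (algebraMap A k a) :=
      Ne.isUnit fun e => hap (Ideal.algebraMap_residueField_eq_zero.mp e)
    letI : Algebra (MvPolynomial (Fin s) k) (p.Fiber B) := ψ.toRingHom.toAlgebra
    haveI : Algebra.IsIntegral (MvPolynomial (Fin s) k) (p.Fiber B) := ⟨fun z => by
      induction z using TensorProduct.induction_on with
      | zero => exact isIntegral_zero
      | add x w hx hw => exact hx.add hw
      | tmul l b =>
        obtain ⟨n, hn⟩ := hBint b
        obtain ⟨v, hv⟩ := (hua.pow n).exists_left_inv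
        have h1 : IsIntegral (MvPolynomial (Fin s) k)
            ((1 : k) ⊗ₜ[A] (algebraMap (MvPolynomial (Fin s) A) B (C a) ^ n * b) : p.Fiber B) := by
          obtain ⟨Q, hQ, hQb⟩ := hn
          refine ⟨Q.map (map (algebraMap A k)), hQ.map _, ?_⟩
          rw [Polynomial.eval₂_map, show (algebraMap (MvPolynomial (Fin s) k) (p.Fiber B)).comp (map (algebraMap A k)) =
            (Algebra.TensorProduct.includeRight : B →ₐ[A] p.Fiber B).toRingHom.comp
              (algebraMap (MvPolynomial (Fin s) A) B) from RingHom.ext fun G => fiberAeval_map p y G,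
            show ((1 : k) ⊗ₜ[A] _ : p.Fiber B) = (Algebra.TensorProduct.includeRight : B →ₐ[A] p.Fiber B).toRingHom _ from rfl,
            ← Polynomial.hom_eval₂, hQb, map_zero]
        have h2 : IsIntegral (MvPolynomial (Fin s) k) (algebraMap k (p.Fiber B) (l * v)) := by
          have : algebraMap k (p.Fiber B) (l * v) = algebraMap (MvPolynomial (Fin s) k) (p.Fiber B) (C (l * v)) :=
            (AlgHom.commutes ψ (l * v)).symm
          rw [this]; exact isIntegral_algebraMap
        have := h2.mul h1
        rw [hC, ← map_pow, show (1 : k) ⊗ₜ[A] (algebraMap A B (a ^ n) * b) = (algebraMap A k (a ^ n)) ⊗ₜ[A] b by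
          rw [← Algebra.smul_def, ← TensorProduct.smul_tmul, Algebra.algebraMap_eq_smul_one],
          Algebra.TensorProduct.algebraMap_apply, Algebra.algebraMap_self, RingHom.id_apply,
          Algebra.TensorProduct.tmul_mul_tmul, one_mul, mul_assoc, map_pow, hv, mul_one] at this
        exact this⟩
    have hψ : Function.Injective (algebraMap (MvPolynomial (Fin s) k) (p.Fiber B)) := by
      rw [injective_iff_map_eq_zero]
      intro F hF
      refine IsReduced.eq_zero F (nilpotent_iff_mem_prime.mpr fun P' hP' => ?_)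
      haveI := hP'
      obtain ⟨r, hr, G, hG⟩ := exists_smul_mem_range_map p (Fin s) F
      let P := P'.comap (map (algebraMap A k))
      have hPA : ∀ x : A, C x ∈ P ↔ x ∈ p := fun x => by
        show map (algebraMap A k) (C x) ∈ P' ↔ _
        rw [map_C]
        refine ⟨fun h => Ideal.algebraMap_residueField_eq_zero.mp (by_contra fun h0 =>
          hP'.ne_top (Ideal.eq_top_of_isUnit_mem _ h ((Ne.isUnit h0).map C))), fun h => ?_⟩
        rw [Ideal.algebraMap_residueField_eq_zero.mpr h, map_zero]
        exact zero_mem _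
      obtain ⟨q, hq, hqP⟩ := exists_prime_over hinj (C a) hBint P (fun h => hap ((hPA a).mp h))
      have hqp : PrimeSpectrum.comap (algebraMap A B) ⟨q, hq⟩ = ⟨p, inferInstance⟩ := PrimeSpectrum.ext <| by
        ext x
        rw [PrimeSpectrum.comap_asIdeal, Ideal.mem_comap, ← hC, ← Ideal.mem_comap, hqP]
        exact hPA x
      obtain ⟨Q, hQ⟩ := (PrimeSpectrum.preimageEquivFiber A B ⟨p, inferInstance⟩).symm.surjective ⟨⟨q, hq⟩, hqp⟩
      have hQ' : Q.asIdeal.comap (Algebra.TensorProduct.includeRight : B →ₐ[A] p.Fiber B).toRingHom = q := by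
        exact congrArg (fun z => z.1.asIdeal) hQ
      have h0 : ψ (map (algebraMap A k) G) = 0 := by
        rw [hG, map_mul, show ψ F = 0 from hF, mul_zero]
      have hGq : aeval y G ∈ q := by
        rw [← hQ', Ideal.mem_comap]
        show (1 : k) ⊗ₜ[A] aeval y G ∈ Q.asIdeal
        rw [← fiberAeval_map, h0]; exact zero_mem _
      have : map (algebraMap A k) G ∈ P' := by
        show G ∈ P
        rw [← hqP]; exact hGq
      rw [hG] at this
      exact (hP'.mem_or_mem this).resolve_left fun h =>
        hr ((hPA r).mp (by show map (algebraMap A k) (C r) ∈ P'; rw [map_C]; exact h))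
    rw [CommAlgDim.ringKrullDim_eq_of_integral (MvPolynomial (Fin s) k) (p.Fiber B) hψ,
      MvPolynomial.ringKrullDim_of_isNoetherianRing, ringKrullDim_eq_zero_of_field, zero_add]
    simp

end FibDimLib
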