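import Mathlib
import Groth.Prelude.Def_Flat
import Groth.Agent.FibDimLib.QFAffine
import Groth.Agent.RichLib.QFLocusConstructible
import Groth.Agent.CommAlgDim.Integral
import Groth.Agent.WeilLib.Dim
import Groth.Agent.S2100

/-!
Quasi-finite maps to affine space with prescribed image of a point.
-/

set_option autoImplicit false
set_option synthInstance.maxHeartbeats 400000
set_option maxHeartbeats 1000000
universe u
open CAlg TopologicalSpace TensorProduct

namespace FibDimLib

/-- Contraction of a coordinate subspace under a rescaling of coordinates. -/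
theorem comap_span_X_smul {k : Type u} [Field k] {n : ℕ} (lam : Fin n → k) (hlam : ∀ i, lam i ≠ 0)
    {ι : Type*} {f : ι → Fin n} :
    (Ideal.span (Set.range fun i => (MvPolynomial.X (f i) : MvPolynomial (Fin n) k))).comap
      (MvPolynomial.aeval fun i ↦ lam i • (MvPolynomial.X i : MvPolynomial (Fin n) k)) =
      Ideal.span (Set.range fun i => (MvPolynomial.X (f i) : MvPolynomial (Fin n) k)) := by
  let σ : MvPolynomial (Fin n) k →ₐ[k] MvPolynomial (Fin n) k :=
    MvPolynomial.aeval fun i ↦ lam i • MvPolynomial.X i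
  let τ : MvPolynomial (Fin n) k →ₐ[k] MvPolynomial (Fin n) k :=
    MvPolynomial.aeval fun i ↦ (lam i)⁻¹ • MvPolynomial.X i
  have hτσ : ∀ x, τ (σ x) = x := by
    intro x
    have : τ.comp σ = AlgHom.id k _ := by
      ext1 i
      simp [σ, τ, smul_smul, mul_inv_cancel₀ (hlam i)]
    exact AlgHom.congr_fun this x
  let I := Ideal.span (Set.range fun i => (MvPolynomial.X (f i) : MvPolynomial (Fin n) k))
  have hstab : ∀ c : Fin n → k, I.map (MvPolynomial.aeval fun i ↦ c i • (MvPolynomial.X i : MvPolynomial (Fin n) k)) ≤ I := by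
    intro c
    rw [Ideal.map_span, Ideal.span_le]
    rintro _ ⟨_, ⟨i, rfl⟩, rfl⟩
    rw [MvPolynomial.aeval_X, Algebra.smul_def]
    exact I.mul_mem_left _ (Ideal.subset_span ⟨i, rfl⟩)
  refine le_antisymm (fun x hx => ?_) (Ideal.map_le_iff_le_comap.mp (hstab lam))
  have h := hstab (fun i => (lam i)⁻¹) (Ideal.mem_map_of_mem _ (Ideal.mem_comap.mp hx))
  exact (hτσ x) ▸ h

/-- Contraction to `R[X]` of a coordinate subspace over a residue field. -/
theorem comap_map_span_X {R : Type u} [CommRing R] (p : Ideal R) [p.IsPrime] {n : ℕ}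
    {P : Fin n → Prop} :
    (Ideal.span (Set.range fun i : {i : Fin n // P i} =>
        (MvPolynomial.X (i : Fin n) : MvPolynomial (Fin n) p.ResidueField))).comap
        (MvPolynomial.map (algebraMap R p.ResidueField)) =
      p.map (algebraMap R (MvPolynomial (Fin n) R)) ⊔
        Ideal.span (Set.range fun i : {i : Fin n // P i} =>
          (MvPolynomial.X (i : Fin n) : MvPolynomial (Fin n) R)) := by
  classical
  refine le_antisymm (fun x hx => ?_) (sup_le ?_ ?_)
  · rw [Ideal.mem_comap, show (Set.range fun i : {i : Fin n // P i} =>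
      (MvPolynomial.X (i : Fin n) : MvPolynomial (Fin n) p.ResidueField)) =
        MvPolynomial.X '' {i | P i} by ext; simp, MvPolynomial.mem_ideal_span_X_image] at hx
    rw [MvPolynomial.as_sum x]
    refine Ideal.sum_mem _ fun m hm => ?_
    by_cases hsupp : ∃ i, P i ∧ m i ≠ 0
    · obtain ⟨i, hi, hmi⟩ := hsupp
      refine Ideal.mem_sup_right ?_
      have hd : (MvPolynomial.X i : MvPolynomial (Fin n) R) ∣ MvPolynomial.monomial m (x.coeff m) :=
        MvPolynomial.X_dvd_monomial.mpr (Or.inr hmi)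
      exact Ideal.mem_of_dvd _ hd (Ideal.subset_span ⟨⟨i, hi⟩, rfl⟩)
    · refine Ideal.mem_sup_left ?_
      have hc : x.coeff m ∈ p := by
        by_contra hc
        refine hsupp ?_
        exact hx m (MvPolynomial.mem_support_iff.mpr (by
          rw [MvPolynomial.coeff_map]
          exact fun e => hc (Ideal.algebraMap_residueField_eq_zero.mp e)))
      rw [← mul_one (x.coeff m), ← MvPolynomial.C_mul_monomial]
      exact Ideal.mul_mem_right _ _ (Ideal.mem_map_of_mem _ hc)
  · rw [Ideal.map_le_iff_le_comap]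
    intro r hr
    rw [Ideal.mem_comap, Ideal.mem_comap, MvPolynomial.algebraMap_eq, MvPolynomial.map_C,
      Ideal.algebraMap_residueField_eq_zero.mpr hr, map_zero]
    exact Ideal.zero_mem _
  · rw [Ideal.span_le]
    rintro _ ⟨i, rfl⟩
    rw [SetLike.mem_coe, Ideal.mem_comap, MvPolynomial.map_X]
    exact Ideal.subset_span ⟨i, rfl⟩

/-- A map which is surjective up to fractions gives the same transcendence degree of residue fields. -/
theorem trdeg_residueField_eq {R S F : Type u} [CommRing R] [CommRing S] [CommRing F]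
    [Algebra R S] [Algebra R F] (p : Ideal R) [p.IsPrime] [Algebra p.ResidueField F]
    [IsScalarTower R p.ResidueField F]
    (q : Ideal S) [q.IsPrime] [Algebra p.ResidueField q.ResidueField]
    [IsScalarTower R p.ResidueField q.ResidueField]
    (Q : Ideal F) [Q.IsPrime] (h : S →ₐ[R] F) (hq : q = Q.comap h.toRingHom)
    (H : ∀ t : F, ∃ (l : p.ResidueField) (d : S), d ∉ Q.comap h.toRingHom ∧
      ∃ s : S, t * h d = algebraMap p.ResidueField F l * h s) :
    Algebra.trdeg p.ResidueField q.ResidueField = Algebra.trdeg p.ResidueField Q.ResidueField := by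
  let e : q.ResidueField →ₐ[R] Q.ResidueField := Ideal.ResidueField.mapₐ q Q h hq
  have hcomp : e.toRingHom.comp (algebraMap p.ResidueField q.ResidueField) =
      algebraMap p.ResidueField Q.ResidueField := by
    refine Ideal.ResidueField.ringHom_ext (RingHom.ext fun r => ?_)
    show e (algebraMap p.ResidueField q.ResidueField (algebraMap R p.ResidueField r)) = _
    rw [← IsScalarTower.algebraMap_apply, e.commutes, RingHom.comp_apply,
      ← IsScalarTower.algebraMap_apply]
  let e' : q.ResidueField →ₐ[p.ResidueField] Q.ResidueField :=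
    { e.toRingHom with commutes' := fun c => RingHom.congr_fun hcomp c }
  have he : ∀ s : S, e' (algebraMap S q.ResidueField s) = algebraMap F Q.ResidueField (h s) :=
    fun s => Ideal.ResidueField.map_algebraMap _ _ _ _ s
  have himg : ∀ t : F, algebraMap F Q.ResidueField t ∈ e'.toRingHom.fieldRange := by
    intro t
    obtain ⟨l, d, hd, s, hs⟩ := H t
    have hd0 : algebraMap F Q.ResidueField (h d) ≠ 0 :=
      fun e0 => hd (show h d ∈ Q from Ideal.algebraMap_residueField_eq_zero.mp e0)
    have h1 := congrArg (algebraMap F Q.ResidueField) hs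
    rw [map_mul, map_mul, ← IsScalarTower.algebraMap_apply] at h1
    rw [eq_div_of_mul_eq hd0 h1, ← he, ← he, ← e'.commutes]
    exact div_mem (mul_mem ⟨_, rfl⟩ ⟨_, rfl⟩) ⟨_, rfl⟩
  refine (AlgEquiv.ofBijective e' ⟨e'.toRingHom.injective, fun z => ?_⟩).trdeg_eq
  obtain ⟨x, y, -, rfl⟩ := IsFractionRing.div_surjective (A := F ⧸ Q) z
  obtain ⟨x, rfl⟩ := Ideal.Quotient.mk_surjective x
  obtain ⟨y, rfl⟩ := Ideal.Quotient.mk_surjective y
  exact (div_mem (himg x) (himg y) : _ ∈ e'.toRingHom.fieldRange)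

/-- A finite map does not change transcendence degrees of residue fields. -/
theorem trdeg_residueField_comap {k A B : Type u} [Field k] [CommRing A] [CommRing B]
    [Algebra k A] [Algebra k B] [Algebra.FiniteType k A] [Algebra.FiniteType k B]
    (g : A →ₐ[k] B) (hg : g.toRingHom.Finite) (Q : Ideal B) [Q.IsPrime] :
    Algebra.trdeg k (Q.comap g).ResidueField = Algebra.trdeg k Q.ResidueField := by
  obtain ⟨s, hs, hs'⟩ := WeilLib.dim_eq_trdeg k (A ⧸ Q.comap g) (Q.comap g).ResidueField
  obtain ⟨t, ht, ht'⟩ := WeilLib.dim_eq_trdeg k (B ⧸ Q) Q.ResidueField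
  let f : A ⧸ Q.comap g →+* B ⧸ Q := Ideal.quotientMap Q g.toRingHom le_rfl
  letI := f.toAlgebra
  have hf : f.Finite := by
    refine RingHom.Finite.of_comp_finite (f := Ideal.Quotient.mk (Q.comap g)) ?_
    rw [show f.comp (Ideal.Quotient.mk (Q.comap g)) = (Ideal.Quotient.mk Q).comp g.toRingHom from
      RingHom.ext fun x => rfl]
    exact RingHom.Finite.comp (RingHom.Finite.of_surjective _ Ideal.Quotient.mk_surjective) hg
  have : Module.Finite (A ⧸ Q.comap g) (B ⧸ Q) := hf
  have h := CommAlgDim.ringKrullDim_eq_of_integral (A ⧸ Q.comap g) (B ⧸ Q)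
    (Ideal.quotientMap_injective' le_rfl)
  rw [hs, ht] at h
  have h' : t = s := by exact_mod_cast h
  rw [hs', ht', h']

/-- Quasi-finiteness at a point of a basic open spreads to a smaller basic open. -/
theorem exists_quasiFinite_away_comap {R S P : Type u} [CommRing R] [CommRing S] [CommRing P] [Algebra R S]
    [Algebra R P] [Algebra.FiniteType R S] (b : S) (φ₀ : P →ₐ[R] Localization.Away b)
    (q : Ideal S) [q.IsPrime] (hbq : b ∉ q) (qb : PrimeSpectrum (Localization.Away b))
    (hqb : qb.asIdeal.comap (algebraMap S (Localization.Away b)) = q)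
    (H : letI := φ₀.toRingHom.toAlgebra; Algebra.QuasiFiniteAt P qb.asIdeal) :
    ∃ g : S, g ∉ q ∧ ∃ φ : P →ₐ[R] Localization.Away g,
      φ.toRingHom.FiniteType ∧ φ.toRingHom.QuasiFinite ∧
        (q.map (algebraMap S (Localization.Away g))).comap φ = qb.asIdeal.comap φ₀ := by
  let Sb := Localization.Away b
  letI : Algebra P Sb := φ₀.toRingHom.toAlgebra
  have : IsScalarTower R P Sb := IsScalarTower.of_algebraMap_eq fun x ↦ (φ₀.commutes x).symm
  have : Algebra.FiniteType R Sb := Algebra.FiniteType.trans (S := S) inferInstance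
    (IsLocalization.finiteType_of_monoid_fg (Submonoid.powers b) Sb)
  have : Algebra.FiniteType P Sb := Algebra.FiniteType.of_restrictScalars_finiteType R P Sb
  obtain ⟨_, ⟨z, rfl⟩, hzq, hzsub⟩ := PrimeSpectrum.isTopologicalBasis_basic_opens.exists_subset_of_mem_open
    (show qb ∈ {q : PrimeSpectrum Sb | Algebra.QuasiFiniteAt P q.asIdeal} from H)
    (RichLib.QFLocus.isOpen_setOf_quasiFiniteAt P Sb)
  obtain ⟨m, c, hc⟩ := IsLocalization.Away.surj b z
  have hcq : c ∉ q := by
    intro e
    rw [← hqb, Ideal.mem_comap, ← hc] at e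
    refine (qb.isPrime.mem_or_mem e).elim hzq
      fun e'' ↦ qb.isPrime.ne_top (Ideal.eq_top_of_isUnit_mem _ e''
        ((IsLocalization.Away.algebraMap_isUnit b).pow m))
  refine ⟨b * c, fun e ↦ ((inferInstance : q.IsPrime).mem_or_mem e).elim hbq hcq, ?_⟩
  let Sg := Localization.Away (algebraMap S Sb c)
  have : IsLocalization.Away (b * c) Sg := IsLocalization.Away.mul' Sb Sg b c
  let e : Sg ≃ₐ[S] Localization.Away (b * c) :=
    IsLocalization.algEquiv (Submonoid.powers (b * c)) Sg (Localization.Away (b * c))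
  let eR : Sg ≃ₐ[R] Localization.Away (b * c) := e.restrictScalars R
  refine ⟨(eR.toAlgHom.comp (IsScalarTower.toAlgHom R Sb Sg)).comp φ₀, ?_⟩
  have : Algebra.FiniteType Sb Sg :=
    IsLocalization.finiteType_of_monoid_fg (Submonoid.powers (algebraMap S Sb c)) Sg
  have hft : Algebra.FiniteType P Sg := Algebra.FiniteType.trans (S := Sb) inferInstance inferInstance
  have hgq : Disjoint ((Submonoid.powers (b * c) : Submonoid S) : Set S) (q : Set S) :=
    (Ideal.disjoint_powers_iff_notMem _ (inferInstance : q.IsPrime).isRadical).mpr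
      (fun e ↦ ((inferInstance : q.IsPrime).mem_or_mem e).elim hbq hcq)
  let qg := q.map (algebraMap S (Localization.Away (b * c)))
  have hqgp : qg.IsPrime :=
    IsLocalization.isPrime_of_isPrime_disjoint (Submonoid.powers (b * c)) _ _ inferInstance hgq
  have hqgc : qg.comap (algebraMap S (Localization.Away (b * c))) = q :=
    IsLocalization.under_map_of_isPrime_disjoint (Submonoid.powers (b * c)) _ inferInstance hgq
  let j : Sb →ₐ[R] Localization.Away (b * c) := eR.toAlgHom.comp (IsScalarTower.toAlgHom R Sb Sg)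
  have hj : PrimeSpectrum.comap j.toRingHom ⟨qg, hqgp⟩ = qb := by
    refine PrimeSpectrum.localization_comap_injective Sb (Submonoid.powers b) (PrimeSpectrum.ext ?_)
    show (qg.comap j.toRingHom).comap (algebraMap S Sb) = qb.asIdeal.comap (algebraMap S Sb)
    rw [hqb, Ideal.comap_comap]
    refine Eq.trans ?_ hqgc
    congr 1
    ext x
    show e (algebraMap Sb Sg (algebraMap S Sb x)) = _
    rw [← IsScalarTower.algebraMap_apply, e.commutes]
  have hcom : qg.comap ((eR.toAlgHom.comp (IsScalarTower.toAlgHom R Sb Sg)).comp φ₀) =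
      qb.asIdeal.comap φ₀ := by
    rw [← hj]; rfl
  suffices hqf : Algebra.QuasiFinite P Sg by
    have hf : (eR.toRingEquiv.toRingHom).Finite := RingHom.Finite.of_surjective _ eR.surjective
    have key : ((eR.toAlgHom.comp (IsScalarTower.toAlgHom R Sb Sg)).comp φ₀).toRingHom =
        eR.toRingEquiv.toRingHom.comp (algebraMap P Sg) := by
      rw [IsScalarTower.algebraMap_eq P Sb Sg]; rfl
    rw [key]
    exact ⟨RingHom.FiniteType.comp (RingHom.FiniteType.of_surjective _ eR.surjective)
        (RingHom.finiteType_algebraMap.mpr hft),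
      (RingHom.QuasiFinite.of_finite hf).comp (RingHom.quasiFinite_algebraMap.mpr hqf), hcom⟩
  refine quasiFinite_of_forall (A := P) fun q' ↦ ?_
  let q₀ := PrimeSpectrum.comap (algebraMap Sb Sg) q'
  have hq₀ : algebraMap S Sb c ∉ q₀.asIdeal := fun e ↦ q'.isPrime.ne_top
    (Ideal.eq_top_of_isUnit_mem _ e (IsLocalization.Away.algebraMap_isUnit _))
  have : Algebra.QuasiFiniteAt P q₀.asIdeal := hzsub (fun e ↦ hq₀ (by
    rw [← hc]; exact q₀.asIdeal.mul_mem_right _ e))
  have : q'.asIdeal.LiesOver q₀.asIdeal := ⟨rfl⟩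
  exact Algebra.QuasiFiniteAt.of_surjectiveOnStalks_of_liesOver q₀.asIdeal
    (RingHom.surjectiveOnStalks_of_isLocalization (Submonoid.powers (algebraMap S Sb c)) Sg) q'.asIdeal

variable (R S : Type u) [CommRing R] [CommRing S] [Algebra R S] [Algebra.FiniteType R S]

/-- At a point with fibre dimension `n` some basic open maps quasi-finitely to affine `n`-space,
with the point going to the generic point of a linear coordinate subspace over `p`. -/
theorem exists_quasiFinite_mvPolynomial_prescribed (p : Ideal R) [p.IsPrime] (q : Ideal S) [q.IsPrime]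
    [q.LiesOver p] (Q : PrimeSpectrum (p.Fiber S))
    (hQ : Q.asIdeal.comap (Algebra.TensorProduct.includeRight.toRingHom) = q) (n : ℕ)
    (hdim : FlatMor.localDim (PrimeSpectrum (p.Fiber S)) Q = (n : WithBot ℕ∞)) (r₀ : ℕ)
    [Algebra p.ResidueField q.ResidueField] [IsScalarTower R p.ResidueField q.ResidueField]
    (hr₀ : Algebra.trdeg p.ResidueField q.ResidueField = r₀) :
    ∃ g : S, g ∉ q ∧ ∃ φ : MvPolynomial (Fin n) R →ₐ[R] Localization.Away g,
      φ.toRingHom.FiniteType ∧ φ.toRingHom.QuasiFinite ∧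
        (q.map (algebraMap S (Localization.Away g))).comap φ =
          p.map (algebraMap R (MvPolynomial (Fin n) R)) ⊔
            Ideal.span (Set.range fun i : {i : Fin n // r₀ ≤ (i : ℕ)} =>
              (MvPolynomial.X (i : Fin n) : MvPolynomial (Fin n) R)) := by
  classical
  let k := p.ResidueField
  let F := p.Fiber S
  obtain ⟨h, hhQ, hh⟩ := exists_basicOpen_dim Q
  rw [hdim] at hh
  obtain ⟨r, hr, b, hb⟩ := Ideal.Fiber.exists_smul_eq_one_tmul _ h
  let ι : S →ₐ[R] F := Algebra.TensorProduct.includeRight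
  have hru : IsUnit (algebraMap R F r) := by
    rw [IsScalarTower.algebraMap_apply R k F]
    refine (IsUnit.mk0 _ ?_).map _
    exact fun e ↦ hr (Ideal.algebraMap_residueField_eq_zero.mp e)
  have hbh : ι b = algebraMap R F r * h := by
    show (1 : k) ⊗ₜ[R] b = _
    rw [← hb, Algebra.smul_def]
  have hιb : ι b ∉ Q.asIdeal := by
    rw [hbh]
    exact fun e ↦ (Q.isPrime.mem_or_mem e).elim
      (fun e' ↦ Q.isPrime.ne_top (Ideal.eq_top_of_isUnit_mem _ e' hru)) hhQ
  have hbq : b ∉ q := fun e ↦ hιb (by rw [← hQ] at e; exact e)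
  let F' := Localization.Away (ι b)
  let Sb := Localization.Away b
  have : Algebra.FiniteType k F := inferInstance
  have : Algebra.FiniteType k F' :=
    Algebra.FiniteType.trans (S := F) inferInstance (IsLocalization.finiteType_of_monoid_fg (Submonoid.powers (ι b)) F')
  have hdimF : ringKrullDim F' = n := by
    rw [← hh]
    have hass : Associated h (ι b) := by
      rw [hbh, mul_comm]
      exact ⟨hru.unit, rfl⟩
    have : IsLocalization.Away h F' := IsLocalization.Away.of_associated hass.symm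
    exact ringKrullDim_eq_of_ringEquiv
      (IsLocalization.algEquiv (Submonoid.powers h) F' (Localization.Away h)).toRingEquiv
  have : Nontrivial F' := by
    rw [← not_subsingleton_iff_nontrivial]
    intro hs
    rw [ringKrullDim_eq_bot_of_subsingleton] at hdimF
    exact WithBot.bot_ne_natCast n hdimF
  obtain ⟨s, g₁, hg₀, hg₁fin⟩ := exists_finite_inj_algHom_of_fg k F'
  have hs : s = n := by
    letI := g₁.toRingHom.toAlgebra
    have : Module.Finite (MvPolynomial (Fin s) k) F' := hg₁fin
    have h1 := CommAlgDim.ringKrullDim_eq_of_integral (MvPolynomial (Fin s) k) F' hg₀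
    rw [hdimF, MvPolynomial.ringKrullDim_of_isNoetherianRing, ringKrullDim_eq_zero_of_field,
      zero_add, Nat.card_eq_fintype_card, Fintype.card_fin] at h1
    exact_mod_cast h1.symm
  subst hs
  -- the map on localizations
  let ψ : Sb →ₐ[R] F' := IsLocalization.liftAlgHom (M := Submonoid.powers b)
    (f := (IsScalarTower.toAlgHom R F F').comp ι) (by
      rintro ⟨_, m, rfl⟩
      simp only [map_pow, AlgHom.coe_comp, Function.comp_apply]
      exact (IsLocalization.Away.algebraMap_isUnit (ι b)).pow m)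
  have hψ : ∀ a : S, ψ (algebraMap S Sb a) = algebraMap F F' (ι a) := fun a ↦ by
    simp [ψ]
  -- lifting elements of the fibre up to scalars
  have hlift : ∀ t : F', ∃ lam : k, lam ≠ 0 ∧ ∃ a : Sb, ψ a = lam • t := by
    intro t
    obtain ⟨m, c, hc⟩ := IsLocalization.Away.surj (ι b) t
    obtain ⟨r', hr', a, ha⟩ := Ideal.Fiber.exists_smul_eq_one_tmul _ c
    refine ⟨algebraMap R k r', fun e ↦ hr' (Ideal.algebraMap_residueField_eq_zero.mp e),
      IsLocalization.mk' Sb a (⟨b ^ m, ⟨m, rfl⟩⟩ : Submonoid.powers b), ?_⟩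
    have hbu : IsUnit (algebraMap F F' (ι b) ^ m) := (IsLocalization.Away.algebraMap_isUnit (ι b)).pow m
    apply hbu.mul_left_injective
    dsimp only
    have e1 : ψ (IsLocalization.mk' Sb a (⟨b ^ m, ⟨m, rfl⟩⟩ : Submonoid.powers b)) * algebraMap F F' (ι b) ^ m =
        algebraMap F F' (ι a) := by
      rw [← hψ, ← map_pow, ← map_mul, ← map_pow, IsLocalization.mk'_spec, hψ]
    rw [e1, smul_mul_assoc, hc, ← algebraMap_smul F (algebraMap R k r') _ ]
    · rw [show ι a = algebraMap R k r' • c from by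
        show (1 : k) ⊗ₜ[R] a = _
        rw [← ha, algebraMap_smul]]
      simp [Algebra.smul_def, ← IsScalarTower.algebraMap_apply]
  let qF' : PrimeSpectrum F' := ⟨Q.asIdeal.map (algebraMap F F'),
    IsLocalization.isPrime_of_isPrime_disjoint (Submonoid.powers (ι b)) _ _ Q.isPrime
      ((Ideal.disjoint_powers_iff_notMem _ Q.isPrime.isRadical).mpr hιb)⟩
  have hqF'c : qF'.asIdeal.comap (algebraMap F F') = Q.asIdeal :=
    IsLocalization.under_map_of_isPrime_disjoint (Submonoid.powers (ι b)) _ Q.isPrime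
      ((Ideal.disjoint_powers_iff_notMem _ Q.isPrime.isRadical).mpr hιb)
  have : qF'.asIdeal.IsPrime := qF'.isPrime
  let h₀ : S →ₐ[R] F' := ψ.comp (IsScalarTower.toAlgHom R S Sb)
  have hq₀ : q = qF'.asIdeal.comap h₀.toRingHom := by
    rw [← hQ, ← hqF'c]
    ext x
    show _ ↔ ψ (algebraMap S Sb x) ∈ qF'.asIdeal
    rw [hψ]
    rfl
  have htr : Algebra.trdeg k qF'.asIdeal.ResidueField = r₀ := by
    rw [← hr₀]
    refine (trdeg_residueField_eq p q qF'.asIdeal h₀ hq₀ fun t ↦ ?_).symm
    obtain ⟨l, hl, a, e⟩ := hlift t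
    obtain ⟨m, s, hs⟩ := IsLocalization.Away.surj b a
    refine ⟨l⁻¹, b ^ m, ?_, s, ?_⟩
    · rw [hq₀.symm]
      exact fun e' ↦ hbq ((inferInstance : q.IsPrime).mem_of_pow_mem m e')
    · show t * ψ (algebraMap S Sb (b ^ m)) = algebraMap k F' l⁻¹ * ψ (algebraMap S Sb s)
      rw [← hs, map_mul, e, map_pow, Algebra.smul_def, ← mul_assoc, ← mul_assoc, ← map_mul,
        inv_mul_cancel₀ hl, map_one, one_mul]
  -- move the image of the point to a coordinate subspace
  have hP0 : (qF'.asIdeal.comap g₁).IsPrime := Ideal.comap_isPrime _ _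
  obtain ⟨φ₁, hφ₁, hφ₁P⟩ := Groth.Agent.S2100.result s r₀ (qF'.asIdeal.comap g₁)
    ((trdeg_residueField_comap g₁ hg₁fin qF'.asIdeal).trans htr)
  let g₀ := g₁.comp φ₁
  have hg₀fin : g₀.toRingHom.Finite := RingHom.Finite.comp hg₁fin hφ₁
  choose lam hlam a ha using fun i : Fin s ↦ hlift (g₀ (MvPolynomial.X i))
  let φ₀ : MvPolynomial (Fin s) R →ₐ[R] Sb := MvPolynomial.aeval a
  let g' : MvPolynomial (Fin s) k →ₐ[k] F' :=
    g₀.comp (MvPolynomial.aeval fun i ↦ lam i • MvPolynomial.X i)
  have hg'X : ∀ i, g' (MvPolynomial.X i) = ψ (a i) := fun i ↦ by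
    simp [g', ha]
  have hg'fin : g'.toRingHom.Finite := by
    refine RingHom.Finite.comp hg₀fin (RingHom.Finite.of_surjective _ ?_)
    show Function.Surjective
      (MvPolynomial.aeval (R := k) fun i : Fin s ↦ lam i • (MvPolynomial.X i : MvPolynomial (Fin s) k))
    rw [← AlgHom.range_eq_top,
      ← top_le_iff, ← MvPolynomial.adjoin_range_X, Algebra.adjoin_le_iff]
    rintro _ ⟨i, rfl⟩
    exact ⟨(lam i)⁻¹ • MvPolynomial.X i, by simp [smul_smul, inv_mul_cancel₀ (hlam i)]⟩
  -- quasi-finiteness at the point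
  let P := MvPolynomial (Fin s) R
  let π : P →+* MvPolynomial (Fin s) k := MvPolynomial.map (algebraMap R k)
  have hcomm : g'.toRingHom.comp π = ψ.toRingHom.comp φ₀.toRingHom := by
    apply MvPolynomial.ringHom_ext
    · intro c
      show g' (MvPolynomial.map (algebraMap R k) (MvPolynomial.C c)) = ψ (φ₀ (MvPolynomial.C c))
      rw [MvPolynomial.map_C, ← MvPolynomial.algebraMap_eq, AlgHom.commutes, ← MvPolynomial.algebraMap_eq,
        AlgHom.commutes, AlgHom.commutes, ← IsScalarTower.algebraMap_apply]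
    · intro i
      show g' (MvPolynomial.map (algebraMap R k) (MvPolynomial.X i)) = _
      rw [MvPolynomial.map_X, hg'X]
      simp [φ₀]
  have hπ : ∀ x, ∃ u : MvPolynomial (Fin s) k, IsUnit u ∧ ∃ a, π a = u * x := by
    intro x
    obtain ⟨r, hr, a, ha⟩ := exists_smul_mem_range_map p (Fin s) x
    exact ⟨_, (IsUnit.mk0 _ fun e ↦ hr (Ideal.algebraMap_residueField_eq_zero.mp e)).map _, a, ha⟩
  have hψu : ∀ x : F', ∃ u : F', IsUnit u ∧ ∃ a, ψ a = u * x := by
    intro x
    obtain ⟨l, hl, a, e⟩ := hlift x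
    exact ⟨_, (IsUnit.mk0 l hl).map (algebraMap k F'), a, by rw [e, Algebra.smul_def]⟩
  have hsurj : ∀ q₁ : PrimeSpectrum Sb, PrimeSpectrum.comap φ₀.toRingHom q₁ ∈
      Set.range (PrimeSpectrum.comap π) → q₁ ∈ Set.range (PrimeSpectrum.comap ψ.toRingHom) := by
    rintro q₁ ⟨r₁, hr₁⟩
    let qS := PrimeSpectrum.comap (algebraMap S Sb) q₁
    have hqp : PrimeSpectrum.comap (algebraMap R S) qS = (⟨p, inferInstance⟩ : PrimeSpectrum R) := by
      have e1 : PrimeSpectrum.comap (algebraMap R P) (PrimeSpectrum.comap φ₀.toRingHom q₁) =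
          PrimeSpectrum.comap (algebraMap R S) qS := by
        rw [← PrimeSpectrum.comap_comp_apply, ← PrimeSpectrum.comap_comp_apply,
          show φ₀.toRingHom.comp (algebraMap R P) = algebraMap R Sb from RingHom.ext φ₀.commutes,
          ← IsScalarTower.algebraMap_eq]
      rw [← e1, ← hr₁]
      apply PrimeSpectrum.ext
      ext x
      show π (MvPolynomial.C x) ∈ r₁.asIdeal ↔ x ∈ p
      rw [show π (MvPolynomial.C x) = MvPolynomial.C (algebraMap R k x) from MvPolynomial.map_C _ x]
      refine ⟨fun h ↦ ?_, fun h ↦ ?_⟩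
      · by_contra hx
        exact r₁.isPrime.ne_top (Ideal.eq_top_of_isUnit_mem _ h
          ((IsUnit.mk0 _ fun e ↦ hx (Ideal.algebraMap_residueField_eq_zero.mp e)).map _))
      · rw [Ideal.algebraMap_residueField_eq_zero.mpr h, map_zero]
        exact zero_mem _
    let Q₂ := PrimeSpectrum.preimageHomeomorphFiber R S ⟨p, inferInstance⟩ ⟨qS, hqp⟩
    have hQ₂ : PrimeSpectrum.comap ι.toRingHom Q₂ = qS :=
      congrArg Subtype.val ((PrimeSpectrum.preimageHomeomorphFiber R S ⟨p, inferInstance⟩).symm_apply_apply ⟨qS, hqp⟩)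
    have hbQ₂ : ι b ∉ Q₂.asIdeal := by
      intro e
      have : b ∈ qS.asIdeal := hQ₂ ▸ e
      exact q₁.isPrime.ne_top (Ideal.eq_top_of_isUnit_mem _ this (IsLocalization.Away.algebraMap_isUnit b))
    obtain ⟨Q₃, hQ₃⟩ : Q₂ ∈ Set.range (PrimeSpectrum.comap (algebraMap F F')) := by
      rw [PrimeSpectrum.localization_away_comap_range F' (ι b)]
      exact hbQ₂
    refine ⟨Q₃, PrimeSpectrum.localization_comap_injective Sb (Submonoid.powers b) ?_⟩
    show _ = qS
    rw [← hQ₂, ← hQ₃]
    apply PrimeSpectrum.ext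
    ext x
    show ψ (algebraMap S Sb x) ∈ Q₃.asIdeal ↔ _
    rw [hψ]
    rfl
  have hqb : (PrimeSpectrum.comap ψ.toRingHom qF').asIdeal.comap (algebraMap S Sb) = q := by
    rw [← hQ, ← hqF'c]
    ext x
    show ψ (algebraMap S Sb x) ∈ qF'.asIdeal ↔ _
    rw [hψ]
    rfl
  have hfib : (PrimeSpectrum.comap ψ.toRingHom qF').asIdeal.comap φ₀ =
      p.map (algebraMap R P) ⊔
        Ideal.span (Set.range fun i : {i : Fin s // r₀ ≤ (i : ℕ)} => (MvPolynomial.X (i : Fin s) : P)) := by
    let σ : MvPolynomial (Fin s) k →ₐ[k] MvPolynomial (Fin s) k :=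
      MvPolynomial.aeval fun i ↦ lam i • MvPolynomial.X i
    have h1 : (PrimeSpectrum.comap ψ.toRingHom qF').asIdeal.comap φ₀ =
        ((Ideal.span (Set.range fun i : {i : Fin s // r₀ ≤ (i : ℕ)} =>
          (MvPolynomial.X (i : Fin s) : MvPolynomial (Fin s) k))).comap σ).comap π := by
      rw [← hφ₁P]
      ext x
      show ψ (φ₀ x) ∈ qF'.asIdeal ↔ g' (π x) ∈ qF'.asIdeal
      rw [show g' (π x) = ψ (φ₀ x) from RingHom.congr_fun hcomm x]
    rw [h1, comap_span_X_smul lam hlam, comap_map_span_X p]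
  have hqfat : letI := φ₀.toRingHom.toAlgebra
      Algebra.QuasiFiniteAt P (PrimeSpectrum.comap ψ.toRingHom qF').asIdeal := by
    letI : Algebra P Sb := φ₀.toRingHom.toAlgebra
    letI : Algebra (MvPolynomial (Fin s) k) F' := g'.toRingHom.toAlgebra
    have : Module.Finite (MvPolynomial (Fin s) k) F' := hg'fin
    have : IsScalarTower R P Sb := IsScalarTower.of_algebraMap_eq fun x ↦ (φ₀.commutes x).symm
    have : Algebra.FiniteType R Sb := Algebra.FiniteType.trans (S := S) inferInstance
      (IsLocalization.finiteType_of_monoid_fg (Submonoid.powers b) Sb)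
    have : Algebra.FiniteType P Sb := Algebra.FiniteType.of_restrictScalars_finiteType R P Sb
    exact quasiFiniteAt_of_finite_lift (P := P) (B := Sb) π ψ.toRingHom hcomm hπ hψu hsurj qF'
  obtain ⟨g, hg, φ, hφ₂, hφ₃, hφ₄⟩ : ∃ g : S, g ∉ q ∧ ∃ φ : P →ₐ[R] Localization.Away g,
      φ.toRingHom.FiniteType ∧ φ.toRingHom.QuasiFinite ∧
        (q.map (algebraMap S (Localization.Away g))).comap φ =
          (PrimeSpectrum.comap ψ.toRingHom qF').asIdeal.comap φ₀ := by
    refine exists_quasiFinite_away_comap b φ₀ q hbq _ hqb ?_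
    exact hqfat
  exact ⟨g, hg, φ, hφ₂, hφ₃, hφ₄.trans hfib⟩

end FibDimLib
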